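import Cfsg.Agent.H670.Palfy.Defs
import Cfsg.Agent.H670.PSolv
import Cfsg.Agent.H681.DegBasic
import Cfsg.Agent.OddOrderCharacters.PF9.CliffGen
import Cfsg.Agent.Characters.CCBasic
import Cfsg.Agent.Lib.MinNormalNonabelian
import Cfsg.Agent.FastGrp
import Cfsg.Agent.Prune
set_option linter.all false
prune_inst 0x7f00000000000000000000000000000000000000000000000000000000000000000000000000000000000000000000000000000000000000000000000000000000000000000000000000000000000000003fffffffffffffffffffffffffffbeffbdffffffff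
open scoped Cfsg.Agent.FastGrp

/-!
# Tools for `FactT1`, `FactT2pre`, `FactT2a` (helper415)

* `exists_retract` : the retraction of `G` onto a complement of the normal subgroup `N`;
* `smul_of_mem` : `N` acts trivially on `LC N`;
* `charDegrees_compl` : the degrees of the complement are degrees of `G`;
* `index_mul_mem` : for `v : LC N` and a degree `d` of the stabilizer of `v` in the complement `H`, the number
  `|H : H_v| d` is a degree of `G`;
* `ito` : the degrees divide the index of a normal abelian subgroup.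
-/

set_option autoImplicit false

namespace Cfsg.Agent.H415.Palfy

open Cfsg Cfsg.Agent.H670.Palfy Cfsg.Agent.Characters.Core Cfsg.Agent.H681.DegBasic

universe u

section Compl

variable {G : Type u} [Group G] {N H : Subgroup G} [hN : N.Normal]

/-- The retraction onto the complement. -/
theorem exists_retract (h : N.IsComplement' H) :
    ∃ ρ : G →* H, (∀ g, ρ g = 1 ↔ g ∈ N) ∧ (∀ k : H, ρ k = k) ∧ Function.Surjective ρ := by
  let e : G ⧸ N ≃* H := (h.symm).QuotientMulEquiv
  have he : ∀ k : H, e (QuotientGroup.mk' N k) = k := by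
    intro k
    rw [← MulEquiv.eq_symm_apply]
    rfl
  refine ⟨e.toMonoidHom.comp (QuotientGroup.mk' N), fun g => ?_, he, fun k => ⟨k, he k⟩⟩
  constructor
  · intro hg
    have h1 : e (QuotientGroup.mk' N g) = 1 := hg
    rw [MulEquiv.map_eq_one_iff] at h1
    exact (QuotientGroup.eq_one_iff g).1 h1
  · intro hg
    show e (QuotientGroup.mk' N g) = 1
    rw [MulEquiv.map_eq_one_iff]
    exact (QuotientGroup.eq_one_iff g).2 hg

/-- `N` acts trivially on its linear characters. -/
theorem smul_of_mem {n : G} (hn : n ∈ N) (v : LC N) : n • v = v := by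
  apply LC.ext
  intro x
  rw [LC.smul_hom]
  have h1 : (⟨n⁻¹ * x * n, by
      have := hN.conj_mem x x.2 n⁻¹
      rwa [inv_inv] at this⟩ : N) = ⟨n, hn⟩⁻¹ * x * ⟨n, hn⟩ := rfl
  rw [h1, map_mul, map_mul, map_inv, mul_comm, mul_inv_cancel_left]

theorem smul_retract {ρ : G →* H} (h1 : ∀ g, ρ g = 1 ↔ g ∈ N) (h2 : ∀ k : H, ρ k = k) (g : G) (v : LC N) :
    ρ g • v = g • v := by
  have h3 : g * ((ρ g : H) : G)⁻¹ ∈ N := by
    rw [← h1, map_mul, map_inv, h2, mul_inv_cancel]
  have h4 : g = g * ((ρ g : H) : G)⁻¹ * ((ρ g : H) : G) := by group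
  conv_rhs => rw [h4, mul_smul, smul_of_mem h3]
  rfl

theorem charDegrees_compl (h : N.IsComplement' H) : charDegrees H ⊆ charDegrees G := by
  obtain ⟨ρ, -, -, h3⟩ := exists_retract h
  exact fun d hd => charDegrees_comp ρ h3 hd

variable [Finite G]

theorem index_mul_mem (h : N.IsComplement' H) (v : LC N) {d : ℕ}
    (hd : d ∈ charDegrees (MulAction.stabilizer H v)) :
    (MulAction.stabilizer H v).index * d ∈ charDegrees G := by
  classical
  obtain ⟨ρ, h1, h2, h3⟩ := exists_retract h
  obtain ⟨ψ, hψ, hψd⟩ := mem_charDegrees.1 hd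
  set T : Subgroup G := (MulAction.stabilizer H v).comap ρ with hTdef
  have hTi : T.index = (MulAction.stabilizer H v).index := Subgroup.index_comap_of_surjective _ h3
  have hmem : ∀ g, g ∈ T ↔ g • v = v := by
    intro g
    rw [hTdef, Subgroup.mem_comap, MulAction.mem_stabilizer_iff, smul_retract h1 h2]
  have hNT : N ≤ T := fun n hn => (hmem n).2 (smul_of_mem hn v)
  have hT : ∀ g, g ∈ T ↔ OddOrderCharacters.NormalInduced.conjFn N (fun n => (v.hom n : ℂ)) g =
      fun n => (v.hom n : ℂ) := by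
    intro g
    rw [← inv_mem_iff, hmem, funext_iff]
    constructor
    · intro hg n
      show (v.hom ⟨g * n * g⁻¹, _⟩ : ℂ) = v.hom n
      have e1 := LC.smul_hom N g⁻¹ v n
      rw [hg] at e1
      rw [e1]
      congr 3
      simp
    · intro hg
      apply LC.ext
      intro n
      rw [LC.smul_hom]
      apply Units.ext
      have e1 : (v.hom ⟨g * n * g⁻¹, hN.conj_mem n n.2 g⟩ : ℂ) = v.hom n := hg n
      rw [← e1]
      congr 3
      simp
  -- the extension
  have hmul : ∀ t : T, (t : G) * ((ρ t : H) : G)⁻¹ ∈ N := by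
    intro t
    rw [← h1, map_mul, map_inv, h2, mul_inv_cancel]
  let F : T →* ℂˣ :=
    { toFun := fun t => v.hom ⟨(t : G) * ((ρ t : H) : G)⁻¹, hmul t⟩
      map_one' := by
        have e1 : (⟨((1 : T) : G) * ((ρ ((1 : T) : G) : H) : G)⁻¹, hmul 1⟩ : N) = 1 := by
          apply Subtype.ext
          simp
        rw [e1, map_one]
      map_mul' := by
        intro s t
        have hs : (s : G)⁻¹ • v = v := (hmem _).1 (inv_mem s.2)
        have e1 := LC.smul_hom N (s : G)⁻¹ v ⟨(t : G) * ((ρ t : H) : G)⁻¹, hmul t⟩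
        rw [hs] at e1
        have hn : (s : G)⁻¹⁻¹ * ((t : G) * ((ρ t : H) : G)⁻¹) * (s : G)⁻¹ ∈ N := by
          rw [inv_inv]
          exact hN.conj_mem _ (hmul t) s
        have e2 : (⟨((s * t : T) : G) * ((ρ ((s * t : T) : G) : H) : G)⁻¹, hmul (s * t)⟩ : N) =
            ⟨(s : G)⁻¹⁻¹ * ((t : G) * ((ρ t : H) : G)⁻¹) * (s : G)⁻¹, hn⟩ * ⟨(s : G) * ((ρ s : H) : G)⁻¹, hmul s⟩ := by
          apply Subtype.ext
          show ((s * t : T) : G) * ((ρ ((s * t : T) : G) : H) : G)⁻¹ =
            (s : G)⁻¹⁻¹ * ((t : G) * ((ρ t : H) : G)⁻¹) * (s : G)⁻¹ * ((s : G) * ((ρ s : H) : G)⁻¹)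
          rw [Subgroup.coe_mul, map_mul, Subgroup.coe_mul]
          group
        rw [e2, map_mul, ← e1, mul_comm] }
  have hF : ∀ n : N, F ⟨n, hNT n.2⟩ = v.hom n := by
    intro n
    show v.hom ⟨(n : G) * ((ρ n : H) : G)⁻¹, _⟩ = v.hom n
    congr 1
    apply Subtype.ext
    show (n : G) * ((ρ n : H) : G)⁻¹ = n
    rw [(h1 n).2 n.2, Subgroup.coe_one, inv_one, mul_one]
  let π : T →* MulAction.stabilizer H v := ρ.subgroupComap (MulAction.stabilizer H v)
  have hπ : Function.Surjective π := ρ.subgroupComap_surjective_of_surjective _ h3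
  have hψ' : IsIrrCharacter T (ψ ∘ π) := isIrr_comp π hπ hψ
  have hker : ∀ n : N, (ψ ∘ π) ⟨n, hNT n.2⟩ = (ψ ∘ π) 1 := by
    intro n
    show ψ (π ⟨n, hNT n.2⟩) = ψ (π 1)
    congr 1
    rw [map_one]
    apply Subtype.ext
    exact (h1 n).2 n.2
  have : Fintype G := Fintype.ofFinite G
  have : Fintype N := Fintype.ofFinite _
  have : Fintype T := Fintype.ofFinite _
  have key := OddOrderCharacters.PF9.CliffGen.irr_twist hT hNT hF hψ' hker
  refine mem_charDegrees.2 ⟨_, key, ?_⟩
  rw [OddOrderCharacters.IndRes.indFun_apply_one, hTi]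
  show ((MulAction.stabilizer H v).index : ℂ) * ((F 1 : ℂ) * ψ (π 1)) = _
  rw [map_one, map_one, hψd, Units.val_one, one_mul, Nat.cast_mul]

end Compl

/-- **Itô**: the degrees divide the index of a normal abelian subgroup. -/
theorem ito {G : Type u} [Group G] [Finite G] (A : Subgroup G) [A.Normal]
    (hA : ∀ a ∈ A, ∀ b ∈ A, a * b = b * a) {e : ℕ} (he : e ∈ charDegrees G) : e ∣ A.index := by
  have : Fintype G := Fintype.ofFinite G
  have : Fintype A := Fintype.ofFinite _
  obtain ⟨χ, hχ, hχe⟩ := mem_charDegrees.1 he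
  obtain ⟨ψ, d, hψ, hψd, -, hd, hi⟩ := exists_constituent A hχ hχe
  have h1 : ψ 1 = 1 := Characters.CCBasic.irr_apply_one_of_comm
    (fun a b => Subtype.ext (hA a a.2 b b.2)) hψ
  have h2 : d = 1 := by
    rw [hψd] at h1
    exact_mod_cast h1
  rwa [h2, Nat.div_one] at hi

end Cfsg.Agent.H415.Palfy
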