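import Cfsg.Agent.H670.Palfy.Base
import Cfsg.Agent.H501.LinPrim
import Cfsg.Agent.H348.Trans.Pairing
import Cfsg.Agent.H348.Trans.Indep
import Cfsg.Agent.Solvable.FpfComplement
import Cfsg.Agent.PermutationGroups.HalfTransLinear
import Cfsg.Agent.Lib.BenderMaximal
import Cfsg.Agent.H273.PalfyKP
import Cfsg.Agent.H415.Palfy.Ext
import Cfsg.Agent.Lib.PSolvable
import Cfsg.Agent.Transfer.FusionBasic
import Cfsg.Agent.Lib.NormalAbelian
import Cfsg.Agent.H670.Palfy.Defs
import Cfsg.Agent.H675.Nd.Cliff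
import Cfsg.Agent.H424.DegTools
import Cfsg.Agent.H670.PSing
import Cfsg.Agent.CharactersDeep.SmallDegree
import Cfsg.Agent.H597.RelThompson
import Cfsg.Agent.Characters.CentralCharacter
import Cfsg.Agent.S0022
import Cfsg.Agent.S0026
import Cfsg.Agent.S0027
import Cfsg.Agent.H161.PalForm
import Cfsg.Agent.S0886
import Cfsg.Agent.H681.DegBasic
import Cfsg.Agent.FastGrp
import Cfsg.Agent.Prune
set_option linter.all false

section
prune_inst 0x7f00000000000000000000000000000000000000000000000000000000000000000000000000000000000000000000000000000000000000000000000000000000000000000000000000000000000000003ffffffffffffffffffff7ffffffbeffbdf3feffff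

section
prune_inst 0x80000000000000c010000

-- part: H670/Palfy/Sld
section
set_option linter.all false
open scoped Cfsg.Agent.FastGrp

/-!
# Consequences of the structure `SLD` (helper670)
-/

set_option autoImplicit false
set_option linter.unusedSectionVars false
set_option linter.style.haveILetI false

namespace Cfsg.Agent.H670.Palfy

open Subgroup

universe u v w

/-- `(p ^ n - 1) / (p ^ m - 1)` divides no `p ^ i + 1`, `i < n`, for `n = m s ^ k`, if it is `1` modulo
`s ≠ p`. -/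
theorem no_dvd_pow_add_one {p n m s k i : ℕ} (hp : p.Prime) (hs : s.Prime) (hsp : s ≠ p)
    (hm : 0 < m) (hk : 0 < k) (hn : n = m * s ^ k) (hmod : (p ^ n - 1) / (p ^ m - 1) ≡ 1 [MOD s])
    (hi : i < n) (hd : (p ^ n - 1) / (p ^ m - 1) ∣ p ^ i + 1) : False := by
  have hmn : m ∣ n := ⟨_, hn⟩
  obtain ⟨N, hN⟩ : p ^ m - 1 ∣ p ^ n - 1 := by
    obtain ⟨j, rfl⟩ := hmn
    rw [pow_mul]
    exact Nat.sub_one_dvd_pow_sub_one _ _
  have hm1 : 1 < p ^ m := Nat.one_lt_pow hm.ne' hp.one_lt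
  have hdiv : (p ^ n - 1) / (p ^ m - 1) = N := by
    rw [hN]; exact Nat.mul_div_cancel_left _ (by omega)
  rw [hdiv] at hmod hd
  have hsk : 2 ≤ s ^ k := le_trans hs.two_le (Nat.le_self_pow hk.ne' s)
  have h2m : 2 * m ≤ n := by rw [hn, mul_comm]; exact Nat.mul_le_mul_left _ hsk
  have e : ∀ n, 1 ≤ p ^ n := fun n => Nat.one_le_pow _ _ hp.pos
  -- `N > p ^ (n - m)`
  have hNlt : p ^ (n - m) < N := by
    have h1 : p ^ (n - m) * (p ^ m - 1) < (p ^ m - 1) * N := by
      rw [← hN, Nat.mul_sub, mul_one, ← pow_add, Nat.sub_add_cancel (by omega)]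
      have h2 : 1 < p ^ (n - m) := Nat.one_lt_pow (by omega) hp.one_lt
      have h3 : p ^ (n - m) ≤ p ^ n := Nat.pow_le_pow_right hp.pos (by omega)
      omega
    rw [mul_comm (p ^ m - 1)] at h1
    exact Nat.lt_of_mul_lt_mul_right h1
  -- `N ∣ p ^ (n - i) + 1`
  have hd2 : N ∣ p ^ (n - i) + 1 := by
    have h1 : N ∣ p ^ n - 1 := ⟨p ^ m - 1, by rw [hN, mul_comm]⟩
    have h2 : N ∣ p ^ (n - i) * (p ^ i + 1) := Dvd.dvd.mul_left hd _
    have h3 : p ^ (n - i) * (p ^ i + 1) = (p ^ (n - i) + 1) + (p ^ n - 1) := by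
      rw [mul_add, ← pow_add, Nat.sub_add_cancel hi.le, mul_one]
      have := e n
      omega
    rw [h3] at h2
    exact (Nat.dvd_add_left h1).1 h2
  have h1 := Nat.le_of_dvd (by omega) hd2
  have h2 : n - m ≤ n - i := by
    by_contra hcon
    have h3 : p ^ (n - i + 1) ≤ p ^ (n - m) := Nat.pow_le_pow_right hp.pos (by omega)
    have h4 : p ^ (n - i + 1) = p ^ (n - i) * p := pow_succ _ _
    have h5 := hp.two_le
    have h6 : p ^ (n - i) * 2 ≤ p ^ (n - i) * p := Nat.mul_le_mul_left _ h5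
    have h7 := e (n - i)
    omega
  -- `i ≥ n - m`
  have h3 := Nat.le_of_dvd (by omega) hd
  have h4 : n - m ≤ i := by
    by_contra hcon
    have h3' : p ^ (i + 1) ≤ p ^ (n - m) := Nat.pow_le_pow_right hp.pos (by omega)
    have h4 : p ^ (i + 1) = p ^ i * p := pow_succ _ _
    have h5 := hp.two_le
    have h6 : p ^ i * 2 ≤ p ^ i * p := Nat.mul_le_mul_left _ h5
    have h7 := e i
    omega
  have h5 : n = 2 * m := by omega
  have h6 : s ^ k = 2 := by
    rw [h5, mul_comm] at hn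
    exact (Nat.eq_of_mul_eq_mul_left hm hn).symm
  have hs2 : s = 2 := by
    have h7 : s ≤ 2 := by rw [← h6]; exact Nat.le_self_pow hk.ne' s
    have := hs.two_le
    omega
  -- `N = p ^ m + 1`
  have h7 : N = p ^ m + 1 := by
    have h8 : (p ^ m - 1) * N = (p ^ m - 1) * (p ^ m + 1) := by
      rw [← hN, h5, two_mul, pow_add, mul_comm (p ^ m - 1), ← Nat.sq_sub_sq, one_pow, sq]
    exact Nat.eq_of_mul_eq_mul_left (by omega) h8
  rw [h7, hs2] at hmod
  have h8 : p ^ m % 2 = 0 := by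
    have : (p ^ m + 1) % 2 = 1 % 2 := hmod
    omega
  have h9 : 2 ∣ p := Nat.prime_two.dvd_of_dvd_pow (Nat.dvd_of_mod_eq_zero h8)
  exact hsp (by rw [hs2]; exact (Nat.prime_dvd_prime_iff_eq Nat.prime_two hp).1 h9)

section

variable {H : Type u} {V : Type v} {V' : Type w} [Group H] [AddCommGroup V] [DistribMulAction H V]
  [AddCommGroup V'] [DistribMulAction H V'] [Finite H] [Finite V]

/-- If `q` does not divide `|H : C|`, the Sylow `q`-subgroups act trivially on each module with the unique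
fixing property on which the kernel of `V` is trivial. -/
theorem SLD.triv {C : Subgroup H} {p n q : ℕ} [hq : Fact q.Prime] (h : SLD H V C p n)
    (hC : ¬ q ∣ C.index) (hK : Ker H V ≤ Ker H V') (hu : UF q H (⊥ : AddSubgroup V'))
    (Q : Sylow q H) : Triv V' (Q : Subgroup H) := by
  have hCn := h.nrm
  have hle : ∀ Q : Sylow q H, (Q : Subgroup H) ≤ C := by
    intro Q
    obtain ⟨Q1, hQ1⟩ := exists_sylow_le (z := q) C hC
    obtain ⟨g, rfl⟩ := MulAction.exists_smul_eq H Q1 Q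
    intro x hx
    have h1 := hCn.conj_mem _ (hQ1 (mem_smul_sylow.1 hx)) g
    have h2 : g * (g⁻¹ * x * g) * g⁻¹ = x := by group
    rwa [h2] at h1
  intro x hx v
  by_cases hv : v = 0
  · rw [hv, smul_zero]
  obtain ⟨Q', hQ', -⟩ := hu v hv
  obtain ⟨c, hc⟩ := MulAction.exists_smul_eq C (Q.subtype (hle Q)) (Q'.subtype (hle Q'))
  have h1 : (c : H) * x * (c : H)⁻¹ ∈ (Q' : Subgroup H) := by
    have h2 : (⟨(c : H) * x * (c : H)⁻¹, C.mul_mem (C.mul_mem c.2 (hle Q hx)) (C.inv_mem c.2)⟩ : C) ∈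
        ((c • Q.subtype (hle Q) : Sylow q C) : Subgroup C) := by
      rw [mem_smul_sylow, Sylow.coe_subtype, Subgroup.mem_subgroupOf]
      have h3 : (((c⁻¹ * ⟨(c : H) * x * (c : H)⁻¹,
        C.mul_mem (C.mul_mem c.2 (hle Q hx)) (C.inv_mem c.2)⟩ * c : C)) : H) = x := by
        push_cast
        group
      rw [h3]
      exact hx
    rw [hc, Sylow.coe_subtype, Subgroup.mem_subgroupOf] at h2
    exact h2
  have h2 := hQ' _ h1
  have h3 : (c : H) * x * (c : H)⁻¹ * x⁻¹ ∈ Ker H V' := hK (h.comm _ c.2 x (hle Q hx))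
  have h4 : x = ((c : H) * x * (c : H)⁻¹ * x⁻¹)⁻¹ * ((c : H) * x * (c : H)⁻¹) := by group
  rw [h4, mul_smul, h2]
  exact (Ker H V').inv_mem h3 v

/-- The order of `C` modulo the kernel is the order of a generator. -/
theorem SLD.relIndex_dvd {C : Subgroup H} {p n : ℕ} (h : SLD H V C p n) {g : H} (hg : g ∈ C)
    (hgen : ∀ c ∈ C, ∃ k : ℕ, c * (g ^ k)⁻¹ ∈ Ker H V) {j : ℕ} (hj : 0 < j)
    (hgj : g ^ j ∈ Ker H V) : (Ker H V).relIndex C ∣ j := by
  classical
  -- `C / K` is generated by the class of `g`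
  let K := (Ker H V).subgroupOf C
  haveI : K.Normal := (inferInstance : (Ker H V).Normal).subgroupOf C
  have h1 : ∀ x : C ⧸ K, x ∈ Subgroup.zpowers ((⟨g, hg⟩ : C) : C ⧸ K) := by
    intro x
    obtain ⟨c, rfl⟩ := QuotientGroup.mk_surjective x
    obtain ⟨k, hk⟩ := hgen c c.2
    refine ⟨k, ?_⟩
    change ((⟨g, hg⟩ : C) : C ⧸ K) ^ (k : ℤ) = (c : C ⧸ K)
    rw [zpow_natCast, ← QuotientGroup.mk_pow, eq_comm, ← mul_inv_eq_one, ← QuotientGroup.mk_inv,
      ← QuotientGroup.mk_mul, QuotientGroup.eq_one_iff, Subgroup.mem_subgroupOf]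
    exact hk
  have h2 : Nat.card (C ⧸ K) = orderOf ((⟨g, hg⟩ : C) : C ⧸ K) :=
    (orderOf_eq_card_of_forall_mem_zpowers h1).symm
  have h3 : (Ker H V).relIndex C = Nat.card (C ⧸ K) := rfl
  rw [h3, h2]
  apply orderOf_dvd_of_pow_eq_one
  rw [← QuotientGroup.mk_pow, QuotientGroup.eq_one_iff, Subgroup.mem_subgroupOf]
  exact hgj

/-- No generator of `C` has order dividing `p ^ i + 1`, `i < n`. -/
theorem SLD.no_pow {C : Subgroup H} {p n s : ℕ} [hs : Fact s.Prime] (hp : p.Prime)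
    (hn : 0 < n) (h : SLD H V C p n) (hsp : s ≠ p) (hu : UF s H (⊥ : AddSubgroup V)) (S : Sylow s H)
    (hS : ¬ Triv V (S : Subgroup H)) {g : H} (hg : g ∈ C)
    (hgen : ∀ c ∈ C, ∃ k : ℕ, c * (g ^ k)⁻¹ ∈ Ker H V) {i : ℕ} (hi : i < n)
    (hgi : g ^ (p ^ i + 1) ∈ Ker H V) : False := by
  obtain ⟨-, -, k, m, hk, hnm, -, hmod, hdvd⟩ := h.uf s hs.out hu S hS
  have hm : 0 < m := by
    rcases Nat.eq_zero_or_pos m with h0 | h0
    · rw [h0, Nat.zero_mul] at hnm
      omega
    · exact h0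
  exact no_dvd_pow_add_one hp hs.out hsp hm hk hnm hmod hi
    (hdvd.trans (h.relIndex_dvd hg hgen (Nat.succ_pos _) hgi))

end

end Cfsg.Agent.H670.Palfy
end

-- part: H670/Palfy/Five
section
set_option linter.all false
open scoped Cfsg.Agent.FastGrp

/-!
# The pentagon is not the degree graph of a solvable group: statements of the cases (helper670)

Labels `p, q, s, u, r` (cyclic order of NON-adjacency); `p` divides no degree of `G ⧸ M`.
-/

set_option autoImplicit false

namespace Cfsg.Agent.H670.Palfy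

universe u v

/-- `p, q, s, u, r` are distinct vertices, neighbours in this cyclic order are not adjacent. -/
structure Five (p q s u r : ℕ) (G : Type u) [Group G] : Prop where
  hp : p.Prime
  hq : q.Prime
  hs : s.Prime
  hu : u.Prime
  hr : r.Prime
  rp : Rho p G
  rq : Rho q G
  rs : Rho s G
  ru : Rho u G
  rr : Rho r G
  pq : NA p q G
  qs : NA q s G
  su : NA s u G
  ur : NA u r G
  rrp : NA r p G
  nd : [p, q, s, u, r].Nodup

/-- Reflection. -/
theorem Five.symm {p q s u r : ℕ} {G : Type u} [Group G] (h : Five p q s u r G) : Five p r u s q G where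
  hp := h.hp
  hq := h.hr
  hs := h.hu
  hu := h.hs
  hr := h.hq
  rp := h.rp
  rq := h.rr
  rs := h.ru
  ru := h.rs
  rr := h.rq
  pq := fun e he h1 h2 => h.rrp e he h2 h1
  qs := fun e he h1 h2 => h.ur e he h2 h1
  su := fun e he h1 h2 => h.su e he h2 h1
  ur := fun e he h1 h2 => h.qs e he h2 h1
  rrp := fun e he h1 h2 => h.pq e he h2 h1
  nd := by
    have := h.nd
    simp only [List.nodup_cons, List.mem_cons, List.not_mem_nil, or_false, not_or] at this ⊢
    tauto

/-- Rotation. -/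
theorem Five.rot {p q s u r : ℕ} {G : Type u} [Group G] (h : Five p q s u r G) : Five q s u r p G where
  hp := h.hq
  hq := h.hs
  hs := h.hu
  hu := h.hr
  hr := h.hp
  rp := h.rq
  rq := h.rs
  rs := h.ru
  ru := h.rr
  rr := h.rp
  pq := h.qs
  qs := h.su
  su := h.ur
  ur := h.rrp
  rrp := h.pq
  nd := by
    have := h.nd
    simp only [List.nodup_cons, List.mem_cons, List.not_mem_nil, or_false, not_or] at this ⊢
    tauto

/-- If all degrees of the normal subgroup `K`, of index prime to `z`, are prime to `z`, the Sylow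
`z`-subgroup of `H` is normal, commutative and contained in `K`. -/
theorem sylow_of_normal {H : Type u} [Group H] [Finite H] (hH : Group.IsSolvable H) {z : ℕ}
    [hz : Fact z.Prime] (K : Subgroup H) [hK : K.Normal] (hi : ¬ z ∣ K.index)
    (hd : ∀ e ∈ Cfsg.charDegrees K, ¬ z ∣ e) (Q : Sylow z H) :
    (Q : Subgroup H).Normal ∧ (∀ a ∈ (Q : Subgroup H), ∀ b ∈ (Q : Subgroup H), a * b = b * a) ∧
      (Q : Subgroup H) ≤ K := by
  have hKs : Group.IsSolvable K := inferInstance
  -- a Sylow subgroup of `H` in `K`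
  have hle : (Q : Subgroup H) ≤ K := by
    obtain ⟨Q1, hQ1⟩ := exists_sylow_le (z := z) K hi
    obtain ⟨g, rfl⟩ := MulAction.exists_smul_eq H Q1 Q
    intro x hx
    have h1 := hK.conj_mem _ (hQ1 (mem_smul_sylow.1 hx)) g
    have h2 : g * (g⁻¹ * x * g) * g⁻¹ = x := by group
    rwa [h2] at h1
  obtain ⟨h1, h2⟩ := im_solvable hKs hd (Q.subtype hle)
  refine ⟨?_, ?_, hle⟩
  · -- the only Sylow subgroup of `K`
    have : Unique (Sylow z K) := Sylow.unique_of_normal _ h1
    refine ⟨fun x hx g => ?_⟩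
    have h3 : ((g • Q : Sylow z H) : Subgroup H) ≤ K := by
      intro y hy
      have h4 := hK.conj_mem _ (hle (mem_smul_sylow.1 hy)) g
      have h5 : g * (g⁻¹ * y * g) * g⁻¹ = y := by group
      rwa [h5] at h4
    have h4 : (g • Q : Sylow z H).subtype h3 = Q.subtype hle := Subsingleton.elim _ _
    have h5 : g * x * g⁻¹ ∈ ((g • Q : Sylow z H) : Subgroup H) := by
      rw [mem_smul_sylow]
      have h6 : g⁻¹ * (g * x * g⁻¹) * g = x := by group
      rwa [h6]
    have h6 : (⟨g * x * g⁻¹, h3 h5⟩ : K) ∈ (((g • Q : Sylow z H).subtype h3 : Sylow z K) : Subgroup K) := h5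
    rw [h4] at h6
    exact h6
  · intro a ha b hb
    have h3 := h2 ⟨a, hle ha⟩ ha ⟨b, hle hb⟩ hb
    exact congrArg Subtype.val h3

/-- Configuration 1. -/
def Penta1 : Prop := ∀ (G : Type u) [Group G] [Finite G], Group.IsSolvable G →
  ∀ (M : Subgroup G) [M.Normal] (H : Subgroup G) (p q s u r : ℕ), Five p q s u r G →
    T1 G M H p → False

/-- Configuration 2, `q` and `r` nontrivial on `V`. -/
def Penta2a : Prop := ∀ (G : Type u) [Group G] [Finite G], Group.IsSolvable G →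
  ∀ (M P : Subgroup G) [M.Normal] [P.Normal] (H : Subgroup G) (p q s u r : ℕ), Five p q s u r G →
    T2 G M P H p → (∀ M' : Subgroup G, MinN M' → M' ≤ P → M' ⊓ M = ⊥ → False) →
    (∀ Q : Sylow q H, ¬ Triv (LC M) (Q : Subgroup H)) →
    (∀ R : Sylow r H, ¬ Triv (LC M) (R : Subgroup H)) → False

/-- Configuration 2, `q` trivial and `r` nontrivial on `V`. -/
def Penta2b : Prop := ∀ (G : Type u) [Group G] [Finite G], Group.IsSolvable G →
  ∀ (M P : Subgroup G) [M.Normal] [P.Normal] (H : Subgroup G) (p q s u r : ℕ), Five p q s u r G →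
    T2 G M P H p →
    (∀ Q : Sylow q H, Triv (LC M) (Q : Subgroup H)) →
    (∀ R : Sylow r H, ¬ Triv (LC M) (R : Subgroup H)) → False

/-- Configuration 2, `q` and `r` trivial on `V`. -/
def Penta2c : Prop := ∀ (G : Type u) [Group G] [Finite G], Group.IsSolvable G →
  ∀ (M P : Subgroup G) [M.Normal] [P.Normal] (H : Subgroup G) (p q s u r : ℕ), Five p q s u r G →
    T2 G M P H p →
    (∀ Q : Sylow q H, Triv (LC M) (Q : Subgroup H)) →
    (∀ R : Sylow r H, Triv (LC M) (R : Subgroup H)) → False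

/-- The pentagon is not the degree graph of a solvable group. -/
def NoPenta : Prop := ∀ (G : Type u) [Group G] [Finite G], Group.IsSolvable G →
  ∀ p q s u r : ℕ, Five p q s u r G → (∀ t : ℕ, t.Prime → Rho t G → t ∈ [p, q, s, u, r]) → False

/-- The structure theorem for faithful modules. -/
def FactSLF : Prop := ∀ (H : Type u) (V : Type v) [Group H] [AddCommGroup V] [DistribMulAction H V]
  [Finite H] [Finite V] (p n s : ℕ), Group.IsSolvable H → p.Prime → 0 < n → Nat.card V = p ^ n →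
  Irr H V → (∀ h : H, (∀ v : V, h • v = v) → h = 1) → s.Prime → s ≠ p → UF s H (⊥ : AddSubgroup V) →
  (∃ Z : Sylow s H, ¬ Triv V (Z : Subgroup H)) → ∃ C : Subgroup H, SLD H V C p n

end Cfsg.Agent.H670.Palfy
end
end

-- part: H670/Palfy/Generic_mg
section
prune_inst 0x80000000000000c010000
set_option linter.all false
open scoped Cfsg.Agent.FastGrp

-- part: H670/Palfy/Ppd
section
/-!
# Elements of primitive prime order in linear groups (helper670)

`H` acts faithfully on the additive group `V` of order `p ^ n`, `x ∈ H` has prime order `t`, a primitive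
prime divisor of `p ^ n - 1`.
-/

set_option autoImplicit false
set_option linter.unusedSectionVars false

namespace Cfsg.Agent.H670.Palfy

open Subgroup Cfsg.Agent.H501.LinPrim Cfsg.Agent.PermutationGroups.HalfTransField

/-- `x` has prime order `t`, a primitive prime divisor of `|V| - 1`. -/
structure Ppd (V : Type*) [AddCommGroup V] {H : Type*} [Group H] (p n t : ℕ) (x : H) : Prop where
  hp : p.Prime
  hV : Nat.card V = p ^ n
  ht : t.Prime
  htp : ¬ t ∣ p
  hprim : ∀ m, t ∣ p ^ m - 1 ↔ n ∣ m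
  hx : orderOf x = t
  hn : 0 < n

variable {V : Type*} [AddCommGroup V] [Finite V] {H : Type*} [Group H] [Finite H]
  [DistribMulAction H V] [FaithfulSMul H V] {p n t : ℕ} {x : H}

namespace Ppd

theorem ne_one (h : Ppd V p n t x) : x ≠ 1 := by
  intro h1
  have h2 := h.hx
  rw [h1, orderOf_one] at h2
  exact h.ht.one_lt.ne h2

theorem isPGroup (h : Ppd V p n t x) : IsPGroup t (zpowers x) :=
  IsPGroup.of_card (n := 1) (by rw [Nat.card_zpowers, h.hx, pow_one])

theorem irr (h : Ppd V p n t x) (W : AddSubgroup V) (hW : ∀ w ∈ W, x • w ∈ W) :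
    W = ⊥ ∨ W = ⊤ := by
  have : Fact t.Prime := ⟨h.ht⟩
  have hpow : ∀ k : ℕ, ∀ w ∈ W, x ^ k • w ∈ W := by
    intro k
    induction k with
    | zero => intro w hw; rwa [pow_zero, one_smul]
    | succ k ih => intro w hw; rw [pow_succ, mul_smul]; exact ih _ (hW w hw)
  refine irred h.hp h.hV h.htp h.hprim (zpowers x) h.isPGroup
    (by rw [Ne, zpowers_eq_bot]; exact h.ne_one) W ?_
  intro m hm w hw
  obtain ⟨k, rfl⟩ := (mem_powers_iff_mem_zpowers (x := x)).2 hm
  exact hpow k w hw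

theorem nontrivial (h : Ppd V p n t x) : Nontrivial V := by
  rw [← Finite.one_lt_card_iff_nontrivial, h.hV]
  exact Nat.one_lt_pow h.hn.ne' h.hp.one_lt

/-- Elements commuting with `x` act freely. -/
theorem free (h : Ppd V p n t x) {c : H} (hc : c * x = x * c) (hc1 : c ≠ 1) {v : V}
    (hv : c • v = v) : v = 0 := by
  let W : AddSubgroup V :=
    { carrier := {w | c • w = w}
      zero_mem' := smul_zero c
      add_mem' := fun {a b} ha hb => by
        change c • (a + b) = a + b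
        rw [smul_add, ha, hb]
      neg_mem' := fun {a} ha => by
        change c • (-a) = -a
        rw [smul_neg, ha] }
  rcases h.irr W (by
    intro w hw
    change c • x • w = x • w
    rw [smul_smul, hc, mul_smul]
    congr 1) with h1 | h1
  · have h2 : v ∈ W := hv
    rw [h1] at h2
    exact h2
  · exfalso
    apply hc1
    apply (‹FaithfulSMul H V›).eq_of_smul_eq_smul (α := V)
    intro w
    rw [one_smul]
    exact (h1 ▸ AddSubgroup.mem_top w : w ∈ W)

end Ppd

end Cfsg.Agent.H670.Palfy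
end

-- part: H670/Palfy/Field
section
/-!
# The field generated by an irreducible element (helper670)

`H` acts on `V`, `x ∈ H` acts irreducibly, `⟨x⟩` is normal in `H`.
-/

set_option autoImplicit false
set_option linter.unusedSectionVars false
set_option linter.style.haveILetI false

namespace Cfsg.Agent.H670.Palfy

open Subgroup Cfsg.Agent.PermutationGroups.HalfTransField

universe u v

/-- Fixed points of a group of automorphisms of a finite field. -/
theorem card_fixed_pow (F : Type v) [Field F] [Finite F] (G : Subgroup (RingAut F)) :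
    Nat.card F = Nat.card {k : F // ∀ g ∈ G, g k = k} ^ Nat.card G := by
  haveI : Finite (RingAut F) := Finite.of_injective (fun f : RingAut F => (f : F → F))
    DFunLike.coe_injective
  haveI : Fintype G := Fintype.ofFinite _
  haveI : Finite (FixedPoints.subfield G F) := inferInstance
  haveI : Module.Finite (FixedPoints.subfield G F) F := Module.Finite.of_finite
  have h1 := FixedPoints.finrank_eq_card G F
  have h2 := Module.natCard_eq_pow_finrank (K := FixedPoints.subfield G F) (V := F)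
  rw [h1, ← Nat.card_eq_fintype_card] at h2
  rw [h2]
  congr 1
  refine Nat.card_congr (Equiv.subtypeEquivRight fun k => ?_)
  constructor
  · intro h g hg
    exact h ⟨g, hg⟩
  · intro h g
    exact h g g.2

section

variable {H : Type u} [Group H] (V : Type v) [AddCommGroup V] [DistribMulAction H V] (x : H)

/-- The ring generated by `x`. -/
abbrev Kx : Subring (AddMonoid.End V) := ringOf (V := V) (zpowers x)

variable {V x}

theorem tau_x_mem : (tau x : AddMonoid.End V) ∈ Kx V x := tau_mem_ringOf _ (mem_zpowers x)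

theorem comm_kx {c : H} (hc : c * x = x * c) (k : AddMonoid.End V) (hk : k ∈ Kx V x) (v : V) :
    c • k v = k (c • v) := by
  have h1 := comm_ringOf (V := V) (zpowers x) (c := c) (by
    rintro _ ⟨j, rfl⟩
    exact ((show Commute c x from hc).zpow_right j).eq) k hk
  exact DFunLike.congr_fun h1 v

theorem zpowers_comm : ∀ a ∈ zpowers x, ∀ b ∈ zpowers x, a * b = b * a := by
  rintro _ ⟨i, rfl⟩ _ ⟨j, rfl⟩
  exact ((Commute.refl x).zpow_zpow i j).eq

variable (hirr : ∀ W : AddSubgroup V, (∀ w ∈ W, x • w ∈ W) → W = ⊥ ∨ W = ⊤)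

include hirr

/-- Nonzero elements of the ring are injective. -/
theorem kx_inj (k : AddMonoid.End V) (hk : k ∈ Kx V x) (hk0 : k ≠ 0) {v : V} (hv : k v = 0) :
    v = 0 := by
  let W : AddSubgroup V :=
    { carrier := {w | k w = 0}
      zero_mem' := map_zero k
      add_mem' := fun {a b} ha hb => by
        change k (a + b) = 0
        rw [map_add, show k a = 0 from ha, show k b = 0 from hb, add_zero]
      neg_mem' := fun {a} ha => by
        change k (-a) = 0
        rw [map_neg, show k a = 0 from ha, neg_zero] }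
  rcases hirr W (by
    intro w hw
    change k (x • w) = 0
    rw [← comm_kx rfl k hk, show k w = 0 from hw, smul_zero]) with h | h
  · have h1 : v ∈ W := hv
    rwa [h, AddSubgroup.mem_bot] at h1
  · exfalso
    apply hk0
    ext w
    have h1 : w ∈ W := by rw [h]; exact AddSubgroup.mem_top _
    exact h1

/-- `V` is one-dimensional over the ring. -/
theorem kx_surj {v : V} (hv : v ≠ 0) (w : V) : ∃ k : AddMonoid.End V, k ∈ Kx V x ∧ k v = w := by
  let W : AddSubgroup V :=
    { carrier := {w | ∃ k : AddMonoid.End V, k ∈ Kx V x ∧ k v = w}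
      zero_mem' := ⟨0, zero_mem _, rfl⟩
      add_mem' := by
        rintro _ _ ⟨k, hk, rfl⟩ ⟨l, hl, rfl⟩
        exact ⟨k + l, add_mem hk hl, rfl⟩
      neg_mem' := by
        rintro _ ⟨k, hk, rfl⟩
        exact ⟨-k, neg_mem hk, rfl⟩ }
  rcases hirr W (by
    rintro _ ⟨k, hk, rfl⟩
    exact ⟨tau x * k, mul_mem tau_x_mem hk, rfl⟩) with h | h
  · exfalso
    apply hv
    have h1 : v ∈ W := ⟨1, one_mem _, rfl⟩
    rwa [h, AddSubgroup.mem_bot] at h1
  · have h1 : w ∈ W := by rw [h]; exact AddSubgroup.mem_top _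
    exact h1

/-- Evaluation at a nonzero vector. -/
noncomputable def evalEquiv {v : V} (hv : v ≠ 0) : Kx V x ≃ V :=
  Equiv.ofBijective (fun k => (k : AddMonoid.End V) v) (by
    constructor
    · intro k l hkl
      by_contra hne
      apply hv
      refine kx_inj hirr ((k : AddMonoid.End V) - l) (sub_mem k.2 l.2) ?_ ?_
      · intro h0
        exact hne (Subtype.ext (sub_eq_zero.1 h0))
      · change (k : AddMonoid.End V) v - (l : AddMonoid.End V) v = 0
        exact sub_eq_zero.2 hkl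
    · intro w
      obtain ⟨k, hk, h⟩ := kx_surj hirr hv w
      exact ⟨⟨k, hk⟩, h⟩)

theorem evalEquiv_apply {v : V} (hv : v ≠ 0) (k : Kx V x) :
    evalEquiv hirr hv k = (k : AddMonoid.End V) v := rfl

/-- An element commuting with `x` acts as an element of the ring. -/
theorem tau_mem_of_comm [Nontrivial V] {c : H} (hc : c * x = x * c) :
    (tau c : AddMonoid.End V) ∈ Kx V x := by
  obtain ⟨v, hv⟩ := exists_ne (0 : V)
  obtain ⟨k, hk, hkv⟩ := kx_surj hirr hv (c • v)
  have : (tau c : AddMonoid.End V) = k := by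
    ext w
    obtain ⟨l, hl, rfl⟩ := kx_surj hirr hv w
    change c • l v = k (l v)
    rw [comm_kx hc l hl, ← hkv]
    have h1 := ringOf_comm (V := V) (zpowers x) zpowers_comm l hl k hk
    exact DFunLike.congr_fun h1 v
  rw [this]
  exact hk

theorem kx_isField [Finite V] [Nontrivial V] : IsField (Kx V x) := by
  haveI : Finite (AddMonoid.End V) := finite_end
  haveI : Nontrivial (Kx V x) := by
    refine ⟨⟨0, 1, fun h => ?_⟩⟩
    obtain ⟨v, hv⟩ := exists_ne (0 : V)
    apply hv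
    have h1 := congrArg (fun k : Kx V x => (k : AddMonoid.End V) v) h
    exact h1.symm
  haveI : NoZeroDivisors (Kx V x) := by
    refine ⟨fun {a b} hab => ?_⟩
    by_contra hcon
    push Not at hcon
    obtain ⟨v, hv⟩ : ∃ v, (b : AddMonoid.End V) v ≠ 0 := by
      by_contra h
      push Not at h
      apply hcon.2
      apply Subtype.ext
      ext w
      exact h w
    apply hv
    refine kx_inj hirr (a : AddMonoid.End V) a.2 (fun h => hcon.1 (Subtype.ext h)) ?_
    have h1 := congrArg (fun k : Kx V x => (k : AddMonoid.End V) v) hab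
    exact h1
  haveI : IsDomain (Kx V x) := NoZeroDivisors.to_isDomain _
  exact Finite.isDomain_to_isField _

end

section conj

variable {H : Type u} [Group H] {V : Type v} [AddCommGroup V] [DistribMulAction H V] {x : H}
  (hN : (zpowers x).Normal)

/-- Conjugation on the ring generated by `x`. -/
def conjK : H →* RingAut (Kx V x) where
  toFun g :=
    { toFun := fun k => ⟨(tau g : AddMonoid.End V) * k.1 * tau g⁻¹, ringOf_conj _ hN g k.1 k.2⟩
      invFun := fun k => ⟨(tau g⁻¹ : AddMonoid.End V) * k.1 * tau g, by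
        have := ringOf_conj _ hN g⁻¹ k.1 k.2
        rwa [inv_inv] at this⟩
      left_inv := fun k => by
        apply Subtype.ext
        change (tau g⁻¹ : AddMonoid.End V) * (tau g * k.1 * tau g⁻¹) * tau g = k.1
        simp only [mul_assoc, tau_inv_mul, mul_one]
        rw [← mul_assoc, tau_inv_mul, one_mul]
      right_inv := fun k => by
        apply Subtype.ext
        change (tau g : AddMonoid.End V) * (tau g⁻¹ * k.1 * tau g) * tau g⁻¹ = k.1
        simp only [mul_assoc, tau_mul_inv, mul_one]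
        rw [← mul_assoc, tau_mul_inv, one_mul]
      map_mul' := fun k l => by
        apply Subtype.ext
        change (tau g : AddMonoid.End V) * (k.1 * l.1) * tau g⁻¹ =
          (tau g * k.1 * tau g⁻¹) * (tau g * l.1 * tau g⁻¹)
        rw [mul_assoc (tau g * k.1) (tau g⁻¹) _,
          ← mul_assoc (tau g⁻¹ : AddMonoid.End V) _ (tau g⁻¹),
          ← mul_assoc (tau g⁻¹ : AddMonoid.End V) (tau g) _, tau_inv_mul, one_mul]
        simp only [mul_assoc]
      map_add' := fun k l => by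
        apply Subtype.ext
        change (tau g : AddMonoid.End V) * (k.1 + l.1) * tau g⁻¹ =
          (tau g * k.1 * tau g⁻¹) + (tau g * l.1 * tau g⁻¹)
        rw [mul_add, add_mul] }
  map_one' := by
    apply RingEquiv.ext
    intro k
    apply Subtype.ext
    change (tau (1 : H) : AddMonoid.End V) * k.1 * tau (1 : H)⁻¹ = k.1
    rw [inv_one, tau_one, one_mul, mul_one]
  map_mul' g h := by
    apply RingEquiv.ext
    intro k
    apply Subtype.ext
    change (tau (g * h) : AddMonoid.End V) * k.1 * tau (g * h)⁻¹ =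
      tau g * (tau h * k.1 * tau h⁻¹) * tau g⁻¹
    rw [mul_inv_rev, tau_mul, tau_mul]
    simp only [mul_assoc]

theorem conjK_apply (g : H) (k : Kx V x) (v : V) :
    (conjK hN g k : Kx V x).1 (g • v) = g • k.1 v := by
  change g • k.1 (g⁻¹ • g • v) = _
  rw [inv_smul_smul]

theorem conjK_eq_one_iff (hf : ∀ h : H, (∀ v : V, h • v = v) → h = 1) (g : H) :
    conjK (V := V) hN g = 1 ↔ g * x = x * g := by
  constructor
  · intro h
    have h1 := congrArg (fun f : RingAut (Kx V x) => (f ⟨tau x, tau_x_mem⟩ : Kx V x).1) h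
    change (tau g : AddMonoid.End V) * tau x * tau g⁻¹ = tau x at h1
    rw [← tau_mul, ← tau_mul] at h1
    have h2 : (x : H)⁻¹ * (g * x * g⁻¹) = 1 := by
      apply hf
      intro v
      have h3 := DFunLike.congr_fun h1 v
      change (g * x * g⁻¹) • v = x • v at h3
      rw [mul_smul, h3, inv_smul_smul]
    have h4 : g * x * g⁻¹ = x := (inv_mul_eq_one.1 h2).symm
    exact mul_inv_eq_iff_eq_mul.1 h4
  · intro h
    apply RingEquiv.ext
    intro k
    apply Subtype.ext
    ext v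
    change g • k.1 (g⁻¹ • v) = k.1 v
    rw [comm_kx h k.1 k.2, smul_inv_smul]

end conj

end Cfsg.Agent.H670.Palfy
end

-- part: H670/Palfy/FieldSld
section
/-!
# The structure `SLD` from a normal subgroup generated by an irreducible element (helper670)
-/

set_option autoImplicit false
set_option linter.unusedSectionVars false
set_option linter.style.haveILetI false

namespace Cfsg.Agent.H670.Palfy

open Subgroup Cfsg.Agent.PermutationGroups.HalfTransField

universe u v

section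

variable {H : Type u} [Group H] {V : Type v} [AddCommGroup V] [DistribMulAction H V]

/-- Each Sylow subgroup fixes a nonzero vector. -/
theorem UF.exists_fixed [Finite H] [Nontrivial V] {z : ℕ} [Fact z.Prime]
    (h : UF z H (⊥ : AddSubgroup V)) (Q : Sylow z H) :
    ∃ v : V, v ≠ 0 ∧ v ∈ fixed V (Q : Subgroup H) := by
  obtain ⟨v, hv⟩ := exists_ne (0 : V)
  obtain ⟨Q0, hQ0, -⟩ := h v hv
  obtain ⟨g, rfl⟩ := MulAction.exists_smul_eq H Q0 Q
  exact ⟨g • v, by rwa [Ne, smul_eq_zero_iff_eq], fix_conj hQ0 g⟩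

end

section

variable {H : Type u} [Group H] [Finite H] {V : Type v} [AddCommGroup V] [DistribMulAction H V]
  [Finite V] [Nontrivial V] {x : H} {p n t : ℕ}

theorem mem_kerK (hf : ∀ h : H, (∀ v : V, h • v = v) → h = 1) (hN : (zpowers x).Normal) {g : H} :
    g ∈ (conjK (V := V) hN).ker ↔ g * x = x * g := by
  rw [MonoidHom.mem_ker, conjK_eq_one_iff hN hf]

theorem free_of_comm (hirr : ∀ W : AddSubgroup V, (∀ w ∈ W, x • w ∈ W) → W = ⊥ ∨ W = ⊤)
    {c : H} (hc : c * x = x * c) {v : V} (hv : v ≠ 0) (hcv : c • v = v) : c ∈ Ker H V := by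
  by_contra hne
  apply hv
  have h1 := tau_mem_of_comm hirr hc
  refine kx_inj hirr ((tau c : AddMonoid.End V) - 1) (sub_mem h1 (one_mem _)) ?_ ?_
  · intro h0
    apply hne
    intro w
    have h2 := DFunLike.congr_fun h0 w
    exact sub_eq_zero.1 h2
  · exact sub_eq_zero.2 hcv

theorem ker_eq_bot (hf : ∀ h : H, (∀ v : V, h • v = v) → h = 1) : Ker H V = ⊥ :=
  (Subgroup.eq_bot_iff_forall _).2 fun h hh => hf h hh

theorem card_kx (hirr : ∀ W : AddSubgroup V, (∀ w ∈ W, x • w ∈ W) → W = ⊥ ∨ W = ⊤) :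
    Nat.card (Kx V x) = Nat.card V := by
  obtain ⟨v, hv⟩ := exists_ne (0 : V)
  exact Nat.card_congr (evalEquiv hirr hv)

theorem pow_of_pow_eq {p n a d : ℕ} (hp : p.Prime) (h : p ^ n = a ^ d) (hd : 0 < d) :
    ∃ m, a = p ^ m ∧ n = m * d := by
  have h1 : a ∣ p ^ n := h ▸ dvd_pow_self a hd.ne'
  obtain ⟨m, -, hm⟩ := (Nat.dvd_prime_pow hp).1 h1
  refine ⟨m, hm, ?_⟩
  rw [hm, ← pow_mul] at h
  exact Nat.pow_right_injective hp.two_le h

/-- Fixed points of a group of automorphisms of the field. -/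
theorem kx_card_fixed (hirr : ∀ W : AddSubgroup V, (∀ w ∈ W, x • w ∈ W) → W = ⊥ ∨ W = ⊤)
    (hp : p.Prime) (hV : Nat.card V = p ^ n) (G : Subgroup (RingAut (Kx V x))) :
    ∃ m, Nat.card {k : Kx V x // ∀ g ∈ G, g k = k} = p ^ m ∧ n = m * Nat.card G := by
  haveI : Finite (AddMonoid.End V) := finite_end
  letI fld : Field (Kx V x) := (kx_isField hirr).toField
  have h1 := card_fixed_pow (Kx V x) G
  rw [card_kx hirr, hV] at h1
  haveI : Finite (RingAut (Kx V x)) := Finite.of_injective (fun f : RingAut (Kx V x) => (f : Kx V x → Kx V x))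
    DFunLike.coe_injective
  exact pow_of_pow_eq hp h1 Nat.card_pos

/-- The index of the centralizer divides `n`. -/
theorem index_dvd (hirr : ∀ W : AddSubgroup V, (∀ w ∈ W, x • w ∈ W) → W = ⊥ ∨ W = ⊤)
    (hN : (zpowers x).Normal) (hp : p.Prime) (hV : Nat.card V = p ^ n) :
    (conjK (V := V) hN).ker.index ∣ n := by
  obtain ⟨m, -, hm⟩ := kx_card_fixed hirr hp hV (conjK (V := V) hN).range
  rw [Subgroup.index_ker]
  exact ⟨m, by rw [hm, mul_comm]⟩

theorem isCyclic_kerK (hf : ∀ h : H, (∀ v : V, h • v = v) → h = 1)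
    (hirr : ∀ W : AddSubgroup V, (∀ w ∈ W, x • w ∈ W) → W = ⊥ ∨ W = ⊤)
    (hN : (zpowers x).Normal) : IsCyclic (conjK (V := V) hN).ker := by
  haveI : Finite (AddMonoid.End V) := finite_end
  letI fld : Field (Kx V x) := (kx_isField hirr).toField
  let f : (conjK (V := V) hN).ker →* Kx V x :=
    { toFun := fun c => ⟨tau (c : H), tau_mem_of_comm hirr ((mem_kerK hf hN).1 c.2)⟩
      map_one' := Subtype.ext tau_one
      map_mul' := fun a b => Subtype.ext (tau_mul (a : H) (b : H)) }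
  refine isCyclic_of_injective_ringHom f ?_
  intro a b hab
  have h1 : (tau (a : H) : AddMonoid.End V) = tau (b : H) := congrArg Subtype.val hab
  have h2 : (a : H)⁻¹ * b = 1 := by
    apply hf
    intro v
    have h3 := DFunLike.congr_fun h1 v
    change (a : H) • v = (b : H) • v at h3
    rw [mul_smul, ← h3, inv_smul_smul]
  exact Subtype.ext (inv_mul_eq_one.1 h2)

/-- The degree `|H : C|`. -/
theorem index_mem (hf : ∀ h : H, (∀ v : V, h • v = v) → h = 1)
    (hirr : ∀ W : AddSubgroup V, (∀ w ∈ W, x • w ∈ W) → W = ⊥ ∨ W = ⊤)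
    (hN : (zpowers x).Normal) (ht : t.Prime) (hxt : x ^ t = 1) (hx1 : x ≠ 1) :
    (conjK (V := V) hN).ker.index ∈ Cfsg.charDegrees H := by
  classical
  haveI := isCyclic_kerK hf hirr hN
  have hcomm : ∀ a b : (conjK (V := V) hN).ker, a * b = b * a :=
    fun a b => (IsCyclic.commGroup (α := (conjK (V := V) hN).ker)).mul_comm a b
  have hxC : x ∈ (conjK (V := V) hN).ker := (mem_kerK hf hN).2 rfl
  obtain ⟨mu, hmu⟩ : ∃ mu : (conjK (V := V) hN).ker →* ℂˣ, mu ⟨x, hxC⟩ ≠ 1 := by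
    letI : CommGroup (conjK (V := V) hN).ker :=
      { (inferInstance : Group (conjK (V := V) hN).ker) with mul_comm := hcomm }
    exact CommGroup.exists_apply_ne_one_of_hasEnoughRootsOfUnity _ ℂ
      (fun h => hx1 (congrArg Subtype.val h))
  have hirrmu := Characters.Linear.isIrrCharacter_hom mu
  have h1 := H681.DegBasic.induced_degree (conjK (V := V) hN).ker hirrmu (d := 1) (by simp) ?_
  · rwa [mul_one] at h1
  · intro g hg
    rw [mem_kerK hf hN]
    obtain ⟨i, hi⟩ : ∃ i : ℕ, x ^ i = g * x * g⁻¹ := by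
      have h2 := hN.conj_mem x (mem_zpowers x) g
      rw [← mem_powers_iff_mem_zpowers] at h2
      exact h2
    have h3 := hg ⟨x, hxC⟩
    have h4 : (⟨g * x * g⁻¹, (conjK (V := V) hN).normal_ker.conj_mem x hxC g⟩ :
        (conjK (V := V) hN).ker) = ⟨x, hxC⟩ ^ i := Subtype.ext hi.symm
    have h5 : mu (⟨x, hxC⟩ ^ i) = mu ⟨x, hxC⟩ := by
      rw [← h4]
      exact Units.ext h3
    rw [map_pow] at h5
    have hord : orderOf (mu ⟨x, hxC⟩) = t := by
      haveI : Fact t.Prime := ⟨ht⟩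
      refine orderOf_eq_prime ?_ hmu
      rw [← map_pow]
      have h6 : (⟨x, hxC⟩ : (conjK (V := V) hN).ker) ^ t = 1 := Subtype.ext hxt
      rw [h6, map_one]
    have hordx : orderOf x = t := by
      haveI : Fact t.Prime := ⟨ht⟩
      exact orderOf_eq_prime hxt hx1
    have h6 : i ≡ 1 [MOD t] := by
      rw [← hord]
      exact pow_eq_pow_iff_modEq.1 (by rw [h5, pow_one])
    have h7 : x ^ i = x := by
      have := pow_eq_pow_iff_modEq.2 (show i ≡ 1 [MOD orderOf x] by rw [hordx]; exact h6)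
      rwa [pow_one] at this
    rw [h7] at hi
    exact (mul_inv_eq_iff_eq_mul.1 hi.symm)

/-- The order of a subgroup acting freely divides the indices of the stabilizers. -/
theorem relIndex_dvd_stab (C : Subgroup H) (hC : C.Normal)
    (hfree : ∀ c ∈ C, ∀ v : V, v ≠ 0 → c • v = v → c ∈ Ker H V) (v : V) (hv : v ≠ 0) :
    (Ker H V).relIndex C ∣ (MulAction.stabilizer H v).index := by
  set T := MulAction.stabilizer H v with hT
  have h1 : T ⊓ C = Ker H V ⊓ C := by
    ext c
    rw [Subgroup.mem_inf, Subgroup.mem_inf]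
    exact and_congr_left fun hc => ⟨fun h => hfree c hc v hv h, fun h => h v⟩
  rw [← Subgroup.inf_relIndex_right, ← h1, Subgroup.inf_relIndex_right]
  have h2 : T.relIndex (T ⊔ C) = T.relIndex C := by
    have e1 := Subgroup.relIndex_mul_relIndex (⊥ : Subgroup H) T (T ⊔ C) bot_le le_sup_left
    have e2 := Subgroup.relIndex_mul_relIndex (⊥ : Subgroup H) C (T ⊔ C) bot_le le_sup_right
    have e3 := Subgroup.relIndex_mul_relIndex (⊥ : Subgroup H) (T ⊓ C) T bot_le inf_le_left
    have e4 := Subgroup.relIndex_mul_relIndex (⊥ : Subgroup H) (T ⊓ C) C bot_le inf_le_right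
    rw [Subgroup.relIndex_sup_right] at e2
    rw [Subgroup.inf_relIndex_left] at e3
    rw [Subgroup.inf_relIndex_right] at e4
    simp only [Subgroup.relIndex_bot_left] at e1 e2 e3 e4
    have h5 : 0 < Nat.card (T ⊓ C : Subgroup H) := Nat.card_pos
    have h6 : 0 < C.relIndex T := Nat.pos_of_ne_zero (by
      rw [← Nat.pos_iff_ne_zero]
      have : 0 < Nat.card T := Nat.card_pos
      rw [← e3] at this
      exact Nat.pos_of_mul_pos_left this)
    have h7 : (Nat.card (T ⊓ C : Subgroup H) * C.relIndex T) * T.relIndex (T ⊔ C) =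
        (Nat.card (T ⊓ C : Subgroup H) * C.relIndex T) * T.relIndex C := by
      rw [e3, e1, ← e2, ← e4, ← e3]
      ring
    exact Nat.eq_of_mul_eq_mul_left (Nat.mul_pos h5 h6) h7
  rw [← h2]
  exact Subgroup.relIndex_dvd_index_of_le le_sup_left

/-- The number of Sylow subgroups, if `H / C` is abelian. -/
theorem card_sylow_dvd (C : Subgroup H) [hC : C.Normal] (hq : ∀ a b : H, a * b * a⁻¹ * b⁻¹ ∈ C)
    {z : ℕ} [hz : Fact z.Prime] (hzC : ¬ z ∣ Nat.card C) :
    Nat.card (Sylow z H) ∣ Nat.card C := by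
  classical
  obtain ⟨Z⟩ : Nonempty (Sylow z H) := inferInstance
  set J := C ⊔ (Z : Subgroup H) with hJ
  have hJn : J.Normal := by
    constructor
    intro a ha g
    have h1 : g * a * g⁻¹ = (g * a * g⁻¹ * a⁻¹) * a := by group
    rw [h1]
    exact J.mul_mem ((le_sup_left : C ≤ J) (hq g a)) ha
  have hall : ∀ Q : Sylow z H, (Q : Subgroup H) ≤ J := by
    intro Q
    obtain ⟨g, rfl⟩ := MulAction.exists_smul_eq H Z Q
    intro a ha
    have h1 := hJn.conj_mem _ ((le_sup_right : (Z : Subgroup H) ≤ J) (mem_smul_sylow.1 ha)) g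
    have h2 : g * (g⁻¹ * a * g) * g⁻¹ = a := by group
    rwa [h2] at h1
  -- the Sylow subgroups of `J`
  have h1 : Nat.card (Sylow z H) ≤ Nat.card (Sylow z J) := by
    refine Nat.card_le_card_of_injective (fun Q : Sylow z H => Q.subtype (hall Q)) ?_
    intro Q Q' h
    exact Sylow.subtype_injective h
  have h2 : Nat.card (Sylow z J) ≤ Nat.card (Sylow z H) := by
    refine Nat.card_le_card_of_surjective (fun Q : Sylow z H => Q.subtype (hall Q)) ?_
    intro Q0
    obtain ⟨g, hg⟩ := MulAction.exists_smul_eq J (Z.subtype (hall Z)) Q0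
    refine ⟨(g : H) • Z, ?_⟩
    rw [← hg]
    apply Sylow.ext
    ext a
    rw [Sylow.coe_subtype, Subgroup.mem_subgroupOf, mem_smul_sylow, mem_smul_sylow,
      Sylow.coe_subtype, Subgroup.mem_subgroupOf]
    rfl
  have h3 : Nat.card (Sylow z H) = Nat.card (Sylow z J) := le_antisymm h1 h2
  rw [h3]
  have h4 := Sylow.card_dvd_index (Z.subtype (hall Z))
  refine h4.trans (dvd_of_eq ?_)
  -- the index of `Z` in `C Z`
  rw [Sylow.coe_subtype]
  change (Z : Subgroup H).relIndex J = Nat.card C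
  have e1 := Subgroup.relIndex_mul_relIndex (⊥ : Subgroup H) (Z : Subgroup H) J bot_le le_sup_right
  have e2 := Subgroup.relIndex_mul_relIndex (⊥ : Subgroup H) C J bot_le le_sup_left
  have e3 : C.relIndex J = Nat.card (Z : Subgroup H) := by
    rw [hJ, Subgroup.relIndex_sup_left, ← Subgroup.inf_relIndex_right]
    have h5 : C ⊓ (Z : Subgroup H) = ⊥ := by
      apply Disjoint.eq_bot
      apply Subgroup.disjoint_of_coprime_natCard
      obtain ⟨k, hk⟩ := (IsPGroup.iff_card (p := z)).1 Z.isPGroup'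
      rw [hk]
      exact (Nat.Coprime.pow_left k ((hz.out.coprime_iff_not_dvd).2 hzC)).symm
    rw [h5, Subgroup.relIndex_bot_left]
  simp only [Subgroup.relIndex_bot_left] at e1 e2
  rw [e3] at e2
  have h6 : 0 < Nat.card (Z : Subgroup H) := Nat.card_pos
  apply Nat.eq_of_mul_eq_mul_left h6
  rw [e1, ← e2, mul_comm]

/-- The data of a prime with the unique fixing property. -/
theorem uf_data (hf : ∀ h : H, (∀ v : V, h • v = v) → h = 1)
    (hirr : ∀ W : AddSubgroup V, (∀ w ∈ W, x • w ∈ W) → W = ⊥ ∨ W = ⊤)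
    (hN : (zpowers x).Normal) (hp : p.Prime) (hV : Nat.card V = p ^ n)
    (hquot : ∀ a b : H, a * b * a⁻¹ * b⁻¹ ∈ (conjK (V := V) hN).ker)
    {z : ℕ} (hz : z.Prime) (hu : UF z H (⊥ : AddSubgroup V)) (Z : Sylow z H)
    (hZ : ¬ Triv V (Z : Subgroup H)) :
    z ∣ (conjK (V := V) hN).ker.index ∧ ¬ z ∣ Nat.card (conjK (V := V) hN).ker ∧
    ∃ k m : ℕ, 0 < k ∧ n = m * z ^ k ∧ Nat.card (fixed V (Z : Subgroup H)) = p ^ m ∧
      (p ^ n - 1) / (p ^ m - 1) ≡ 1 [MOD z] ∧
      (p ^ n - 1) / (p ^ m - 1) ∣ Nat.card (conjK (V := V) hN).ker := by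
  classical
  haveI : Fact z.Prime := ⟨hz⟩
  have hCn : (conjK (V := V) hN).ker.Normal := inferInstance
  -- `z` does not divide `|C|`
  have hzC : ¬ z ∣ Nat.card (conjK (V := V) hN).ker := by
    intro hd
    obtain ⟨c, hc⟩ := exists_prime_orderOf_dvd_card' z hd
    have hc1 : (c : H) ≠ 1 := by
      intro h
      have h1 : c = 1 := Subtype.ext h
      rw [h1, orderOf_one] at hc
      exact hz.one_lt.ne hc
    have hcp : IsPGroup z (zpowers (c : H)) := by
      refine IsPGroup.of_card (n := 1) ?_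
      rw [Nat.card_zpowers, Subgroup.orderOf_coe, hc, pow_one]
    obtain ⟨Q, hQ⟩ := hcp.exists_le_sylow
    obtain ⟨v, hv, hvQ⟩ := hu.exists_fixed Q
    exact hc1 (hf _ (free_of_comm hirr ((mem_kerK hf hN).1 c.2) hv (hvQ _ (hQ (mem_zpowers _)))))
  obtain ⟨k, hk⟩ := (IsPGroup.iff_card (p := z)).1 Z.isPGroup'
  have hk0 : 0 < k := by
    rcases Nat.eq_zero_or_pos k with h0 | h0
    · exfalso
      rw [h0, pow_zero, Subgroup.card_eq_one] at hk
      apply hZ
      intro a ha v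
      rw [hk, Subgroup.mem_bot] at ha
      rw [ha, one_smul]
    · exact h0
  have hzH : z ∣ Nat.card H := by
    refine Dvd.dvd.trans ?_ (Subgroup.card_subgroup_dvd_card (Z : Subgroup H))
    rw [hk]
    exact dvd_pow_self z hk0.ne'
  have hzi : z ∣ (conjK (V := V) hN).ker.index := by
    rw [← Subgroup.card_mul_index (conjK (V := V) hN).ker] at hzH
    exact (hz.dvd_mul.1 hzH).resolve_left hzC
  refine ⟨hzi, hzC, ?_⟩
  -- the image of `Z` in the automorphisms of the field
  set G := (Z : Subgroup H).map (conjK (V := V) hN) with hG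
  have hcardG : Nat.card G = z ^ k := by
    rw [← hk]
    have h1 : (Z : Subgroup H) ⊓ (conjK (V := V) hN).ker = ⊥ := by
      apply Disjoint.eq_bot
      apply Subgroup.disjoint_of_coprime_natCard
      rw [hk]
      exact Nat.Coprime.pow_left k ((hz.coprime_iff_not_dvd).2 hzC)
    refine (Nat.card_congr (Equiv.ofBijective
      (fun a : (Z : Subgroup H) => (⟨conjK (V := V) hN a, a, a.2, rfl⟩ : G)) ⟨?_, ?_⟩)).symm
    · intro a b hab
      have h2 : conjK (V := V) hN a = conjK (V := V) hN b := congrArg Subtype.val hab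
      have h3 : (a : H)⁻¹ * b ∈ (Z : Subgroup H) ⊓ (conjK (V := V) hN).ker := by
        refine Subgroup.mem_inf.2 ⟨(Z : Subgroup H).mul_mem ((Z : Subgroup H).inv_mem a.2) b.2, ?_⟩
        rw [MonoidHom.mem_ker, map_mul, map_inv, h2, inv_mul_cancel]
      rw [h1, Subgroup.mem_bot] at h3
      exact Subtype.ext (inv_mul_eq_one.1 h3)
    · rintro ⟨_, a, ha, rfl⟩
      exact ⟨⟨a, ha⟩, rfl⟩
  obtain ⟨m, hm, hnm⟩ := kx_card_fixed hirr hp hV G
  rw [hcardG] at hnm
  -- comparison with the fixed vectors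
  obtain ⟨v0, hv0, hv0Z⟩ := hu.exists_fixed Z
  have hfix : Nat.card (fixed V (Z : Subgroup H)) = p ^ m := by
    rw [← hm]
    refine (Nat.card_congr (Equiv.subtypeEquiv (evalEquiv hirr hv0) ?_)).symm
    intro kk
    rw [evalEquiv_apply]
    constructor
    · intro h a ha
      have h1 := conjK_apply (V := V) hN a kk v0
      rw [h _ ⟨a, ha, rfl⟩, hv0Z a ha] at h1
      exact h1.symm
    · rintro h _ ⟨a, ha, rfl⟩
      have h1 := conjK_apply (V := V) hN a kk v0
      rw [hv0Z a ha, h a ha] at h1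
      exact (evalEquiv hirr hv0).injective h1
  -- the number of Sylow subgroups
  have hn1 : Nat.card (Sylow z H) ≠ 1 := hu.card_ne_one hZ
  have hn0 : 0 < n := by
    rcases Nat.eq_zero_or_pos n with h0 | h0
    · exfalso
      rw [h0, pow_zero] at hV
      have := Finite.one_lt_card (α := V)
      omega
    · exact h0
  obtain ⟨m', hm'0, -, hm', hcount⟩ := hu.params hp hV hn0 Z hn1
  have hmm : m' = m := by
    rw [hfix] at hm'
    exact (Nat.pow_right_injective hp.two_le hm').symm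
  rw [hmm] at hcount hm'0
  have hpm : 0 < p ^ m - 1 := by
    have := Nat.one_lt_pow hm'0.ne' hp.one_lt
    omega
  have hdiv : (p ^ n - 1) / (p ^ m - 1) = Nat.card (Sylow z H) := by
    rw [hcount]
    exact Nat.mul_div_cancel _ hpm
  refine ⟨k, m, hk0, hnm, hfix, ?_, ?_⟩
  · rw [hdiv]
    exact card_sylow_modEq_one z H
  · rw [hdiv]
    exact card_sylow_dvd _ hquot hzC

/-- The structure theorem, faithful case, from an irreducible element generating a normal subgroup. -/
theorem sld_of_normal (hf : ∀ h : H, (∀ v : V, h • v = v) → h = 1)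
    (hirr : ∀ W : AddSubgroup V, (∀ w ∈ W, x • w ∈ W) → W = ⊥ ∨ W = ⊤)
    (hN : (zpowers x).Normal) (hp : p.Prime) (hV : Nat.card V = p ^ n) (ht : t.Prime)
    (hxt : x ^ t = 1) (hx1 : x ≠ 1) : SLD H V (conjK (V := V) hN).ker p n := by
  have hK := ker_eq_bot (V := V) hf
  have hcyc := isCyclic_kerK hf hirr hN
  have hrel : (Ker H V).relIndex (conjK (V := V) hN).ker = Nat.card (conjK (V := V) hN).ker := by
    rw [hK, Subgroup.relIndex_bot_left]
  have hquot : ∀ a b : H, a * b * a⁻¹ * b⁻¹ ∈ (conjK (V := V) hN).ker := by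
    intro a b
    rw [mem_kerK hf hN]
    have hex : ∀ g : H, ∃ i : ℕ, g * x * g⁻¹ = x ^ i := by
      intro g
      have h2 := hN.conj_mem x (mem_zpowers x) g
      rw [← mem_powers_iff_mem_zpowers] at h2
      obtain ⟨i, hi⟩ := h2
      exact ⟨i, hi.symm⟩
    obtain ⟨i, hi⟩ := hex a
    obtain ⟨j, hj⟩ := hex b
    have h1 : (a * b) * x * (a * b)⁻¹ = x ^ (i * j) := by
      have : (a * b) * x * (a * b)⁻¹ = a * (b * x * b⁻¹) * a⁻¹ := by group
      rw [this, hj, ← conj_pow, hi, ← pow_mul]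
    have h2 : (b * a) * x * (b * a)⁻¹ = x ^ (i * j) := by
      have : (b * a) * x * (b * a)⁻¹ = b * (a * x * a⁻¹) * b⁻¹ := by group
      rw [this, hi, ← conj_pow, hj, ← pow_mul, mul_comm]
    have h3 : (a * b) * x * (a * b)⁻¹ = (b * a) * x * (b * a)⁻¹ := h1.trans h2.symm
    obtain ⟨l, hl⟩ := hex (b * a)⁻¹
    rw [inv_inv] at hl
    have h4 : (a * b) * ((b * a)⁻¹ * x * (b * a)) * (a * b)⁻¹ = x := by
      rw [hl, ← conj_pow, h3, conj_pow, ← hl]
      group
    have h5 : a * b * a⁻¹ * b⁻¹ * x * (a * b * a⁻¹ * b⁻¹)⁻¹ = x := by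
      conv_rhs => rw [← h4]
      group
    exact mul_inv_eq_iff_eq_mul.1 h5
  have hcommC : ∀ a ∈ (conjK (V := V) hN).ker, ∀ b ∈ (conjK (V := V) hN).ker, a * b = b * a := by
    intro a ha b hb
    have h1 := (IsCyclic.commGroup (α := (conjK (V := V) hN).ker)).mul_comm ⟨a, ha⟩ ⟨b, hb⟩
    exact congrArg Subtype.val h1
  refine
    { nrm := inferInstance
      card := hV
      ker := by rw [hK]; exact bot_le
      free := fun c hc v hv h => free_of_comm hirr ((mem_kerK hf hN).1 hc) hv h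
      comm := fun a ha b hb => by
        rw [hcommC a ha b hb]
        have : b * a * a⁻¹ * b⁻¹ = 1 := by group
        rw [this]
        exact Subgroup.one_mem _
      quot := hquot
      gen := ?_
      deg := index_mem hf hirr hN ht hxt hx1
      dvd := index_dvd hirr hN hp hV
      stab := fun v hv => relIndex_dvd_stab _ inferInstance
        (fun c hc v hv h => free_of_comm hirr ((mem_kerK hf hN).1 hc) hv h) v hv
      uf := fun z hz hu Z hZ => by
        rw [hrel]
        exact uf_data hf hirr hN hp hV hquot hz hu Z hZ }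
  obtain ⟨g, hg⟩ := hcyc.exists_generator
  have hpow : ∀ c : (conjK (V := V) hN).ker, ∃ k : ℕ, (g : H) ^ k = c := by
    intro c
    obtain ⟨k, hk⟩ := (mem_powers_iff_mem_zpowers).2 (hg c)
    exact ⟨k, congrArg Subtype.val hk⟩
  refine ⟨g, g.2, ?_, ?_⟩
  · intro c hc
    obtain ⟨k, hk⟩ := hpow ⟨c, hc⟩
    refine ⟨k, ?_⟩
    rw [hk, mul_inv_cancel]
    exact Subgroup.one_mem _
  · intro Y hY
    apply hirr
    obtain ⟨k, hk⟩ := hpow ⟨x, (mem_kerK hf hN).2 rfl⟩
    have hY' : ∀ j : ℕ, ∀ y ∈ Y, (g : H) ^ j • y ∈ Y := by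
      intro j
      induction j with
      | zero => intro y hy; rwa [pow_zero, one_smul]
      | succ j ih => intro y hy; rw [pow_succ, mul_smul]; exact ih _ (hY y hy)
    intro w hw
    have h1 := hY' k w hw
    rwa [hk] at h1

end

end Cfsg.Agent.H670.Palfy
end

-- part: H670/Palfy/Structure
section
/-!
# The structure theorem `FactSL` (helper670)

`H` solvable, irreducible on `V` of order `p ^ n`, each nonzero vector is fixed by exactly one Sylow
`s`-subgroup, `s ≠ p`.
-/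

set_option autoImplicit false
set_option linter.unusedSectionVars false
set_option linter.style.haveILetI false

namespace Cfsg.Agent.H670.Palfy

open Subgroup

universe u v

section

variable {H : Type u} [Group H] {V : Type v} [AddCommGroup V] [DistribMulAction H V]

/-- The action on the multiplicative version. -/
@[reducible] def multAct (H : Type u) [Group H] (V : Type v) [AddCommGroup V] [DistribMulAction H V] :
    MulDistribMulAction H (Multiplicative V) where
  smul h v := Multiplicative.ofAdd (h • Multiplicative.toAdd v)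
  one_smul v := congrArg Multiplicative.ofAdd (one_smul H (Multiplicative.toAdd v))
  mul_smul a b v := congrArg Multiplicative.ofAdd (mul_smul a b (Multiplicative.toAdd v))
  smul_one h := congrArg Multiplicative.ofAdd (smul_zero h)
  smul_mul h a b := congrArg Multiplicative.ofAdd (smul_add h (Multiplicative.toAdd a) (Multiplicative.toAdd b))

theorem cent_pgroup [Finite V] {p n : ℕ} (hp : p.Prime) (hV : Nat.card V = p ^ n)
    (hexp : ∀ v : V, p • v = 0) (hf : ∀ h : H, (∀ v : V, h • v = v) → h = 1) (x : H) {r : ℕ}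
    (hr : r.Prime) (hx : x ^ r = 1) (hn : n < r) {s : ℕ} (hs : s.Prime) (hsr : s ≠ r) (hsp : s ≠ p)
    (P : Subgroup H) [Finite P] (hP : IsPGroup s P) (hxP : ∀ g ∈ P, x * g * x⁻¹ ∈ P)
    (hne : ∃ g ∈ P, x * g * x⁻¹ ≠ g) : s = 2 ∧ r = n + 1 ∧ ∃ m : ℕ, n = 2 ^ m := by
  haveI : Fact p.Prime := ⟨hp⟩
  letI := multAct H V
  exact H273.PalfyKP.cent_pgroup (V := Multiplicative V) (ℓ := p) (fun v => hexp (Multiplicative.toAdd v))
    (fun h hh => hf h fun v => hh (Multiplicative.ofAdd v)) hV x hr hx hn hs hsr hsp P hP hxP hne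

/-- The exponent of an irreducible module. -/
theorem exp_of_irr [Finite V] {p n : ℕ} (hp : p.Prime) (hn : 0 < n) (hV : Nat.card V = p ^ n)
    (hirr : Irr H V) (v : V) : p • v = 0 := by
  let W : AddSubgroup V :=
    { carrier := {v | p • v = 0}
      zero_mem' := smul_zero p
      add_mem' := fun {a b} ha hb => by
        change p • (a + b) = 0
        rw [smul_add, show p • a = 0 from ha, show p • b = 0 from hb, add_zero]
      neg_mem' := fun {a} ha => by
        change p • (-a) = 0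
        rw [smul_neg, show p • a = 0 from ha, neg_zero] }
  haveI : Fact p.Prime := ⟨hp⟩
  have hW : W = ⊤ := by
    refine (hirr W ?_).resolve_left ?_
    · intro h w hw
      change p • h • w = 0
      rw [smul_comm, show p • w = 0 from hw, smul_zero]
    · intro hbot
      have h1 : p ∣ Nat.card V := by rw [hV]; exact dvd_pow_self p hn.ne'
      obtain ⟨w, hw⟩ := exists_prime_addOrderOf_dvd_card' p h1
      have h2 : w ∈ W := by
        change p • w = 0
        rw [← hw]
        exact addOrderOf_nsmul_eq_zero w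
      rw [hbot, AddSubgroup.mem_bot] at h2
      rw [h2, addOrderOf_zero] at hw
      exact hp.one_lt.ne hw
  have h1 : v ∈ W := by rw [hW]; exact AddSubgroup.mem_top _
  exact h1

theorem pCore_char_eq_bot [Finite H] [Finite V] {p n : ℕ} (hp : p.Prime) (hn : 0 < n)
    (hV : Nat.card V = p ^ n) (hirr : Irr H V) (hf : ∀ h : H, (∀ v : V, h • v = v) → h = 1) :
    Cfsg.pCore p H = ⊥ := by
  haveI : Fact p.Prime := ⟨hp⟩
  letI := multAct H V
  haveI : Nontrivial V := by
    rw [← Finite.one_lt_card_iff_nontrivial, hV]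
    exact Nat.one_lt_pow hn.ne' hp.one_lt
  refine H273.PalfyKP.pCore_char_eq_bot (V := Multiplicative V) (ℓ := p)
    (fun v => exp_of_irr hp hn hV hirr (Multiplicative.toAdd v))
    (fun h hh => hf h fun v => hh (Multiplicative.ofAdd v)) ?_
  intro W hW
  let W' : AddSubgroup V :=
    { carrier := {v | Multiplicative.ofAdd v ∈ W}
      zero_mem' := W.one_mem
      add_mem' := fun {a b} ha hb => W.mul_mem ha hb
      neg_mem' := fun {a} ha => W.inv_mem ha }
  rcases hirr W' (fun h w hw => hW h _ hw) with h | h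
  · left
    rw [eq_bot_iff]
    intro w hw
    have h1 : Multiplicative.toAdd w ∈ W' := hw
    rw [h, AddSubgroup.mem_bot] at h1
    exact h1
  · right
    rw [Subgroup.eq_top_iff']
    intro w
    have h1 : Multiplicative.toAdd w ∈ W' := by rw [h]; exact AddSubgroup.mem_top _
    exact h1

theorem UF.pCore_eq_bot [Finite H] [Nontrivial V] {s : ℕ} [Fact s.Prime]
    (hu : UF s H (⊥ : AddSubgroup V)) (hf : ∀ h : H, (∀ v : V, h • v = v) → h = 1) :
    Cfsg.pCore s H = ⊥ := by
  rw [eq_bot_iff]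
  intro h hh
  rw [Subgroup.mem_bot]
  apply hf
  intro v
  by_cases hv : v = 0
  · rw [hv, smul_zero]
  · obtain ⟨A, hA, -⟩ := hu v hv
    exact hA h (Lib.Cores.pCore_le_sylow A hh)

/-- Elements of order `t` commuting with the irreducible element `x` of order `t` are powers of `x`. -/
theorem mem_zpowers_of_comm [Finite V] [Nontrivial V] {x : H}
    (hf : ∀ h : H, (∀ v : V, h • v = v) → h = 1)
    (hirr : ∀ W : AddSubgroup V, (∀ w ∈ W, x • w ∈ W) → W = ⊥ ∨ W = ⊤) {t : ℕ} (ht : t.Prime)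
    (hxt : x ^ t = 1) (hx1 : x ≠ 1) {y : H} (hyt : y ^ t = 1) (hc : y * x = x * y) :
    y ∈ zpowers x := by
  haveI : Finite (AddMonoid.End V) := PermutationGroups.HalfTransField.finite_end
  letI fld : Field (Kx V x) := (kx_isField hirr).toField
  let a : Kx V x := ⟨PermutationGroups.HalfTransField.tau x, tau_x_mem⟩
  let b : Kx V x := ⟨PermutationGroups.HalfTransField.tau y, tau_mem_of_comm hirr hc⟩
  have hpow : ∀ (g : H) (i : ℕ), (PermutationGroups.HalfTransField.tau g : AddMonoid.End V) ^ i =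
      PermutationGroups.HalfTransField.tau (g ^ i) := by
    intro g i
    exact (map_pow (DistribMulAction.toAddMonoidEnd H V) g i).symm
  have hinj : ∀ g k : H, (PermutationGroups.HalfTransField.tau g : AddMonoid.End V) =
      PermutationGroups.HalfTransField.tau k → g = k := by
    intro g k h
    have h1 : g⁻¹ * k = 1 := by
      apply hf
      intro v
      have h2 := DFunLike.congr_fun h v
      change g • v = k • v at h2
      rw [mul_smul, ← h2, inv_smul_smul]
    exact inv_mul_eq_one.1 h1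
  have ha : a ^ t = 1 := by
    apply Subtype.ext
    change (PermutationGroups.HalfTransField.tau x : AddMonoid.End V) ^ t = 1
    rw [hpow, hxt, PermutationGroups.HalfTransField.tau_one]
  have ha1 : a ≠ 1 := by
    intro h
    apply hx1
    apply hinj
    rw [PermutationGroups.HalfTransField.tau_one]
    exact congrArg Subtype.val h
  have hb : b ^ t = 1 := by
    apply Subtype.ext
    change (PermutationGroups.HalfTransField.tau y : AddMonoid.End V) ^ t = 1
    rw [hpow, hyt, PermutationGroups.HalfTransField.tau_one]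
  have hprim : IsPrimitiveRoot a t := by
    haveI : Fact t.Prime := ⟨ht⟩
    rw [← orderOf_eq_prime ha ha1]
    exact IsPrimitiveRoot.orderOf a
  haveI : NeZero t := ⟨ht.ne_zero⟩
  obtain ⟨i, -, hi⟩ := hprim.eq_pow_of_pow_eq_one hb
  have h1 : x ^ i = y := by
    apply hinj
    rw [← hpow]
    exact congrArg Subtype.val hi
  rw [← h1]
  exact pow_mem (mem_zpowers x) i

/-- If `O_t(H) ≠ 1` and the elements of order `t` are irreducible, one of them generates a normal
subgroup. -/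
theorem exists_normal_of_pCore [Finite H] [Finite V] [Nontrivial V]
    (hf : ∀ h : H, (∀ v : V, h • v = v) → h = 1) {t : ℕ} [ht : Fact t.Prime]
    (hirr : ∀ x : H, x ^ t = 1 → x ≠ 1 →
      ∀ W : AddSubgroup V, (∀ w ∈ W, x • w ∈ W) → W = ⊥ ∨ W = ⊤)
    (hR : Cfsg.pCore t H ≠ ⊥) : ∃ x : H, x ^ t = 1 ∧ x ≠ 1 ∧ (zpowers x).Normal := by
  have hRn : (Cfsg.pCore t H).Normal := Lib.Cores.pCore_normal t
  have hP : IsPGroup t (Cfsg.pCore t H) := Lib.Cores.pCore_isPGroup t
  -- a central element of order `t`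
  obtain ⟨x, hx1, hxt, hxR, hxc⟩ : ∃ x : H, x ≠ 1 ∧ x ^ t = 1 ∧ x ∈ Cfsg.pCore t H ∧
      ∀ y ∈ Cfsg.pCore t H, x * y = y * x := by
    haveI : Nontrivial (Cfsg.pCore t H) := (Subgroup.nontrivial_iff_ne_bot _).2 hR
    haveI : Nontrivial (Subgroup.center (Cfsg.pCore t H)) := hP.center_nontrivial
    have hPc : IsPGroup t (Subgroup.center (Cfsg.pCore t H)) := hP.to_subgroup _
    have hd : t ∣ Nat.card (Subgroup.center (Cfsg.pCore t H)) := by
      obtain ⟨k, hk⟩ := IsPGroup.iff_card.1 hPc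
      rcases Nat.eq_zero_or_pos k with h | h
      · exfalso
        rw [h, pow_zero] at hk
        have := Finite.one_lt_card (α := Subgroup.center (Cfsg.pCore t H))
        omega
      · rw [hk]
        exact dvd_pow_self t h.ne'
    obtain ⟨x, hx⟩ := exists_prime_orderOf_dvd_card' t hd
    have hxt : x ^ t = 1 := orderOf_dvd_iff_pow_eq_one.1 hx.dvd
    refine ⟨((x : Cfsg.pCore t H) : H), ?_, ?_, (x : Cfsg.pCore t H).2, ?_⟩
    · intro h
      have h1 : x = 1 := Subtype.ext (Subtype.ext h)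
      rw [h1, orderOf_one] at hx
      exact ht.out.one_lt.ne hx
    · have h2 := congrArg (fun w : Subgroup.center (Cfsg.pCore t H) => ((w : Cfsg.pCore t H) : H)) hxt
      simpa only [_root_.SubmonoidClass.coe_pow, _root_.OneMemClass.coe_one] using h2
    · intro y hy
      have h1 := Subgroup.mem_center_iff.1 x.2 ⟨y, hy⟩
      exact (congrArg Subtype.val h1).symm
  refine ⟨x, hxt, hx1, ⟨?_⟩⟩
  rintro _ ⟨i, rfl⟩ g
  have h1 : g * x * g⁻¹ ∈ zpowers x := by
    refine mem_zpowers_of_comm hf (hirr x hxt hx1) ht.out hxt hx1 ?_ ?_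
    · rw [conj_pow, hxt]; group
    · exact (hxc _ (hRn.conj_mem x hxR g)).symm
  have h2 : g * x ^ i * g⁻¹ = (g * x * g⁻¹) ^ i := by rw [conj_zpow]
  change g * x ^ i * g⁻¹ ∈ zpowers x
  rw [h2]
  exact zpow_mem h1 i

end

end Cfsg.Agent.H670.Palfy
end

-- part: H670/Palfy/Generic
section
/-!
# The structure theorem for faithful modules, generic case (helper670)
-/

set_option autoImplicit false
set_option linter.unusedSectionVars false
set_option linter.style.haveILetI false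

namespace Cfsg.Agent.H670.Palfy

open Subgroup

universe u v

section

open Cfsg.Agent.H273.PalfyKP

variable {H : Type u} [Group H] [Finite H] {V : Type v} [CommGroup V] [Finite V] [Nontrivial V]
  [MulDistribMulAction H V] {ℓ : ℕ} [hℓ : Fact ℓ.Prime]

/-- An odd prime `p ≠ ℓ` whose elements have fixed points does not occur if `z = 2 ^ m + 1` (as
`H273.PalfyKP.hall_case`). -/
theorem hall_case' (hsol : Group.IsSolvable H) (hV : ∀ v : V, v ^ ℓ = 1)
    (hf : ∀ h : H, (∀ v : V, h • v = v) → h = 1) {n : ℕ} (hcard : Nat.card V = ℓ ^ n) {p : ℕ} [hp : Fact p.Prime]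
    (hp2 : p ≠ 2) (hpℓ : p ≠ ℓ) (hfx : ∀ α : H, α ^ p = 1 → ∃ v : V, v ≠ 1 ∧ α • v = v)
    (hpH : p ∣ Nat.card H) {z : ℕ} [hz : Fact z.Prime]
    (hzℓ : ¬ z ∣ ℓ) (hzH : z ∣ Nat.card H) (hnz : n < z)
    (hirr : ∀ ζ : H, ζ ^ z = 1 → ζ ≠ 1 → ∀ U : Subgroup V, (∀ u ∈ U, ζ • u ∈ U) → U = ⊥ ∨ U = ⊤)
    {m : ℕ} (hm : z = 2 ^ m + 1) : False := by
  -- no element of order `p` commutes with an element of order `z`
  have hno : ∀ ζ : H, ζ ^ z = 1 → ζ ≠ 1 → ∀ α : H, α ^ p = 1 → α * ζ = ζ * α → α = 1 := by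
    intro ζ h1 h2 α h3 h4
    obtain ⟨v, hv, hfix⟩ := hfx α h3
    exact eq_one_of_commute hf (hirr ζ h1 h2) h4 hv hfix
  obtain ⟨J, hJ1, hJ2, -⟩ := Cfsg.Agent.OddOrderLocal.HallPi.exists_hall_ge_top ({p, z} : Set ℕ) (X := (⊥ : Subgroup H)) (by
    intro q hq hd
    rw [Subgroup.card_bot, Nat.dvd_one] at hd
    exact absurd hd hq.one_lt.ne')
  have hdvd : ∀ q : ℕ, q.Prime → q ∈ ({p, z} : Set ℕ) → q ∣ Nat.card H → q ∣ Nat.card J := by
    intro q hq hqm hqH
    rw [← Subgroup.card_mul_index J] at hqH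
    exact (hq.dvd_mul.1 hqH).resolve_right (hJ2 q hq hqm)
  obtain ⟨α, hα⟩ := exists_prime_orderOf_dvd_card' p (hdvd p hp.out (Or.inl rfl) hpH)
  obtain ⟨ζ, hζ⟩ := exists_prime_orderOf_dvd_card' z (hdvd z hz.out (Or.inr rfl) hzH)
  have hα' : orderOf (α : H) = p := by rw [Subgroup.orderOf_coe, hα]
  have hζ' : orderOf (ζ : H) = z := by rw [Subgroup.orderOf_coe, hζ]
  have hα1 : (α : H) ≠ 1 := by
    intro h
    rw [h, orderOf_one] at hα'
    exact hp.out.one_lt.ne hα'
  have hζ1 : (ζ : H) ≠ 1 := by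
    intro h
    rw [h, orderOf_one] at hζ'
    exact hz.out.one_lt.ne hζ'
  have hαp : (α : H) ^ p = 1 := orderOf_dvd_iff_pow_eq_one.1 hα'.dvd
  have hζz : (ζ : H) ^ z = 1 := orderOf_dvd_iff_pow_eq_one.1 hζ'.dvd
  have hJnt : Nontrivial J := ⟨⟨α, 1, fun h => hα1 (congrArg Subtype.val h)⟩⟩
  have hJs : Group.IsSolvable J := inferInstance
  obtain ⟨q, N, hq, hNn, hN1, hNc, hNq⟩ := Cfsg.Agent.Solvable.HallAux.exists_normal_elementary (G := J)
  obtain ⟨g, hg⟩ : ∃ g : N, g ≠ 1 := by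
    have : Nontrivial N := (Subgroup.nontrivial_iff_ne_bot N).2 hN1
    exact exists_ne 1
  have hg1 : ((g : J) : H) ≠ 1 := fun h => hg (Subtype.ext (Subtype.ext h))
  have hgq : ((g : J) : H) ^ q = 1 := by
    have := congrArg Subtype.val (hNq g g.2)
    simpa only [_root_.SubmonoidClass.coe_pow, _root_.OneMemClass.coe_one] using this
  have hqJ : q ∣ Nat.card J := by
    have h1 : orderOf ((g : J) : H) = q := orderOf_eq_prime hgq hg1 (hp := ⟨hq⟩)
    rw [← h1, Subgroup.orderOf_coe]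
    exact _root_.orderOf_dvd_natCard _
  have hNcomm : ∀ x ∈ N, ∀ y ∈ N, x * y = y * x := fun x hx y hy =>
    congrArg Subtype.val (hNc.is_comm.comm ⟨x, hx⟩ ⟨y, hy⟩)
  rcases hJ1 q hq hqJ with h | h
  · -- `N` a `p`-group
    have hqp : q = p := h
    subst hqp
    have hcomm := cent_abelian hV hf hcard (ζ : H) hz.out hζz hnz (N.map J.subtype) (by
      rintro _ ⟨x, hx, rfl⟩ _ ⟨y, hy, rfl⟩
      exact congrArg Subtype.val (hNcomm x hx y hy)) (by
      intro hd
      have h1 : IsPGroup q N := fun x => ⟨1, by rw [pow_one]; exact Subtype.ext (hNq x x.2)⟩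
      obtain ⟨k, hk⟩ := IsPGroup.iff_card.1 h1
      rw [Subgroup.card_map_of_injective J.subtype_injective, hk] at hd
      exact hpℓ ((Nat.prime_dvd_prime_iff_eq hℓ.out hq).1 (hℓ.out.dvd_of_dvd_pow hd)).symm) (by
      rintro _ ⟨x, hx, rfl⟩
      exact ⟨ζ * x * ζ⁻¹, hNn.conj_mem x hx ζ, rfl⟩) ((g : J) : H) ⟨g, g.2, rfl⟩
    exact hg1 (hno ζ hζz hζ1 _ hgq (mul_inv_eq_iff_eq_mul.1 hcomm).symm)
  · -- `N` a `z`-group
    have hqz : q = z := h
    subst hqz
    set γ : H := ((g : J) : H) with hγ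
    have hγo : orderOf γ = q := orderOf_eq_prime hgq hg1 (hp := ⟨hq⟩)
    have h1 : (α : H) * γ * (α : H)⁻¹ ∈ Subgroup.zpowers γ := by
      refine mem_zpowers hV hf hq hzℓ (hirr γ hgq hg1) hgq hg1 (by rw [conj_pow, hgq]; group) ?_
      exact congrArg Subtype.val (hNcomm (α * g * α⁻¹) (hNn.conj_mem g g.2 α) g g.2)
    rw [← mem_powers_iff_mem_zpowers] at h1
    obtain ⟨k, hk⟩ := h1
    have hk' : (α : H) * γ * (α : H)⁻¹ = γ ^ k := hk.symm
    have hpow : ∀ j : ℕ, (α : H) ^ j * γ * ((α : H) ^ j)⁻¹ = γ ^ (k ^ j) := by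
      intro j
      induction j with
      | zero => simp
      | succ j ih =>
        have e1 : (α : H) ^ (j + 1) * γ * ((α : H) ^ (j + 1))⁻¹ = (α : H) * ((α : H) ^ j * γ * ((α : H) ^ j)⁻¹) * (α : H)⁻¹ := by
          rw [pow_succ']; group
        rw [e1, ih, ← conj_pow, hk', ← pow_mul, pow_succ, mul_comm]
    have hkp : k ^ p ≡ 1 [MOD q] := by
      have h2 := hpow p
      rw [hαp, one_mul, inv_one, mul_one] at h2
      rw [← hγo]
      exact pow_eq_pow_iff_modEq.1 (by rw [pow_one]; exact h2.symm)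
    have hk0 : (k : ZMod q) ≠ 0 := by
      intro h0
      have h2 : ((k ^ p : ℕ) : ZMod q) = ((1 : ℕ) : ZMod q) := (ZMod.natCast_eq_natCast_iff _ _ _).2 hkp
      rw [Nat.cast_pow, h0, zero_pow hp.out.ne_zero, Nat.cast_one] at h2
      exact zero_ne_one h2
    have hk1 : (k : ZMod q) ^ p = 1 := by
      have h2 : ((k ^ p : ℕ) : ZMod q) = ((1 : ℕ) : ZMod q) := (ZMod.natCast_eq_natCast_iff _ _ _).2 hkp
      rwa [Nat.cast_pow, Nat.cast_one] at h2
    have hk2 : (k : ZMod q) ^ (2 ^ m) = 1 := by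
      have e : q - 1 = 2 ^ m := by (clear * - hnz hm; omega)
      have h2 := ZMod.pow_card_sub_one_eq_one hk0
      rw [e] at h2
      exact h2
    have hk3 : (k : ZMod q) = 1 := by
      have h3 := pow_gcd_eq_one.2 ⟨hk1, hk2⟩
      have h4 : p.gcd (2 ^ m) = 1 := by
        apply Nat.Coprime.pow_right
        exact (Nat.coprime_primes hp.out Nat.prime_two).2 hp2
      rwa [h4, pow_one] at h3
    have hk4 : k ≡ 1 [MOD q] := by
      rw [← ZMod.natCast_eq_natCast_iff, Nat.cast_one]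
      exact hk3
    have h5 : γ ^ k = γ := by
      have := pow_eq_pow_iff_modEq.2 (show k ≡ 1 [MOD orderOf γ] by rw [hγo]; exact hk4)
      rwa [pow_one] at this
    rw [h5] at hk'
    exact hα1 (hno γ hgq hg1 α hαp (mul_inv_eq_iff_eq_mul.1 hk'))

end

section

variable {H : Type u} [Group H] [Finite H] {V : Type v} [AddCommGroup V] [Finite V]
  [DistribMulAction H V]

/-- An element of primitive prime order acts irreducibly. -/
theorem irr_of_primitive {p n : ℕ} (hp : p.Prime) (hV : Nat.card V = p ^ n)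
    (hexp : ∀ v : V, p • v = 0) (hf : ∀ h : H, (∀ v : V, h • v = v) → h = 1) {z : ℕ} [hz : Fact z.Prime]
    (hzn : ∀ m, z ∣ p ^ m - 1 ↔ n ∣ m) (hzp : ¬ z ∣ p) (x : H) (hx : x ^ z = 1) (hx1 : x ≠ 1)
    (W : AddSubgroup V) (hW : ∀ w ∈ W, x • w ∈ W) : W = ⊥ ∨ W = ⊤ := by
  haveI : Fact p.Prime := ⟨hp⟩
  letI := multAct H V
  let W' : Subgroup (Multiplicative V) := AddSubgroup.toSubgroup W
  rcases H273.PalfyKP.irreducible (V := Multiplicative V) (ℓ := p) (n := n) (z := z)
    (fun v => hexp (Multiplicative.toAdd v)) (fun h hh => hf h fun v => hh (Multiplicative.ofAdd v)) hV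
    hzn hzp x hx hx1 W' (fun u hu => hW _ hu) with h | h
  · left
    rw [eq_bot_iff]
    intro w hw
    have h1 : Multiplicative.ofAdd w ∈ W' := hw
    rw [h, Subgroup.mem_bot] at h1
    exact h1
  · right
    rw [AddSubgroup.eq_top_iff']
    intro w
    have h1 : Multiplicative.ofAdd w ∈ W' := by rw [h]; exact Subgroup.mem_top _
    exact h1

/-- The structure theorem, faithful case, `p ^ n ≠ 2 ^ 6`. -/
theorem generic (hsol : Group.IsSolvable H) {p n s : ℕ} (hp : p.Prime) (hn : 0 < n)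
    (hV : Nat.card V = p ^ n) (hirr : Irr H V) (hf : ∀ h : H, (∀ v : V, h • v = v) → h = 1)
    (hs : s.Prime) (hsp : s ≠ p) (hu : UF s H (⊥ : AddSubgroup V)) (Z : Sylow s H)
    (hZ : ¬ Triv V (Z : Subgroup H)) (h6 : ¬ (p = 2 ∧ n = 6)) : ∃ C : Subgroup H, SLD H V C p n := by
  haveI hsf : Fact s.Prime := ⟨hs⟩
  haveI hpf : Fact p.Prime := ⟨hp⟩
  haveI : Nontrivial V := by
    rw [← Finite.one_lt_card_iff_nontrivial, hV]
    exact Nat.one_lt_pow hn.ne' hp.one_lt
  have hexp := exp_of_irr hp hn hV hirr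
  obtain ⟨m, hm0, hmn, -, e1⟩ := hu.params hp hV hn Z (hu.card_ne_one hZ)
  have h2 : n ≠ 2 := by
    rintro rfl
    have hm1 : m = 1 := by omega
    subst hm1
    have hcard : Nat.card (Sylow s H) = p + 1 := by
      have h3 : p ^ 2 - 1 = (p + 1) * (p - 1) := by
        have := Nat.sq_sub_sq p 1
        simpa only [_root_.one_pow] using this
      rw [h3, pow_one] at e1
      have h4 : 0 < p - 1 := by have := hp.two_le; omega
      exact (Nat.eq_of_mul_eq_mul_right h4 e1).symm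
    have h3 := card_sylow_modEq_one s H
    rw [hcard] at h3
    have h4 : s ∣ p := by
      have h5 := (Nat.modEq_iff_dvd' (by omega)).1 h3.symm
      simpa only [_root_.add_tsub_cancel_right] using h5
    exact hsp ((Nat.prime_dvd_prime_iff_eq hs hp).1 h4)
  obtain ⟨z, hz, hzn, hnz, hzp⟩ := Cfsg.Agent.Lib.Zsigmondy.exists_primitive (a := p) (n := n) hp.two_le
    (by omega) (fun h => absurd h h2) h6
  haveI hzf : Fact z.Prime := ⟨hz⟩
  have hzS : z ∣ Nat.card (Sylow s H) := by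
    have h3 : z ∣ p ^ n - 1 := (hzn n).2 (dvd_refl n)
    rw [e1] at h3
    refine (hz.dvd_mul.1 h3).resolve_right fun h4 => ?_
    have := Nat.le_of_dvd hm0 ((hzn m).1 h4)
    omega
  have hzH : z ∣ Nat.card H := (hzS.trans (Sylow.card_dvd_index Z)).trans (Subgroup.index_dvd_card _)
  have hirrz : ∀ x : H, x ^ z = 1 → x ≠ 1 →
      ∀ W : AddSubgroup V, (∀ w ∈ W, x • w ∈ W) → W = ⊥ ∨ W = ⊤ :=
    fun x h3 h4 W hW => irr_of_primitive hp hV hexp hf hzn hzp x h3 h4 W hW
  by_cases hR : Cfsg.pCore z H = ⊥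
  swap
  · obtain ⟨x, hx, hx1, hN⟩ := exists_normal_of_pCore hf hirrz hR
    exact ⟨_, sld_of_normal hf (hirrz x hx hx1) hN hp hV hz hx hx1⟩
  exfalso
  obtain ⟨x, hxo⟩ := exists_prime_orderOf_dvd_card' z hzH
  have hx : x ^ z = 1 := orderOf_dvd_iff_pow_eq_one.1 hxo.dvd
  have hx1 : x ≠ 1 := by
    intro h
    rw [h, orderOf_one] at hxo
    exact hz.one_lt.ne hxo
  obtain ⟨t, ht, g, hg, hgne⟩ := H273.PalfyKP.exists_not_central hsol hR x hx hx1
  have hbot : ∀ q, Cfsg.pCore q H = ⊥ → t ≠ q := by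
    rintro q hq rfl
    rw [hq, Subgroup.mem_bot] at hg
    apply hgne
    rw [hg]
    group
  have htz := hbot z hR
  have htp := hbot p (pCore_char_eq_bot hp hn hV hirr hf)
  have hnz' : n < z := by
    have h3 := Nat.le_of_dvd (by have := hz.two_le; omega) hnz
    have h4 := hz.two_le
    omega
  obtain ⟨rfl, hz1, k, hk⟩ := cent_pgroup hp hV hexp hf x hz hx hnz' ht htz htp (Cfsg.pCore t H)
    (Lib.Cores.pCore_isPGroup t) (fun g hg => (Lib.Cores.pCore_normal t).conj_mem g hg x) ⟨g, hg, hgne⟩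
  have hzm : z = 2 ^ k + 1 := by rw [hz1, hk]
  have hs2 := hbot s (hu.pCore_eq_bot hf)
  letI := multAct H V
  have hsH : s ∣ Nat.card H := by
    by_contra h
    apply hZ
    have h3 : (Z : Subgroup H) = ⊥ := by
      obtain ⟨j, hj⟩ := IsPGroup.iff_card.1 Z.isPGroup'
      rcases Nat.eq_zero_or_pos j with h0 | h0
      · rw [h0, pow_zero] at hj
        exact Subgroup.card_eq_one.1 hj
      · exact absurd ((dvd_pow_self s h0.ne').trans (hj ▸ Subgroup.card_subgroup_dvd_card _)) h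
    intro y hy v
    rw [h3, Subgroup.mem_bot] at hy
    rw [hy, one_smul]
  refine hall_case' (V := Multiplicative V) (ℓ := p) hsol (fun v => hexp (Multiplicative.toAdd v))
    (fun h hh => hf h fun v => hh (Multiplicative.ofAdd v)) hV hs2.symm hsp ?_ hsH hzp hzH hnz' ?_ hzm
  · intro a ha
    have h3 : IsPGroup s (zpowers a) := by
      rintro ⟨y, i, rfl⟩
      refine ⟨1, ?_⟩
      rw [pow_one]
      apply Subtype.ext
      change (a ^ i) ^ s = 1
      rw [← zpow_natCast, ← zpow_mul, mul_comm, zpow_mul, zpow_natCast, ha, one_zpow]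
    obtain ⟨A, hA⟩ := h3.exists_le_sylow
    obtain ⟨v, hv, hfix⟩ := hu.exists_fixed A
    refine ⟨Multiplicative.ofAdd v, fun h => hv (Multiplicative.ofAdd.injective h), ?_⟩
    exact congrArg Multiplicative.ofAdd (hfix a (hA (mem_zpowers a)))
  · intro y hy hy1 U hU
    let U' : AddSubgroup V := Subgroup.toAddSubgroup' U
    rcases hirrz y hy hy1 U' (fun w hw => hU _ hw) with h | h
    · left
      rw [eq_bot_iff]
      intro w hw
      have h1 : Multiplicative.toAdd w ∈ U' := hw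
      rw [h, AddSubgroup.mem_bot] at h1
      exact h1
    · right
      rw [Subgroup.eq_top_iff']
      intro w
      have h1 : Multiplicative.toAdd w ∈ U' := by rw [h]; exact AddSubgroup.mem_top _
      exact h1

end

end Cfsg.Agent.H670.Palfy
end

-- part: H993/SLFaith
section
/-!
# `FactSL` from the faithful case (helper993)

* `uf_map` : `UF` passes to a quotient acting compatibly;
* `sld_comap` : `SLD` pulls back;
* `factSL_of_faithful`.
-/

set_option autoImplicit false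

namespace Cfsg.Agent.H993.SLFaith

open Cfsg.Agent.H670.Palfy

universe u v

section

variable {H X : Type u} {V : Type v} [Group H] [Group X] [AddCommGroup V] [DistribMulAction H V]
  [DistribMulAction X V] {f : H →* X}

theorem mem_ker_iff (hc : ∀ (h : H) (v : V), f h • v = h • v) (h : H) : f h ∈ Ker X V ↔ h ∈ Ker H V := by
  rw [mem_Ker, mem_Ker]
  exact forall_congr' fun v => by rw [hc]

theorem comap_Ker (hc : ∀ (h : H) (v : V), f h • v = h • v) : (Ker X V).comap f = Ker H V := by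
  ext h
  exact mem_ker_iff hc h

theorem comap_stabilizer (hc : ∀ (h : H) (v : V), f h • v = h • v) (v : V) :
    (MulAction.stabilizer X v).comap f = MulAction.stabilizer H v := by
  ext h
  rw [Subgroup.mem_comap, MulAction.mem_stabilizer_iff, MulAction.mem_stabilizer_iff, hc]

/-- a Sylow subgroup and its image act in the same way -/
theorem fix_iff [Finite H] {s : ℕ} [Fact s.Prime] (hf : Function.Surjective f)
    (hc : ∀ (h : H) (v : V), f h • v = h • v) (Q : Sylow s H) (v : V) :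
    (∀ x ∈ ((Q.mapSurjective hf : Sylow s X) : Subgroup X), x • v = v) ↔ ∀ x ∈ (Q : Subgroup H), x • v = v := by
  rw [Sylow.coe_mapSurjective]
  constructor
  · intro h x hx
    rw [← hc]
    exact h _ (Subgroup.mem_map_of_mem f hx)
  · rintro h _ ⟨x, hx, rfl⟩
    rw [hc]
    exact h x hx

theorem uf_map [Finite H] {s : ℕ} (hs : s.Prime) (hf : Function.Surjective f)
    (hc : ∀ (h : H) (v : V), f h • v = h • v) {N : AddSubgroup V} (h : UF s H N) : UF s X N := by
  have : Fact s.Prime := ⟨hs⟩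
  intro v hv
  obtain ⟨Q, hQ, hu⟩ := h v hv
  refine ⟨Q.mapSurjective hf, (fix_iff hf hc Q v).2 hQ, ?_⟩
  intro Q' hQ'
  obtain ⟨Q1, rfl⟩ := Sylow.mapSurjective_surjective hf s Q'
  rw [hu Q1 ((fix_iff hf hc Q1 v).1 hQ')]

theorem triv_iff [Finite H] {s : ℕ} [Fact s.Prime] (hf : Function.Surjective f)
    (hc : ∀ (h : H) (v : V), f h • v = h • v) (Q : Sylow s H) :
    Triv V ((Q.mapSurjective hf : Sylow s X) : Subgroup X) ↔ Triv V (Q : Subgroup H) := by
  rw [Sylow.coe_mapSurjective]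
  constructor
  · intro h x hx v
    rw [← hc]
    exact h _ (Subgroup.mem_map_of_mem f hx) v
  · rintro h _ ⟨x, hx, rfl⟩ v
    rw [hc]
    exact h x hx v

theorem fixed_eq [Finite H] {s : ℕ} [Fact s.Prime] (hf : Function.Surjective f)
    (hc : ∀ (h : H) (v : V), f h • v = h • v) (Q : Sylow s H) :
    fixed V ((Q.mapSurjective hf : Sylow s X) : Subgroup X) = fixed V (Q : Subgroup H) := by
  ext v
  rw [mem_fixed, mem_fixed]
  exact fix_iff hf hc Q v

/-- **`SLD` pulls back.** -/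
theorem sld_comap [Finite H] (hf : Function.Surjective f) (hc : ∀ (h : H) (v : V), f h • v = h • v)
    {C : Subgroup X} {p n : ℕ} (S : SLD X V C p n) : SLD H V (C.comap f) p n := by
  have hnC := S.nrm
  have hidx : (C.comap f).index = C.index := Subgroup.index_comap_of_surjective C hf
  have hrel : (Ker H V).relIndex (C.comap f) = (Ker X V).relIndex C := by
    rw [← comap_Ker hc, Subgroup.relIndex_comap, Subgroup.map_comap_eq_self_of_surjective hf]
  refine
    { nrm := hnC.comap f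
      card := S.card
      ker := ?_
      free := ?_
      comm := ?_
      quot := ?_
      gen := ?_
      deg := ?_
      dvd := ?_
      stab := ?_
      uf := ?_ }
  · rw [← comap_Ker hc]
    exact Subgroup.comap_mono S.ker
  · intro c hcC v hv hcv
    rw [← mem_ker_iff hc]
    exact S.free (f c) hcC v hv (by rw [hc, hcv])
  · intro a ha b hb
    rw [← mem_ker_iff hc, map_mul, map_mul, map_mul, map_inv, map_inv]
    exact S.comm _ ha _ hb
  · intro a b
    rw [Subgroup.mem_comap, map_mul, map_mul, map_mul, map_inv, map_inv]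
    exact S.quot _ _
  · obtain ⟨g', hg', h1, h2⟩ := S.gen
    obtain ⟨g, rfl⟩ := hf g'
    refine ⟨g, hg', ?_, ?_⟩
    · intro c hcC
      obtain ⟨k, hk⟩ := h1 (f c) hcC
      refine ⟨k, ?_⟩
      rw [← mem_ker_iff hc, map_mul, map_inv, map_pow]
      exact hk
    · intro Y hY
      exact h2 Y fun y hy => by
        rw [hc]
        exact hY y hy
  · rw [hidx]
    exact H681.DegBasic.charDegrees_comp f hf S.deg
  · rw [hidx]
    exact S.dvd
  · intro v hv
    rw [hrel, ← comap_stabilizer hc, Subgroup.index_comap_of_surjective _ hf]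
    exact S.stab v hv
  · intro z hz hu Z hZ
    have : Fact z.Prime := ⟨hz⟩
    have h1 := S.uf z hz (uf_map hz hf hc hu) (Z.mapSurjective hf) (fun h => hZ ((triv_iff hf hc Z).1 h))
    rw [fixed_eq hf hc Z] at h1
    rw [hidx, hrel]
    exact h1

end

/-- **The structure theorem follows from the faithful case.** -/
theorem factSL_of_faithful (h : FactSLF.{u, v}) : FactSL.{u, v} := by
  intro H V _ _ _ _ _ p n s hH hp hn hcard hirr hs hsp huf hZ
  let act : H ⧸ Ker H V →* AddMonoid.End V := QuotientGroup.lift (Ker H V) (DistribMulAction.toAddMonoidEnd H V) (by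
    intro k hk
    rw [MonoidHom.mem_ker]
    ext v
    exact hk v)
  let _ : DistribMulAction (H ⧸ Ker H V) V := DistribMulAction.compHom V act
  have hf : Function.Surjective (QuotientGroup.mk' (Ker H V)) := QuotientGroup.mk'_surjective _
  have hc : ∀ (g : H) (v : V), (QuotientGroup.mk' (Ker H V) g : H ⧸ Ker H V) • v = g • v := fun g v => rfl
  have : Fact s.Prime := ⟨hs⟩
  have hfin : Finite (H ⧸ Ker H V) := Quotient.finite _
  obtain ⟨C, hC⟩ := h (H ⧸ Ker H V) V p n s inferInstance hp hn hcard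
    (by
      intro W hW
      exact hirr W fun g w hw => by
        rw [← hc]
        exact hW _ w hw)
    (by
      intro x hx
      obtain ⟨g, rfl⟩ := hf x
      exact (QuotientGroup.eq_one_iff g).2 fun v => by
        rw [← hc]
        exact hx v)
    hs hsp (uf_map hs hf hc huf)
    (by
      obtain ⟨Z, hZ⟩ := hZ
      exact ⟨Z.mapSurjective hf, fun h => hZ ((triv_iff hf hc Z).1 h)⟩)
  exact ⟨C.comap (QuotientGroup.mk' (Ker H V)), sld_comap hf hc hC⟩

end Cfsg.Agent.H993.SLFaith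
end
end

section
prune_inst 0xfdfafbbbe8c1dfdfff7e3faef5dffdd0ac8fffe6dffdfbffe1e1bfcb9f0323cbc5fb876fe01afe9ef7e2b410b87813fd7eceffeb6bdc7ffffd5ff45ffbee1fe5f7bd0931d69c3c0f3c2fff63f17f9eef000000000000000000000000000041004200000000

-- part: H415/Palfy/T1_mg
section
prune_inst 0x40004100c0000000180500000022040400019200000001c024024402008240200108010400001000108a0000000000000000400000000000000000000000000028040080080008000000002002000000000000000000000000800000000000008000000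
set_option linter.all false
open scoped Cfsg.Agent.FastGrp

-- part: H415/Palfy/T1
section
/-!
# `FactT1` and `FactT2pre` (helper415)
-/

set_option autoImplicit false

namespace Cfsg.Agent.H415.Palfy

open Cfsg Cfsg.Agent.H670.Palfy Cfsg.Agent.Characters.Core Cfsg.Agent.H681.DegBasic Subgroup
open scoped commutatorElement

universe u

section

variable {G : Type u} [Group G] [Finite G] {p : ℕ}

theorem not_dvd_charDegree {X : Type u} [Group X] (h : ¬ Rho p X) :
    ∀ χ : X → ℂ, IsIrrCharacter X χ → ¬ p ∣ charDegree χ := by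
  intro χ hχ hd
  exact h ⟨charDegree χ, ⟨⟨χ, hχ⟩, rfl⟩, hd⟩

/-- If `p` divides a degree, there is no normal abelian subgroup of index prime to `p`. -/
theorem rho_abelian (h : Rho p G) (A : Subgroup G) [A.Normal] (hA : ∀ a ∈ A, ∀ b ∈ A, a * b = b * a)
    (hi : ¬ p ∣ A.index) : False := by
  obtain ⟨e, he, hpe⟩ := h
  exact hi (hpe.trans (ito A hA he))

/-- Irreducibility of the dual of a minimal normal abelian subgroup. -/
theorem irr_of_minN (M : Subgroup G) [hM : M.Normal] {H : Subgroup G} (hmin : MinN M)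
    (hab : ∀ a ∈ M, ∀ b ∈ M, a * b = b * a) (hH : M ⊔ H = ⊤) : Irr H (LC M) := by
  intro W hW
  -- the invariance under `G`
  have hWG : ∀ g : G, ∀ w ∈ W, g • w ∈ W := by
    intro g w hw
    have hg : g ∈ M ⊔ H := by rw [hH]; trivial
    obtain ⟨a, ha, k, hk, rfl⟩ := Subgroup.mem_sup_of_normal_left.1 hg
    rw [mul_smul, smul_of_mem ha]
    exact hW ⟨k, hk⟩ w hw
  let A : Subgroup G :=
    { carrier := {g | ∃ h : g ∈ M, ∀ w ∈ W, w.hom ⟨g, h⟩ = 1}
      one_mem' := ⟨one_mem _, fun w _ => map_one _⟩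
      mul_mem' := by
        rintro a b ⟨ha, ha'⟩ ⟨hb, hb'⟩
        refine ⟨mul_mem ha hb, fun w hw => ?_⟩
        have e : (⟨a * b, mul_mem ha hb⟩ : M) = ⟨a, ha⟩ * ⟨b, hb⟩ := rfl
        rw [e, map_mul, ha' w hw, hb' w hw, one_mul]
      inv_mem' := by
        rintro a ⟨ha, ha'⟩
        refine ⟨inv_mem ha, fun w hw => ?_⟩
        have e : (⟨a⁻¹, inv_mem ha⟩ : M) = ⟨a, ha⟩⁻¹ := rfl
        rw [e, map_inv, ha' w hw, inv_one] }
  have hAn : A.Normal := by
    refine ⟨?_⟩
    rintro a ⟨ha, ha'⟩ g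
    refine ⟨hM.conj_mem a ha g, fun w hw => ?_⟩
    have e1 := LC.smul_hom M g⁻¹ w ⟨a, ha⟩
    rw [ha' _ (hWG g⁻¹ w hw)] at e1
    rw [e1]
    congr 1
    apply Subtype.ext
    simp
  have hAM : A ≤ M := fun a ha => ha.1
  rcases hmin.min A hAn hAM with h1 | h1
  · right
    let _ : CommGroup M := { (inferInstance : Group M) with
      mul_comm := fun a b => Subtype.ext (hab a a.2 b b.2) }
    let Φ : Subgroup (M →* ℂˣ) :=
      { carrier := {f | LC.of f ∈ W}
        one_mem' := W.zero_mem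
        mul_mem' := fun {a b} ha hb => W.add_mem ha hb
        inv_mem' := fun {a} ha => W.neg_mem ha }
    have h2 : (CommGroup.subgroupOrderIsoSubgroupMonoidHom M ℂ).symm (OrderDual.toDual Φ) = ⊥ := by
      rw [eq_bot_iff]
      intro x hx
      rw [CommGroup.mem_subgroupOrderIsoSubgroupMonoidHom_symm_iff] at hx
      have h3 : (x : G) ∈ A := ⟨x.2, fun w hw => hx w.hom hw⟩
      rw [h1, Subgroup.mem_bot] at h3
      exact Subtype.ext h3
    have h3 : Φ = ⊤ := by
      have h4 := congrArg (CommGroup.subgroupOrderIsoSubgroupMonoidHom M ℂ) h2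
      rw [OrderIso.apply_symm_apply, OrderIso.map_bot] at h4
      exact h4
    rw [eq_top_iff]
    intro w _
    have h4 : w.hom ∈ Φ := by rw [h3]; trivial
    exact h4
  · left
    rw [eq_bot_iff]
    intro w hw
    rw [AddSubgroup.mem_bot]
    apply LC.ext
    intro x
    have h2 : (x : G) ∈ A := by rw [h1]; exact x.2
    exact h2.2 w hw

/-- The order of the dual of an abelian subgroup. -/
theorem card_LC (M : Subgroup G) (hab : ∀ a ∈ M, ∀ b ∈ M, a * b = b * a) : Nat.card (LC M) = Nat.card M := by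
  let _ : CommGroup M := { (inferInstance : Group M) with
    mul_comm := fun a b => Subtype.ext (hab a a.2 b b.2) }
  exact CommGroup.card_monoidHom_of_hasEnoughRootsOfUnity M ℂ

/-- An element acting trivially on the characters of an abelian normal subgroup centralises it. -/
theorem comm_of_triv (M : Subgroup G) [hM : M.Normal] (hab : ∀ a ∈ M, ∀ b ∈ M, a * b = b * a) {k : G}
    (hk : ∀ v : LC M, k • v = v) {a : G} (ha : a ∈ M) : k * a = a * k := by
  let _ : CommGroup M := { (inferInstance : Group M) with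
    mul_comm := fun a b => Subtype.ext (hab a a.2 b b.2) }
  have h1 : ∀ φ : M →* ℂˣ, φ ⟨k⁻¹ * a * k, by
      have := hM.conj_mem a ha k⁻¹
      rwa [inv_inv] at this⟩ = φ ⟨a, ha⟩ := by
    intro φ
    have e1 := LC.smul_hom M k (LC.of φ) ⟨a, ha⟩
    rw [hk] at e1
    exact e1.symm
  have h2 := congrArg Subtype.val ((CommGroup.forall_apply_eq_apply_iff (G := M) (M := ℂ)).1 h1)
  have h3 : k⁻¹ * a * k = a := h2
  calc k * a = k * (k⁻¹ * a * k) := by rw [h3]
    _ = a * k := by group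

/-- **`FactT2pre`**, the group structure. -/
theorem factT2pre : FactT2pre.{u} := by
  intro G _ _ hsol M hM p hp hmin hrho hnrho hMp
  have : Fact p.Prime := ⟨hp⟩
  have := hsol
  have hIM := H670.PSing.IM_of_pSolvable (Lib.PSolvable.IsPSolvable_of_solvable (G := G ⧸ M) p)
    (not_dvd_charDegree hnrho)
  obtain ⟨P⟩ : Nonempty (Sylow p G) := inferInstance
  obtain ⟨h1, h2⟩ := hIM (P.mapSurjective (QuotientGroup.mk'_surjective M))
  rw [Sylow.coe_mapSurjective] at h1 h2
  have hMP : M ≤ P := hMp.le_sylow_of_normal P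
  have hP : (P : Subgroup G).Normal := by
    have e1 : ((P : Subgroup G).map (QuotientGroup.mk' M)).comap (QuotientGroup.mk' M) = P := by
      rw [Subgroup.comap_map_eq, QuotientGroup.ker_mk']
      exact sup_eq_left.2 hMP
    rw [← e1]
    exact h1.comap _
  have hPi : ¬ p ∣ (P : Subgroup G).index := P.not_dvd_index
  -- `[P, P] ≤ M`
  have hc1 : ⁅(P : Subgroup G), (P : Subgroup G)⁆ ≤ M := by
    rw [Subgroup.commutator_le]
    intro a ha b hb
    rw [← QuotientGroup.eq_one_iff, commutatorElement_def]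
    have e1 := h2 _ (Subgroup.mem_map_of_mem _ ha) _ (Subgroup.mem_map_of_mem _ hb)
    have e2 : (a : G ⧸ M) * (b : G ⧸ M) = (b : G ⧸ M) * (a : G ⧸ M) := e1
    rw [QuotientGroup.mk_mul, QuotientGroup.mk_mul, QuotientGroup.mk_mul, e2, QuotientGroup.mk_inv,
      QuotientGroup.mk_inv]
    group
  have hc : ⁅(P : Subgroup G), (P : Subgroup G)⁆ = M := by
    rcases hmin.min _ inferInstance hc1 with e1 | e1
    · exfalso
      refine rho_abelian hrho (P : Subgroup G) (fun a ha b hb => ?_) hPi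
      have e2 : ⁅a, b⁆ ∈ (⊥ : Subgroup G) := by
        rw [← e1]
        exact Subgroup.commutator_mem_commutator ha hb
      rw [Subgroup.mem_bot, commutatorElement_eq_one_iff_mul_comm] at e2
      exact e2
    · exact e1
  -- `M ≤ Z(P)`
  have hcen : ∀ m ∈ M, ∀ x ∈ (P : Subgroup G), m * x = x * m := by
    let C : Subgroup G := M ⊓ Subgroup.centralizer ((P : Subgroup G) : Set G)
    have hC : C.Normal := inferInstance
    rcases hmin.min C hC inf_le_left with e1 | e1
    · exfalso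
      -- the centre of `P` meets `M`
      have hPp : IsPGroup p (P : Subgroup G) := P.isPGroup'
      have hne : M.subgroupOf (P : Subgroup G) ≠ ⊥ := by
        rw [ne_eq, Subgroup.subgroupOf_eq_bot, disjoint_iff, inf_eq_left.2 hMP]
        exact hmin.ne
      have hnil : Group.IsNilpotent (P : Subgroup G) := hPp.isNilpotent
      have e2 := Lib.NormalAbelian.normal_inf_center_ne_bot (M.subgroupOf (P : Subgroup G)) hne
      apply e2
      rw [eq_bot_iff]
      intro x hx
      obtain ⟨hx1, hx2⟩ := Subgroup.mem_inf.1 hx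
      have e3 : (x : G) ∈ C := by
        refine Subgroup.mem_inf.2 ⟨hx1, Subgroup.mem_centralizer_iff.2 fun y hy => ?_⟩
        exact congrArg Subtype.val ((Subgroup.mem_center_iff.1 hx2) ⟨y, hy⟩)
      rw [e1, Subgroup.mem_bot] at e3
      rw [Subgroup.mem_bot]
      exact Subtype.ext e3
    · intro m hm x hx
      have : m ∈ C := by rw [e1]; exact hm
      exact ((Subgroup.mem_centralizer_iff.1 this.2) x hx).symm
  have hcop : Nat.Coprime (Nat.card (P : Subgroup G)) (P : Subgroup G).index := by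
    obtain ⟨k, hk⟩ := (IsPGroup.iff_card).1 P.isPGroup'
    rw [hk]
    exact Nat.Coprime.pow_left k ((Nat.Prime.coprime_iff_not_dvd hp).2 hPi)
  obtain ⟨H, hH⟩ := Subgroup.exists_right_complement'_of_coprime hcop
  refine ⟨P, H, hp, hmin, hP, P.isPGroup', hH, hc, hcen, ?_⟩
  rw [← hH.symm.index_eq_card]
  exact hPi

/-- **`FactT1`**, the first configuration. -/
theorem factT1 : FactT1.{u} := by
  intro G _ _ hsol M hM p hp hmin hrho hnrho hMp
  have : Fact p.Prime := ⟨hp⟩
  have := hsol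
  -- `M` is an elementary abelian `l`-group
  have hMs : Group.IsSolvable M := inferInstance
  have hab : ∀ a ∈ M, ∀ b ∈ M, a * b = b * a := by
    have hD : (⁅M, M⁆ : Subgroup G).Normal := inferInstance
    rcases hmin.min _ hD (Subgroup.commutator_le_left M M) with e1 | e1
    · intro a ha b hb
      have e2 : ⁅a, b⁆ ∈ (⊥ : Subgroup G) := by
        rw [← e1]
        exact Subgroup.commutator_mem_commutator ha hb
      rw [Subgroup.mem_bot, commutatorElement_eq_one_iff_mul_comm] at e2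
      exact e2
    · exfalso
      have hnt : Nontrivial M := (Subgroup.nontrivial_iff_ne_bot M).2 hmin.ne
      have e2 := Group.IsSolvable.commutator_lt_top_of_nontrivial M
      apply e2.ne
      apply Subgroup.map_injective M.subtype_injective
      rw [Subgroup.map_subtype_commutator, e1, ← MonoidHom.range_eq_map, Subgroup.range_subtype]
  obtain ⟨l, hl, hMl, -⟩ := Lib.MinNormalNonabelian.abelian_structure M hmin.ne hmin.min hab
  have hlp : l ≠ p := fun h => hMp (h ▸ hMl)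
  have : Fact l.Prime := ⟨hl⟩
  -- `G / M` has a normal abelian Sylow `p`-subgroup
  have hIM := H670.PSing.IM_of_pSolvable (Lib.PSolvable.IsPSolvable_of_solvable (G := G ⧸ M) p)
    (not_dvd_charDegree hnrho)
  obtain ⟨P⟩ : Nonempty (Sylow p G) := inferInstance
  obtain ⟨h1, h2⟩ := hIM (P.mapSurjective (QuotientGroup.mk'_surjective M))
  rw [Sylow.coe_mapSurjective] at h1 h2
  have hPM : ((P : Subgroup G) ⊔ M).Normal := by
    have e1 : ((P : Subgroup G).map (QuotientGroup.mk' M)).comap (QuotientGroup.mk' M) = (P : Subgroup G) ⊔ M := by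
      rw [Subgroup.comap_map_eq, QuotientGroup.ker_mk']
    rw [← e1]
    exact h1.comap _
  have hPi : ¬ p ∣ (P : Subgroup G).index := P.not_dvd_index
  have hPMd : (P : Subgroup G) ⊓ M = ⊥ := by
    obtain ⟨a, ha⟩ := (IsPGroup.iff_card).1 P.isPGroup'
    obtain ⟨b, hb⟩ := (IsPGroup.iff_card).1 hMl
    have e1 : (Nat.card (P : Subgroup G)).Coprime (Nat.card M) := by
      rw [ha, hb]
      exact Nat.Coprime.pow _ _ ((Nat.coprime_primes hp hl).2 hlp.symm)
    exact (Subgroup.disjoint_of_coprime_natCard e1).eq_bot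
  have hPab : ∀ a ∈ (P : Subgroup G), ∀ b ∈ (P : Subgroup G), a * b = b * a := by
    intro a ha b hb
    have e1 : ⁅a, b⁆ ∈ (P : Subgroup G) ⊓ M := by
      refine Subgroup.mem_inf.2 ⟨?_, ?_⟩
      · rw [commutatorElement_def]
        exact mul_mem (mul_mem (mul_mem ha hb) (inv_mem ha)) (inv_mem hb)
      · rw [← QuotientGroup.eq_one_iff, commutatorElement_def]
        have e1 := h2 _ (Subgroup.mem_map_of_mem _ ha) _ (Subgroup.mem_map_of_mem _ hb)
        have e2 : (a : G ⧸ M) * (b : G ⧸ M) = (b : G ⧸ M) * (a : G ⧸ M) := e1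
        rw [QuotientGroup.mk_mul, QuotientGroup.mk_mul, QuotientGroup.mk_mul, e2, QuotientGroup.mk_inv,
          QuotientGroup.mk_inv]
        group
    rw [hPMd, Subgroup.mem_bot, commutatorElement_eq_one_iff_mul_comm] at e1
    exact e1
  have hPn : ¬ (P : Subgroup G).Normal := fun h => rho_abelian hrho (P : Subgroup G) hPab hPi
  -- the complement
  let H : Subgroup G := Subgroup.normalizer ((P : Subgroup G) : Set G)
  have hHM : M ⊔ H = ⊤ := by
    have e1 := P.normalizer_sup_eq_top' (N := (P : Subgroup G) ⊔ M) le_sup_left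
    rw [eq_top_iff, ← e1]
    refine sup_le le_sup_right (sup_le ?_ le_sup_left)
    exact Subgroup.le_normalizer.trans le_sup_right
  have hMH : ¬ M ≤ H := by
    intro h
    apply hPn
    have e1 : H = ⊤ := by
      rw [← hHM, sup_eq_right.2 h]
    exact Subgroup.normalizer_eq_top_iff.1 e1
  have hdisj : M ⊓ H = ⊥ := by
    have hn : (M ⊓ H).Normal := by
      rw [← Subgroup.normalizer_eq_top_iff, eq_top_iff, ← hHM]
      refine sup_le ?_ ?_
      · intro a ha
        refine Transfer.FusionBasic.mem_normalizer_of_conj_mem fun x hx => ?_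
        have e1 : a * x * a⁻¹ = x := by
          rw [hab a ha x hx.1, mul_inv_cancel_right]
        rw [e1]
        exact hx
      · intro k hk
        refine Transfer.FusionBasic.mem_normalizer_of_conj_mem fun x hx => ?_
        exact Subgroup.mem_inf.2 ⟨hM.conj_mem x hx.1 k, mul_mem (mul_mem hk hx.2) (inv_mem hk)⟩
    rcases hmin.min _ hn inf_le_left with e1 | e1
    · exact e1
    · exact absurd (inf_eq_left.1 e1) hMH
  have hcompl : M.IsComplement' H := by
    refine Subgroup.isComplement'_of_disjoint_and_mul_eq_univ (disjoint_iff.2 hdisj) ?_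
    rw [← Subgroup.normal_mul, hHM]
    rfl
  obtain ⟨ρ, hρ1, hρ2, hρ3⟩ := exists_retract hcompl
  -- `[M, P] = M`
  have hcomm : ⁅M, (P : Subgroup G) ⊔ M⁆ = M := by
    rcases hmin.min ⁅M, (P : Subgroup G) ⊔ M⁆ inferInstance (Subgroup.commutator_le_left _ _) with e1 | e1
    · exfalso
      apply hMH
      intro a ha
      refine Transfer.FusionBasic.mem_normalizer_of_conj_mem fun x hx => ?_
      have e2 : ⁅a, x⁆ ∈ (⊥ : Subgroup G) := by
        rw [← e1]
        exact Subgroup.commutator_mem_commutator ha (Subgroup.mem_sup_left hx)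
      rw [Subgroup.mem_bot, commutatorElement_eq_one_iff_mul_comm] at e2
      rw [e2, mul_inv_cancel_right]
      exact hx
    · exact e1
  have hfix : ∀ v : LC M, v ≠ 0 → ¬ ((P : Subgroup G) ⊔ M ≤ MulAction.stabilizer G v) := by
    intro v hv hle
    apply hv
    apply LC.ext
    intro x
    rw [LC.hom_zero]
    have e1 : M ≤ v.hom.ker.map M.subtype := by
      conv_lhs => rw [← hcomm]
      rw [Subgroup.commutator_le]
      intro a ha b hb
      have e2 : ⁅a, b⁆ ∈ M := by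
        rw [← hcomm]
        exact Subgroup.commutator_mem_commutator ha hb
      refine ⟨⟨⁅a, b⁆, e2⟩, ?_, rfl⟩
      show v.hom _ = 1
      have hbv : b⁻¹ • v = v := MulAction.mem_stabilizer_iff.1 (inv_mem (hle hb))
      have e3 := LC.smul_hom M b⁻¹ v (⟨a, ha⟩⁻¹)
      rw [hbv] at e3
      have e4 : (⟨⁅a, b⁆, e2⟩ : M) = ⟨a, ha⟩ * ⟨b⁻¹⁻¹ * ((⟨a, ha⟩⁻¹ : M) : G) * b⁻¹, by
          rw [inv_inv]
          exact hM.conj_mem _ (⟨a, ha⟩⁻¹ : M).2 b⟩ := by
        apply Subtype.ext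
        show ⁅a, b⁆ = a * (b⁻¹⁻¹ * a⁻¹ * b⁻¹)
        rw [commutatorElement_def]
        group
      rw [e4, map_mul, ← e3, map_inv, mul_inv_cancel]
    obtain ⟨y, hy, hyx⟩ := e1 x.2
    have e2 : y = x := Subtype.ext hyx
    rw [← e2]
    exact hy
  have hidx : ∀ v : LC M, v ≠ 0 → p ∣ (MulAction.stabilizer H v).index := by
    intro v hv
    by_contra hcon
    apply hfix v hv
    set S : Subgroup G := MulAction.stabilizer G v with hS
    have hSi : S.index = (MulAction.stabilizer H v).index := by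
      rw [← Subgroup.index_comap_of_surjective _ hρ3]
      congr 1
      ext g
      rw [hS, Subgroup.mem_comap, MulAction.mem_stabilizer_iff, MulAction.mem_stabilizer_iff,
        smul_retract hρ1 hρ2]
    have hMS : M ≤ S := fun a ha => MulAction.mem_stabilizer_iff.2 (smul_of_mem ha v)
    rw [← hSi] at hcon
    -- a Sylow subgroup in `S`
    obtain ⟨Q₀⟩ : Nonempty (Sylow p S) := inferInstance
    have hQp : IsPGroup p ((Q₀ : Subgroup S).map S.subtype) := Q₀.isPGroup'.map _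
    have hQi : ¬ p ∣ ((Q₀ : Subgroup S).map S.subtype).index := by
      rw [Subgroup.index_map_subtype]
      intro h
      rcases (Nat.Prime.dvd_mul hp).1 h with h | h
      · exact Q₀.not_dvd_index h
      · exact hcon h
    obtain ⟨g, hg⟩ := MulAction.exists_smul_eq G P (hQp.toSylow hQi)
    have hg' : (P : Subgroup G).map (MulAut.conj g).toMonoidHom = (Q₀ : Subgroup S).map S.subtype := by
      have e1 := congrArg (fun R : Sylow p G => (R : Subgroup G)) hg
      simp only [IsPGroup.toSylow_coe] at e1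
      rw [← e1]
      rfl
    have hmapn : ∀ A : Subgroup G, A.Normal → A.map (MulAut.conj g).toMonoidHom = A := by
      intro A hA
      apply le_antisymm
      · rintro _ ⟨x, hx, rfl⟩
        exact hA.conj_mem x hx g
      · intro x hx
        refine ⟨g⁻¹ * x * g, ?_, ?_⟩
        · have := hA.conj_mem x hx g⁻¹
          rwa [inv_inv] at this
        · show g * (g⁻¹ * x * g) * g⁻¹ = x
          group
    have e1 := hmapn _ hPM
    have e2 := hmapn _ hM
    rw [← e1, Subgroup.map_sup, hg', e2]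
    refine sup_le ?_ hMS
    rintro _ ⟨x, -, rfl⟩
    exact x.2
  obtain ⟨n, hn⟩ := (IsPGroup.iff_card).1 hMl
  refine ⟨H, hcompl, irr_of_minN M hmin hab hHM, ⟨l, n, hl, hlp, ?_, ?_⟩, charDegrees_compl hcompl, ?_, ?_⟩
  · rcases Nat.eq_zero_or_pos n with h0 | h0
    · exfalso
      rw [h0, pow_zero] at hn
      exact hmin.ne (Subgroup.card_eq_one.1 hn)
    · exact h0
  · rw [card_LC M hab, hn]
  · intro v hv d hd
    exact ⟨_, index_mul_mem hcompl v hd, dvd_rfl, (hidx v hv).mul_right d⟩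
  · intro z hz hzr Z hZn hZab hZt
    have : Fact z.Prime := ⟨hz⟩
    have hA : ((Z : Subgroup H).comap ρ).Normal := hZn.comap ρ
    refine rho_abelian hzr ((Z : Subgroup H).comap ρ) ?_ ?_
    · have key : ∀ k ∈ (Z : Subgroup H), ∀ a ∈ M, (k : G) * a = a * k := fun k hk a ha =>
        comm_of_triv M hab (fun v => hZt k hk v) ha
      have hdec : ∀ g : G, ∃ a ∈ M, g = a * ((ρ g : H) : G) := by
        intro g
        refine ⟨g * ((ρ g : H) : G)⁻¹, ?_, by group⟩
        rw [← hρ1, map_mul, map_inv, hρ2, mul_inv_cancel]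
      intro x hx y hy
      obtain ⟨a, ha, ea⟩ := hdec x
      obtain ⟨b, hb, eb⟩ := hdec y
      have h3 : ((ρ x : H) : G) * ((ρ y : H) : G) = ((ρ y : H) : G) * ((ρ x : H) : G) :=
        congrArg Subtype.val (hZab _ hx _ hy)
      have h4 := key _ hx b hb
      have h5 := key _ hy a ha
      rw [ea, eb]
      clear ea eb
      generalize ((ρ x : H) : G) = k at *
      generalize ((ρ y : H) : G) = k' at *
      calc a * k * (b * k') = a * (k * b) * k' := by group
        _ = (a * b) * (k * k') := by rw [h4]; group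
        _ = (b * a) * (k' * k) := by rw [hab a ha b hb, h3]
        _ = b * (a * k') * k := by group
        _ = b * k' * (a * k) := by rw [← h5]; group
    · rw [Subgroup.index_comap_of_surjective _ hρ3]
      exact Z.not_dvd_index

end

end Cfsg.Agent.H415.Palfy
end

-- part: H55/Palfy/Grp
section
/-!
# `FactT2a`: the group theoretic part (helper55)
-/

set_option autoImplicit false
set_option linter.unusedSectionVars false

namespace Cfsg.Agent.H55.T2a

open Cfsg Cfsg.Agent.H670.Palfy Subgroup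
open scoped commutatorElement

universe u

variable {G : Type u} [Group G] [Finite G] {M P H : Subgroup G} [hMn : M.Normal] [hPn : P.Normal] {p : ℕ}

section pre

variable (h : T2pre G M P H p)

include h

theorem M_le : M ≤ P := by
  rw [← h.comm]
  exact Subgroup.commutator_le_left P P

theorem exists_mul (g : G) : ∃ x ∈ P, ∃ k ∈ H, g = x * k := by
  obtain ⟨⟨x, k⟩, hxk⟩ := h.compl.2 g
  exact ⟨x, x.2, k, k.2, hxk.symm⟩

theorem comm_M {a b : G} (ha : a ∈ M) (hb : b ∈ M) : a * b = b * a := h.cen a ha b (M_le h hb)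

/-- an element trivial on the linear characters of `P` is trivial on `P / M` -/
theorem mem_of_triv {k : G} (hk : ∀ w : LC P, k • w = w) {x : G} (hx : x ∈ P) : k⁻¹ * x * k * x⁻¹ ∈ M := by
  have hxk : k⁻¹ * x * k ∈ P := by
    have := hPn.conj_mem x hx k⁻¹
    rwa [inv_inv] at this
  by_contra hn
  obtain ⟨β, -, hβ⟩ := H675.Nd.exists_lin_ne (M_le h) (le_of_eq h.comm)
    (x := (⟨k⁻¹ * x * k * x⁻¹, P.mul_mem hxk (P.inv_mem hx)⟩ : P)) hn
  apply hβ
  have h1 : (k • LC.of β).hom ⟨x, hx⟩ = (LC.of β).hom ⟨x, hx⟩ := by rw [hk]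
  rw [LC.smul_hom] at h1
  have h2 : (⟨k⁻¹ * x * k * x⁻¹, P.mul_mem hxk (P.inv_mem hx)⟩ : P) = ⟨k⁻¹ * x * k, hxk⟩ * (⟨x, hx⟩ : P)⁻¹ := rfl
  rw [h2, map_mul, map_inv, mul_inv_eq_one]
  exact h1

/-- **`ker`**: it is trivial on `M` -/
theorem comm_of_triv {k : G} (hk : ∀ w : LC P, k • w = w) {m : G} (hm : m ∈ M) : k⁻¹ * m * k = m := by
  let C : Subgroup G :=
    { carrier := {m | k⁻¹ * m * k = m}
      one_mem' := by simp
      mul_mem' := by
        intro a b ha hb
        have ha' : k⁻¹ * a * k = a := ha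
        have hb' : k⁻¹ * b * k = b := hb
        show k⁻¹ * (a * b) * k = a * b
        calc k⁻¹ * (a * b) * k = (k⁻¹ * a * k) * (k⁻¹ * b * k) := by group
          _ = a * b := by rw [ha', hb']
      inv_mem' := by
        intro a ha
        have ha' : k⁻¹ * a * k = a := ha
        show k⁻¹ * a⁻¹ * k = a⁻¹
        calc k⁻¹ * a⁻¹ * k = (k⁻¹ * a * k)⁻¹ := by group
          _ = a⁻¹ := by rw [ha'] }
  have hle : ⁅P, P⁆ ≤ C := by
    rw [Subgroup.commutator_le]
    intro x hx y hy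
    show k⁻¹ * ⁅x, y⁆ * k = ⁅x, y⁆
    have hc1 := h.cen _ (mem_of_triv h hk hx)
    have hc2 := h.cen _ (mem_of_triv h hk hy)
    set m₁ := k⁻¹ * x * k * x⁻¹ with e1
    set m₂ := k⁻¹ * y * k * y⁻¹ with e2
    have f1 : k⁻¹ * x * k = m₁ * x := by rw [e1]; group
    have f2 : k⁻¹ * y * k = m₂ * y := by rw [e2]; group
    have hm₂P : m₂ ∈ P := M_le h (mem_of_triv h hk hy)
    have g1 : k⁻¹ * ⁅x, y⁆ * k = (m₁ * x) * (m₂ * y) * (m₁ * x)⁻¹ * (m₂ * y)⁻¹ := by
      rw [← f1, ← f2, commutatorElement_def]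
      group
    have c1 := hc1 x hx
    have c2 := hc1 y hy
    have c3 := hc2 x hx
    have c4 := hc2 y hy
    have c5 := hc1 m₂ hm₂P
    rw [g1, commutatorElement_def]
    calc m₁ * x * (m₂ * y) * (m₁ * x)⁻¹ * (m₂ * y)⁻¹
        = m₁ * (x * m₂) * y * x⁻¹ * m₁⁻¹ * y⁻¹ * m₂⁻¹ := by group
      _ = m₁ * (m₂ * x) * y * x⁻¹ * m₁⁻¹ * y⁻¹ * m₂⁻¹ := by rw [c3]
      _ = (m₁ * m₂) * (x * y * x⁻¹) * (m₁⁻¹ * y⁻¹) * m₂⁻¹ := by group
      _ = (m₁ * m₂) * (x * y * x⁻¹) * (y⁻¹ * m₁⁻¹) * m₂⁻¹ := by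
          have : m₁⁻¹ * y⁻¹ = y⁻¹ * m₁⁻¹ := by rw [← mul_inv_rev, ← mul_inv_rev, c2]
          rw [this]
      _ = (m₁ * m₂) * (x * y * x⁻¹ * y⁻¹) * (m₁⁻¹ * m₂⁻¹) := by group
      _ = (x * y * x⁻¹ * y⁻¹) * (m₁ * m₂) * (m₁⁻¹ * m₂⁻¹) := by
          have hxy : x * y * x⁻¹ * y⁻¹ ∈ P :=
            P.mul_mem (P.mul_mem (P.mul_mem hx hy) (P.inv_mem hx)) (P.inv_mem hy)
          have d1 := hc1 _ hxy
          have d2 := hc2 _ hxy
          congr 1
          calc m₁ * m₂ * (x * y * x⁻¹ * y⁻¹) = m₁ * (m₂ * (x * y * x⁻¹ * y⁻¹)) := by group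
            _ = (m₁ * (x * y * x⁻¹ * y⁻¹)) * m₂ := by rw [d2]; group
            _ = _ := by rw [d1]; group
      _ = (x * y * x⁻¹ * y⁻¹) * (m₁ * m₂) * (m₂ * m₁)⁻¹ := by group
      _ = x * y * x⁻¹ * y⁻¹ := by rw [← c5, mul_inv_cancel_right]
  rw [h.comm] at hle
  exact hle hm

theorem ker {k : G} (hk : ∀ w : LC P, k • w = w) (v : LC M) : k • v = v := by
  apply LC.ext
  intro n
  rw [LC.smul_hom]
  congr 1
  exact Subtype.ext (comm_of_triv h hk n.2)

/-- a `p'`-element trivial on the linear characters of `P` centralizes `P` -/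
theorem cent_of_triv {z : ℕ} (hz : z.Prime) (hzp : z ≠ p) {k : G} {j : ℕ} (hkz : k ^ z ^ j = 1)
    (hk : ∀ w : LC P, k • w = w) {x : G} (hx : x ∈ P) : k⁻¹ * x * k = x := by
  have hm := mem_of_triv h hk hx
  have hkm := comm_of_triv h hk hm
  obtain ⟨m, e1⟩ : ∃ m, m = k⁻¹ * x * k * x⁻¹ := ⟨_, rfl⟩
  rw [← e1] at hm hkm
  have f1 : k⁻¹ * x * k = m * x := by rw [e1]; group
  have key : ∀ n : ℕ, (k ^ n)⁻¹ * x * k ^ n = m ^ n * x := by
    intro n
    induction n with
    | zero => simp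
    | succ n ih =>
      have h1 : (k ^ (n + 1))⁻¹ * x * k ^ (n + 1) = k⁻¹ * ((k ^ n)⁻¹ * x * k ^ n) * k := by
        rw [pow_succ]; group
      have h2 : ∀ i : ℕ, k⁻¹ * m ^ i * k = m ^ i := by
        intro i
        have := conj_pow (a := k⁻¹) (b := m) (i := i)
        rw [inv_inv, hkm] at this
        exact this.symm
      rw [h1, ih]
      calc k⁻¹ * (m ^ n * x) * k = (k⁻¹ * m ^ n * k) * (k⁻¹ * x * k) := by group
        _ = m ^ n * (m * x) := by rw [h2, f1]
        _ = m ^ (n + 1) * x := by rw [pow_succ, mul_assoc]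
  have h1 := key (z ^ j)
  rw [hkz, inv_one, one_mul, mul_one] at h1
  have h2 : m ^ z ^ j = 1 := by
    have : m ^ z ^ j * x = 1 * x := by rw [one_mul]; exact h1.symm
    exact mul_right_cancel this
  obtain ⟨i, hi⟩ := h.isP ⟨m, M_le h hm⟩
  have h3 : m ^ p ^ i = 1 := congrArg Subtype.val hi
  have h4 : Nat.Coprime (z ^ j) (p ^ i) := Nat.Coprime.pow _ _ ((Nat.coprime_primes hz h.prime).2 hzp)
  have h5 := pow_gcd_eq_one.2 ⟨h2, h3⟩
  rw [h4.gcd_eq_one, pow_one] at h5
  rw [f1, h5, one_mul]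

/-- **`nt`** -/
theorem nt {z : ℕ} (hz : z.Prime) (hzp : z ≠ p) (hr : Rho z G) (Z : Sylow z H) (hZ : (Z : Subgroup H).Normal)
    (hab : ∀ a ∈ (Z : Subgroup H), ∀ b ∈ (Z : Subgroup H), a * b = b * a) (ht : Triv (LC P) (Z : Subgroup H)) :
    False := by
  have hf : Fact z.Prime := ⟨hz⟩
  let A : Subgroup G := (Z : Subgroup H).map H.subtype
  have hAc : ∀ a ∈ A, ∀ x ∈ P, a * x = x * a := by
    rintro _ ⟨a, ha, rfl⟩ x hx
    obtain ⟨j, hj⟩ := Z.isPGroup' ⟨a, ha⟩
    have hj' : (a : G) ^ z ^ j = 1 := congrArg (fun y : Z => ((y : H) : G)) hj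
    have h1 := cent_of_triv h hz hzp hj' (fun w => ht a ha w) hx
    have h2 : x * (a : G) = a * x := by
      rw [mul_assoc, inv_mul_eq_iff_eq_mul] at h1
      exact h1
    exact h2.symm
  have hAn : A.Normal := by
    constructor
    intro a ha g
    obtain ⟨x, hx, k, hk, rfl⟩ := exists_mul h g
    have h1 : k * a * k⁻¹ ∈ A := by
      obtain ⟨b, hb, rfl⟩ := ha
      exact ⟨⟨k, hk⟩ * b * ⟨k, hk⟩⁻¹, hZ.conj_mem b hb ⟨k, hk⟩, rfl⟩
    have h2 : x * k * a * (x * k)⁻¹ = k * a * k⁻¹ := by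
      have h3 := hAc _ h1 x hx
      calc x * k * a * (x * k)⁻¹ = x * (k * a * k⁻¹) * x⁻¹ := by group
        _ = (k * a * k⁻¹) * x * x⁻¹ := by rw [h3]
        _ = _ := by group
    rw [h2]
    exact h1
  have hAab : ∀ a ∈ A, ∀ b ∈ A, a * b = b * a := by
    rintro _ ⟨a, ha, rfl⟩ _ ⟨b, hb, rfl⟩
    exact congrArg Subtype.val (hab a ha b hb)
  obtain ⟨e, he, hze⟩ := hr
  have h1 := H424.DegTools.ito he A hAab
  have h2 : z ∣ A.index := hze.trans h1
  have h3 : Nat.card A * A.index = Nat.card P * (Nat.card (Z : Subgroup H) * (Z : Subgroup H).index) := by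
    rw [Subgroup.card_mul_index, Subgroup.card_mul_index, h.compl.card_mul_card]
  have h4 : Nat.card A = Nat.card (Z : Subgroup H) := Subgroup.card_map_of_injective H.subtype_injective
  rw [h4] at h3
  have h5 : A.index = Nat.card P * (Z : Subgroup H).index := by
    have hpos : 0 < Nat.card (Z : Subgroup H) := Nat.card_pos
    apply Nat.eq_of_mul_eq_mul_left hpos
    rw [h3]
    ring
  rw [h5] at h2
  rcases (hz.dvd_mul).1 h2 with h6 | h6
  · have hfp : Fact p.Prime := ⟨h.prime⟩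
    obtain ⟨i, hi⟩ := (IsPGroup.iff_card (p := p)).1 h.isP
    rw [hi] at h6
    exact hzp ((Nat.prime_dvd_prime_iff_eq hz h.prime).1 (hz.dvd_of_dvd_pow h6))
  · exact Z.not_dvd_index h6

end pre

/-! ### Duality -/

theorem card_hom {A : Type*} [Group A] [Finite A] (hA : ∀ a b : A, a * b = b * a) :
    Nat.card (A →* ℂˣ) = Nat.card A := by
  let _ : CommGroup A := { (inferInstance : Group A) with mul_comm := hA }
  exact CommGroup.card_monoidHom_of_hasEnoughRootsOfUnity A ℂ

/-- a group of linear characters without common kernel contains all of them -/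
theorem eq_top_of_ann {A : Type*} [Group A] [Finite A] (hA : ∀ a b : A, a * b = b * a) (W : Subgroup (A →* ℂˣ))
    (hW : ∀ a : A, (∀ f ∈ W, f a = 1) → a = 1) : W = ⊤ := by
  have hfin : Finite (A →* ℂˣ) := Nat.finite_of_card_ne_zero (by rw [card_hom hA]; exact Nat.card_pos.ne')
  let ev : A →* (W →* ℂˣ) :=
    { toFun := fun a => { toFun := fun f => (f : A →* ℂˣ) a, map_one' := rfl, map_mul' := fun _ _ => rfl }
      map_one' := MonoidHom.ext fun f => map_one (f : A →* ℂˣ)
      map_mul' := fun a b => MonoidHom.ext fun f => map_mul (f : A →* ℂˣ) a b }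
  have hinj : Function.Injective ev := by
    rw [injective_iff_map_eq_one]
    intro a ha
    apply hW
    intro f hf
    exact congrArg (fun φ : W →* ℂˣ => φ ⟨f, hf⟩) ha
  have h1 : Nat.card (W →* ℂˣ) = Nat.card W := card_hom fun a b => mul_comm a b
  have hfin' : Finite (W →* ℂˣ) := Nat.finite_of_card_ne_zero (by rw [h1]; exact Nat.card_pos.ne')
  have h2 := Nat.card_le_card_of_injective ev hinj
  rw [h1, ← card_hom hA] at h2
  exact Subgroup.eq_top_of_le_card _ h2

section pre2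

variable (h : T2pre G M P H p)

include h

theorem M_comm (a b : M) : a * b = b * a := Subtype.ext (comm_M h a.2 b.2)

/-- **`irr`** -/
theorem irr : Irr H (LC M) := by
  intro W hW
  let N : Subgroup G :=
    { carrier := {m | ∃ hm : m ∈ M, ∀ w ∈ W, LC.hom w ⟨m, hm⟩ = 1}
      one_mem' := ⟨M.one_mem, fun w _ => map_one (LC.hom w)⟩
      mul_mem' := by
        rintro a b ⟨ha, ha'⟩ ⟨hb, hb'⟩
        refine ⟨M.mul_mem ha hb, fun w hw => ?_⟩
        have h1 : (⟨a * b, M.mul_mem ha hb⟩ : M) = ⟨a, ha⟩ * ⟨b, hb⟩ := rfl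
        rw [h1, map_mul, ha' w hw, hb' w hw, one_mul]
      inv_mem' := by
        rintro a ⟨ha, ha'⟩
        refine ⟨M.inv_mem ha, fun w hw => ?_⟩
        have h1 : (⟨a⁻¹, M.inv_mem ha⟩ : M) = (⟨a, ha⟩ : M)⁻¹ := rfl
        rw [h1, map_inv, ha' w hw, inv_one] }
  have hNM : N ≤ M := fun m hm => hm.1
  have hNn : N.Normal := by
    constructor
    rintro m ⟨hm, hm'⟩ g
    obtain ⟨x, hx, k, hk, rfl⟩ := exists_mul h g
    have h1 : k * m * k⁻¹ ∈ M := hMn.conj_mem m hm k
    have h2 : x * k * m * (x * k)⁻¹ = k * m * k⁻¹ := by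
      have h3 := h.cen _ h1 x hx
      calc x * k * m * (x * k)⁻¹ = x * (k * m * k⁻¹) * x⁻¹ := by group
        _ = (k * m * k⁻¹) * x * x⁻¹ := by rw [h3]
        _ = _ := by group
    rw [h2]
    refine ⟨h1, fun w hw => ?_⟩
    have h3 := hm' _ (hW (⟨k, hk⟩⁻¹ : H) w hw)
    have h4 : ((⟨k, hk⟩⁻¹ : H) • w : LC M) = k⁻¹ • w := rfl
    rw [h4, LC.smul_hom] at h3
    rw [← h3]
    congr 1
    apply Subtype.ext
    simp
  rcases h.minN.min N hNn hNM with h1 | h1
  · right
    let W' : Subgroup (↥M →* ℂˣ) :=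
      { carrier := {f | LC.of f ∈ W}
        one_mem' := W.zero_mem
        mul_mem' := fun {a b} ha hb => W.add_mem ha hb
        inv_mem' := fun {a} ha => W.neg_mem ha }
    have h2 : W' = ⊤ := by
      refine eq_top_of_ann (M_comm h) W' fun a ha => ?_
      have h3 : (a : G) ∈ N := ⟨a.2, fun w hw => ha w.hom hw⟩
      rw [h1, Subgroup.mem_bot] at h3
      exact Subtype.ext h3
    rw [eq_top_iff]
    intro w _
    have h3 : w.hom ∈ W' := by rw [h2]; exact Subgroup.mem_top _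
    exact h3
  · left
    rw [eq_bot_iff]
    intro w hw
    rw [AddSubgroup.mem_bot]
    apply LC.ext
    intro n
    have h2 : (n : G) ∈ N := by rw [h1]; exact n.2
    exact h2.2 w hw

theorem isP_M : IsPGroup p M := h.isP.to_le (M_le h)

/-- **`card`** -/
theorem card : ∃ n : ℕ, 0 < n ∧ Nat.card (LC M) = p ^ n := by
  have hf : Fact p.Prime := ⟨h.prime⟩
  obtain ⟨n, hn⟩ := (IsPGroup.iff_card (p := p)).1 (isP_M h)
  have h1 : Nat.card (LC M) = Nat.card M := card_hom (M_comm h)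
  refine ⟨n, ?_, by rw [h1, hn]⟩
  rcases Nat.eq_zero_or_pos n with rfl | h0
  · exfalso
    rw [pow_zero] at hn
    exact h.minN.ne (Subgroup.card_eq_one.1 hn)
  · exact h0

/-- **`cardW`** -/
theorem cardW : ∃ n : ℕ, Nat.card (LC P) = p ^ n := by
  have hf : Fact p.Prime := ⟨h.prime⟩
  have h1 : IsPGroup p (Abelianization P) := h.isP.to_quotient _
  obtain ⟨n, hn⟩ := (IsPGroup.iff_card (p := p)).1 h1
  refine ⟨n, ?_⟩
  rw [← hn, ← card_hom (A := Abelianization P) fun a b => mul_comm a b]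
  exact Nat.card_congr Abelianization.lift

end pre2

end Cfsg.Agent.H55.T2a
end

-- part: H55/Palfy/Deg
section
/-!
# `FactT2a`: degrees (helper55)

* `core` : `P` normal with complement `H` of coprime order, `θ ∈ Irr P`, `S = H_θ`: `|H : S| d θ(1)` is a degree of `G`
  for the degrees `d` of `S`.
-/

set_option autoImplicit false
set_option linter.unusedSectionVars false

namespace Cfsg.Agent.H55.T2a

open Cfsg Cfsg.Agent.H670.Palfy Subgroup
open Cfsg.Agent.H672 Cfsg.Agent.H672.RM Cfsg.Agent.H675.Nd Cfsg.Agent.Characters.Core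
open scoped commutatorElement

universe u

section proj

variable {G : Type u} [Group G] {P H : Subgroup G} [hPn : P.Normal] (hc : P.IsComplement' H)

/-- the projection onto the complement -/
noncomputable def pi : G →* H := (hc.symm.QuotientMulEquiv).toMonoidHom.comp (QuotientGroup.mk' P)

theorem pi_coe (k : H) : pi hc (k : G) = k := by
  have h1 : (hc.symm.QuotientMulEquiv).symm k = QuotientGroup.mk' P (k : G) := rfl
  show (hc.symm.QuotientMulEquiv) (QuotientGroup.mk' P (k : G)) = k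
  rw [← h1]
  exact MulEquiv.apply_symm_apply _ k

theorem pi_P {x : G} (hx : x ∈ P) : pi hc x = 1 := by
  have h1 : QuotientGroup.mk' P x = 1 := by
    rw [QuotientGroup.mk'_apply, QuotientGroup.eq_one_iff]
    exact hx
  show (hc.symm.QuotientMulEquiv) (QuotientGroup.mk' P x) = 1
  rw [h1, map_one]

theorem pi_mul {x : G} (hx : x ∈ P) (k : H) : pi hc (x * k) = k := by
  rw [map_mul, pi_P hc hx, pi_coe, one_mul]

theorem pi_surjective : Function.Surjective (pi hc) := fun k => ⟨k, pi_coe hc k⟩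

end proj

section core

variable {G : Type u} [Group G] [Finite G] {P H : Subgroup G} [hPn : P.Normal] (hc : P.IsComplement' H)
  (hcop : (Nat.card P).Coprime (Nat.card H)) {θ : P → ℂ} (hθ : IsIrrCharacter P θ) (S : Subgroup H)
  (hS : ∀ k : H, k ∈ S ↔ (k : G) ∈ stab θ)

include hθ hS in
theorem stab_eq : stab θ = S.comap (pi hc) := by
  ext g
  obtain ⟨⟨x, k⟩, hxk⟩ := hc.2 g
  have hg : g = (x : G) * k := hxk.symm
  have hx : (x : G) ∈ stab θ := le_stab (isIrr_isClassFunction hθ) x.2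
  rw [hg, Subgroup.mem_comap, pi_mul hc x.2, hS k]
  constructor
  · intro h
    have := Subgroup.mul_mem _ (Subgroup.inv_mem _ hx) h
    rwa [inv_mul_cancel_left] at this
  · intro h
    exact Subgroup.mul_mem _ hx h

include hc hcop hθ hS in
/-- **The degrees over `θ`.** -/
theorem core {d : ℕ} (hd : d ∈ charDegrees S) : S.index * d * charDegree θ ∈ charDegrees G := by
  classical
  obtain ⟨ψ, hψ, hψ1⟩ := H424.DegTools.mem_charDegrees.1 hd
  have hst := stab_eq hc hθ S hS
  have hnorm : ∀ g : G, g ∈ Subgroup.normalizer (P : Set G) := fun g => by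
    rw [Subgroup.normalizer_eq_top]; exact Subgroup.mem_top g
  have hI : Inert P (stab θ) (⊤ : Subgroup G) θ :=
    { le := le_top
      nrm := fun g _ => hnorm g
      irr := hθ
      eq := by rw [top_inf_eq] }
  have hKT : P ≤ stab θ := le_stab (isIrr_isClassFunction hθ)
  -- the projection of the stabilizer
  let πT : ↥(stab θ) →* S := ((pi hc).comp (stab θ).subtype).codRestrict S (by
    intro t
    have h1 : (t : G) ∈ S.comap (pi hc) := by rw [← hst]; exact t.2
    exact h1)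
  have hπT : Function.Surjective πT := by
    rintro ⟨k, hk⟩
    refine ⟨⟨(k : G), (hS k).1 hk⟩, Subtype.ext ?_⟩
    exact pi_coe hc k
  have hπP : ∀ x : P, πT (Subgroup.inclusion hKT x) = 1 := fun x => Subtype.ext (pi_P hc x.2)
  have hβ : IsIrrCharacter ↥(stab θ) (ψ ∘ πT) := isIrr_comp πT hπT hψ
  -- the extension
  have hcop' : (Nat.card P).Coprime (P.relIndex (stab θ)) := by
    refine Nat.Coprime.coprime_dvd_right ?_ hcop
    have h1 : P.index = Nat.card H := hc.symm.index_eq_card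
    rw [← h1]
    exact Subgroup.relIndex_dvd_index_of_normal P (stab θ)
  obtain ⟨χ, hχ, hres⟩ := exists_ext hKT hθ le_rfl hcop'
  have hg := gal hKT (stab_le θ) hθ hχ hres
  have hmem := hg.mapsTo (show ψ ∘ πT ∈ {β : ↥(stab θ) → ℂ | IsIrrCharacter _ β ∧
    ∀ k : P, β (Subgroup.inclusion hKT k) = β 1} from ⟨hβ, fun k => by
      simp only [Function.comp, hπP, map_one]⟩)
  obtain ⟨hη, hov⟩ := hmem
  obtain ⟨Ψ, hΨ, -, -, hdeg⟩ := hI.lift hη hov
  have h1 : charDegree ((ψ ∘ πT) * χ) = d * charDegree θ := by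
    apply charDegree_of_eq
    have h2 : χ 1 = θ 1 := by
      have := hres 1
      rwa [map_one] at this
    simp only [Pi.mul_apply, Function.comp, map_one, hψ1, h2, Nat.cast_mul]
    rw [coe_charDegree hθ]
  have h2 : (stab θ).relIndex (⊤ : Subgroup G) = S.index := by
    rw [Subgroup.relIndex_top_right, hst, Subgroup.index_comap_of_surjective _ (pi_surjective hc)]
  have h3 : charDegree Ψ ∈ charDegrees ↥(⊤ : Subgroup G) := ⟨⟨Ψ, hΨ⟩, rfl⟩
  have h4 := H424.DegTools.charDegrees_of_surjective (Subgroup.topEquiv (G := G)).symm.toMonoidHom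
    (Subgroup.topEquiv (G := G)).symm.surjective h3
  change charDegree Ψ = (stab θ).relIndex ⊤ * charDegree ((ψ ∘ πT) * χ) at hdeg
  rw [hdeg, h1, h2, ← mul_assoc] at h4
  exact h4

end core

/-- the stabilizers -/
theorem smul_eq_iff {G : Type u} [Group G] {N : Subgroup G} [hN : N.Normal] (g : G) (v : LC N) :
    g • v = v ↔ g ∈ stab (lf v.hom : N → ℂ) := by
  have hnorm : ∀ g : G, g ∈ Subgroup.normalizer (N : Set G) := fun g => by
    rw [Subgroup.normalizer_eq_top]; exact Subgroup.mem_top g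
  have key : ∀ g : G, g • v = v ↔ ∀ n : N, v.hom ⟨g⁻¹ * n * g, by
      have := hN.conj_mem n n.2 g⁻¹
      rwa [inv_inv] at this⟩ = v.hom n := by
    intro g
    constructor
    · intro h n
      rw [← LC.smul_hom, h]
    · intro h
      apply LC.ext
      intro n
      rw [LC.smul_hom]
      exact h n
  have h1 : g ∈ stab (lf v.hom : N → ℂ) ↔ g⁻¹ • v = v := by
    rw [mem_stab, key]
    constructor
    · rintro ⟨-, h⟩ n
      have h2 := congrFun h n
      rw [tw_apply (hnorm g)] at h2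
      have h3 : v.hom ⟨g * n * g⁻¹, hN.conj_mem n n.2 g⟩ = v.hom n := Units.ext h2
      rw [← h3]
      congr 1
      apply Subtype.ext
      simp
    · intro h
      refine ⟨hnorm g, ?_⟩
      funext n
      rw [tw_apply (hnorm g)]
      have h3 := h n
      show (v.hom _ : ℂ) = (v.hom n : ℂ)
      rw [← h3]
      congr 2
      apply Subtype.ext
      simp
  rw [h1, inv_smul_eq_iff]
  exact eq_comm

section pre

variable {G : Type u} [Group G] [Finite G] {M P H : Subgroup G} [hMn : M.Normal] [hPn : P.Normal] {p : ℕ}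
  (h : T2pre G M P H p)

include h

theorem coprime : (Nat.card P).Coprime (Nat.card H) := by
  have hf : Fact p.Prime := ⟨h.prime⟩
  obtain ⟨n, hn⟩ := (IsPGroup.iff_card (p := p)).1 h.isP
  rw [hn]
  exact Nat.Coprime.pow_left _ ((Nat.Prime.coprime_iff_not_dvd h.prime).2 h.ndvd)

/-- **`cd`** -/
theorem cd : charDegrees H ⊆ charDegrees G :=
  H424.DegTools.charDegrees_of_surjective (pi h.compl) (pi_surjective h.compl)

/-- **`cfgW`** -/
theorem cfgW : Cfg (charDegrees G) H (LC P) 1 := by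
  intro v _ d hd
  refine ⟨_, core h.compl (coprime h) (isIrr_lf v.hom) (MulAction.stabilizer H v) (fun k => ?_) hd, ?_, one_dvd _⟩
  · rw [MulAction.mem_stabilizer_iff, ← smul_eq_iff]
    exact Iff.rfl
  · rw [charDegree_lf, mul_one]

end pre

end Cfsg.Agent.H55.T2a
end

-- part: H55/Palfy/Inv
section
/-!
# `FactT2a`: invariant characters over `λ` (helper55)

`P` a group of class two, `M = P'` central, `λ` a linear character of `M`, `Z` the subgroup of the `x ∈ P` with
`[x, P] ≤ ker λ`.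

* `zero_off`, `uniq` : an irreducible character of `P` over an extension `μ` of `λ` to `Z` vanishes outside `Z`; it is
  unique;
* `exists_mu` : there is an extension `μ` of `λ` to `Z` invariant under the stabilizer of `λ` in `H`;
* `exists_theta` : `θ ∈ Irr P` with the same stabilizer in `H`, `p ∣ θ(1)` if `λ ≠ 1`.
-/

set_option autoImplicit false
set_option linter.unusedSectionVars false
set_option linter.style.haveILetI false

namespace Cfsg.Agent.H55.T2a

open Cfsg Cfsg.Agent.H670.Palfy Subgroup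
open Cfsg.Agent.H672 Cfsg.Agent.H672.RM Cfsg.Agent.H675.Nd Cfsg.Agent.Characters.Core
open scoped commutatorElement

universe u

variable {G : Type u} [Group G] [Finite G] {M P H : Subgroup G} [hMn : M.Normal] [hPn : P.Normal] {p : ℕ}

/-- the kernel of a linear character of `M` -/
def KL (v : LC M) : Subgroup G := (LC.hom v).ker.map M.subtype

theorem mem_KL {v : LC M} {g : G} : g ∈ KL v ↔ ∃ hg : g ∈ M, LC.hom v ⟨g, hg⟩ = 1 := by
  constructor
  · rintro ⟨m, hm, rfl⟩
    exact ⟨m.2, hm⟩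
  · rintro ⟨hg, h1⟩
    exact ⟨⟨g, hg⟩, h1, rfl⟩

section pre

variable (h : T2pre G M P H p)

include h

theorem comm_mem {x y : G} (hx : x ∈ P) (hy : y ∈ P) : ⁅x, y⁆ ∈ M := by
  rw [← h.comm]
  exact Subgroup.commutator_mem_commutator hx hy

/-- the elements of `P` central modulo the kernel of `v` -/
def ZL (v : LC M) : Subgroup G where
  carrier := {x | x ∈ P ∧ ∀ y ∈ P, ⁅x, y⁆ ∈ KL v}
  one_mem' := ⟨P.one_mem, fun y _ => by rw [commutatorElement_one_left]; exact Subgroup.one_mem _⟩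
  mul_mem' := by
    rintro a b ⟨ha, ha'⟩ ⟨hb, hb'⟩
    refine ⟨P.mul_mem ha hb, fun y hy => ?_⟩
    have h1 : ⁅a * b, y⁆ = ⁅b, y⁆ * ⁅a, y⁆ := by
      have hc := h.cen _ (comm_mem h hb hy) a ha
      calc ⁅a * b, y⁆ = a * ⁅b, y⁆ * y * a⁻¹ * y⁻¹ := by rw [commutatorElement_def, commutatorElement_def]; group
        _ = ⁅b, y⁆ * a * y * a⁻¹ * y⁻¹ := by rw [hc]
        _ = ⁅b, y⁆ * ⁅a, y⁆ := by rw [commutatorElement_def a y]; group
    rw [h1]
    exact Subgroup.mul_mem _ (hb' y hy) (ha' y hy)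
  inv_mem' := by
    rintro a ⟨ha, ha'⟩
    refine ⟨P.inv_mem ha, fun y hy => ?_⟩
    have h1 : ⁅a⁻¹, y⁆ = (⁅a, y⁆)⁻¹ := by
      have hc := h.cen _ (Subgroup.inv_mem _ (comm_mem h ha hy)) a⁻¹ (P.inv_mem ha)
      calc ⁅a⁻¹, y⁆ = a⁻¹ * (⁅a, y⁆)⁻¹ * a := by rw [commutatorElement_def, commutatorElement_def]; group
        _ = (⁅a, y⁆)⁻¹ * a⁻¹ * a := by rw [hc]
        _ = _ := by group
    rw [h1]
    exact Subgroup.inv_mem _ (ha' y hy)

variable (v : LC M)

theorem ZL_le : ZL h v ≤ P := fun _ hx => hx.1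

theorem M_le_ZL : M ≤ ZL h v := by
  intro m hm
  refine ⟨M_le h hm, fun y hy => ?_⟩
  have h1 : ⁅m, y⁆ = 1 := commutatorElement_eq_one_iff_mul_comm.2 (h.cen m hm y hy)
  rw [h1]
  exact Subgroup.one_mem _

theorem P_norm : P ≤ Subgroup.normalizer ((ZL h v : Subgroup G) : Set G) := by
  have key : ∀ y ∈ P, ∀ x ∈ ZL h v, y * x * y⁻¹ ∈ ZL h v := by
    intro y hy x hx
    have h1 : y * x * y⁻¹ = ⁅y, x⁆ * x := by rw [commutatorElement_def]; group
    rw [h1]
    exact Subgroup.mul_mem _ (M_le_ZL h v (comm_mem h hy hx.1)) hx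
  intro y hy
  rw [Subgroup.mem_normalizer_iff]
  intro x
  refine ⟨key y hy x, fun hx => ?_⟩
  have := key y⁻¹ (P.inv_mem hy) _ hx
  have e : y⁻¹ * (y * x * y⁻¹) * y⁻¹⁻¹ = x := by group
  rwa [e] at this

theorem conj_KL {k : G} (hk : k • v = v) {g : G} (hg : g ∈ KL v) : k * g * k⁻¹ ∈ KL v := by
  obtain ⟨hgM, hg1⟩ := mem_KL.1 hg
  have hkg : k * g * k⁻¹ ∈ M := hMn.conj_mem g hgM k
  refine mem_KL.2 ⟨hkg, ?_⟩
  have h1 : (k • v).hom ⟨k * g * k⁻¹, hkg⟩ = v.hom ⟨k * g * k⁻¹, hkg⟩ := by rw [hk]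
  rw [LC.smul_hom] at h1
  rw [← h1, ← hg1]
  congr 1
  apply Subtype.ext
  show k⁻¹ * (k * g * k⁻¹) * k = g
  group

theorem stab_norm {k : G} (hk : k • v = v) : k ∈ Subgroup.normalizer ((ZL h v : Subgroup G) : Set G) := by
  have key : ∀ k : G, k • v = v → ∀ x ∈ ZL h v, k * x * k⁻¹ ∈ ZL h v := by
    intro k hk x hx
    refine ⟨hPn.conj_mem x hx.1 k, fun y hy => ?_⟩
    have hy' : k⁻¹ * y * k ∈ P := by
      have := hPn.conj_mem y hy k⁻¹
      rwa [inv_inv] at this
    have h1 := conj_KL h v hk (hx.2 _ hy')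
    have h2 : ⁅k * x * k⁻¹, y⁆ = k * ⁅x, k⁻¹ * y * k⁆ * k⁻¹ := by
      rw [commutatorElement_def, commutatorElement_def]; group
    rw [h2]
    exact h1
  rw [Subgroup.mem_normalizer_iff]
  intro x
  refine ⟨key k hk x, fun hx => ?_⟩
  have := key k⁻¹ (by rw [inv_smul_eq_iff]; exact hk.symm) _ hx
  have e : k⁻¹ * (k * x * k⁻¹) * k⁻¹⁻¹ = x := by group
  rwa [e] at this

/-! ### Uniqueness -/

variable {v} {μ : ↥(ZL h v) →* ℂˣ} (hμ : ∀ m : M, μ ⟨m, M_le_ZL h v m.2⟩ = v.hom m)

include hμ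

theorem P_le_stab : P ≤ stab (lf μ : ↥(ZL h v) → ℂ) := by
  intro y hy
  refine ⟨P_norm h v hy, ?_⟩
  funext z
  rw [tw_apply (P_norm h v hy)]
  have h1 : ⁅y, (z : G)⁆ ∈ M := comm_mem h hy z.2.1
  have h2 : (⟨y * z * y⁻¹, conj_mem_of_mem (P_norm h v hy) z⟩ : ↥(ZL h v)) =
      ⟨⁅y, (z : G)⁆, M_le_ZL h v h1⟩ * z := by
    apply Subtype.ext
    show y * z * y⁻¹ = ⁅y, (z : G)⁆ * z
    rw [commutatorElement_def]; group
  have h3 : ⁅y, (z : G)⁆ ∈ KL v := by
    have := Subgroup.inv_mem _ (z.2.2 y hy)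
    rwa [commutatorElement_inv] at this
  obtain ⟨h4, h5⟩ := mem_KL.1 h3
  show ((μ _ : ℂˣ) : ℂ) = (μ z : ℂ)
  rw [h2, map_mul, hμ ⟨_, h1⟩, h5, one_mul]

theorem on_Z {θ : P → ℂ} (hθ : IsIrrCharacter P θ) (ho : Over (Subgroup.inclusion (ZL_le h v)) θ (lf μ)) :
    ∀ z : ↥(ZL h v), θ (Subgroup.inclusion (ZL_le h v) z) = θ 1 * (μ z : ℂ) := by
  obtain ⟨c, -, hc⟩ := res_of_inv (ZL_le h v) (isIrr_lf μ) (P_le_stab h hμ) hθ ho
  have h1 := hc 1
  rw [map_one, lf_apply, map_one, Units.val_one, mul_one] at h1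
  intro z
  rw [hc, h1, lf_apply]

theorem zero_off {θ : P → ℂ} (hθ : IsIrrCharacter P θ) (ho : Over (Subgroup.inclusion (ZL_le h v)) θ (lf μ))
    {x : P} (hx : (x : G) ∉ ZL h v) : θ x = 0 := by
  obtain ⟨y, hy, hy'⟩ : ∃ y ∈ P, ⁅(x : G), y⁆ ∉ KL v := by
    by_contra hcon
    push Not at hcon
    exact hx ⟨x.2, hcon⟩
  have hm : ⁅y, (x : G)⁆ ∈ M := comm_mem h hy x.2
  have hne : v.hom ⟨⁅y, (x : G)⁆, hm⟩ ≠ 1 := by
    intro h1
    apply hy'
    have h2 : ⁅y, (x : G)⁆ ∈ KL v := mem_KL.2 ⟨hm, h1⟩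
    have := Subgroup.inv_mem _ h2
    rwa [commutatorElement_inv] at this
  -- the central element
  obtain ⟨ω, -, hω⟩ := CharactersDeep.SmallDegree.exists_central_mul hθ (z := (⟨⁅y, (x : G)⁆, M_le h hm⟩ : P))
    (fun g => Subtype.ext (h.cen _ hm g g.2).symm)
  have h1 : ω = (v.hom ⟨⁅y, (x : G)⁆, hm⟩ : ℂ) := by
    have h2 := hω 1
    rw [one_mul] at h2
    have h3 := on_Z h hμ hθ ho ⟨⁅y, (x : G)⁆, M_le_ZL h v hm⟩
    have h4 : Subgroup.inclusion (ZL_le h v) ⟨⁅y, (x : G)⁆, M_le_ZL h v hm⟩ = (⟨⁅y, (x : G)⁆, M_le h hm⟩ : P) := rfl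
    rw [h4, h2, hμ ⟨_, hm⟩, mul_comm] at h3
    exact mul_left_cancel₀ (isIrr_apply_one_ne_zero hθ) h3
  have h2 := hω x
  have h3 : θ (x * ⟨⁅y, (x : G)⁆, M_le h hm⟩) = θ x := by
    have h4 : x * ⟨⁅y, (x : G)⁆, M_le h hm⟩ = (⟨y, hy⟩ : P) * x * (⟨y, hy⟩ : P)⁻¹ := by
      apply Subtype.ext
      show (x : G) * ⁅y, (x : G)⁆ = y * x * y⁻¹
      rw [← h.cen _ hm x x.2, commutatorElement_def]
      group
    rw [h4]
    exact isIrr_isClassFunction hθ _ _
  rw [h3, h1] at h2
  have h4 : ((v.hom ⟨⁅y, (x : G)⁆, hm⟩ : ℂ) - 1) * θ x = 0 := by rw [sub_mul, one_mul, ← h2, sub_self]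
  rcases mul_eq_zero.1 h4 with h5 | h5
  · exact absurd (Units.ext (sub_eq_zero.1 h5)) hne
  · exact h5

/-- **Uniqueness.** -/
theorem uniq {θ θ' : P → ℂ} (hθ : IsIrrCharacter P θ) (ho : Over (Subgroup.inclusion (ZL_le h v)) θ (lf μ))
    (hθ' : IsIrrCharacter P θ') (ho' : Over (Subgroup.inclusion (ZL_le h v)) θ' (lf μ)) : θ = θ' := by
  classical
  letI := Fintype.ofFinite P
  have h1 : θ = (θ 1 / θ' 1) • θ' := by
    funext x
    rw [Pi.smul_apply, smul_eq_mul]
    by_cases hx : (x : G) ∈ ZL h v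
    · have e1 := on_Z h hμ hθ ho ⟨x, hx⟩
      have e2 := on_Z h hμ hθ' ho' ⟨x, hx⟩
      have e3 : Subgroup.inclusion (ZL_le h v) ⟨(x : G), hx⟩ = x := rfl
      rw [e3] at e1 e2
      rw [e1, e2, div_mul_eq_mul_div, mul_left_comm, mul_div_assoc, mul_comm]
      have := isIrr_apply_one_ne_zero hθ'
      field_simp
    · rw [zero_off h hμ hθ ho hx, zero_off h hμ hθ' ho' hx, mul_zero]
  by_contra hne
  have h2 := classInner_irr_ne hθ hθ' hne
  rw [h1, classInner_smul_left, classInner_irr_self hθ', mul_one] at h2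
  exact (div_ne_zero (isIrr_apply_one_ne_zero hθ) (isIrr_apply_one_ne_zero hθ')) h2

end pre

end Cfsg.Agent.H55.T2a
end

-- part: H55/Palfy/Main
section
/-!
# `FactT2a` (helper55)

* `exists_l0` : an extension of `λ` to `Z`;
* `exists_mu` : an invariant extension;
* `exists_theta` : `θ ∈ Irr P` with the stabilizer of `λ` in `H`, `p ∣ θ(1)` if `λ ≠ 1`;
* `factT2a`.
-/

set_option autoImplicit false
set_option linter.unusedSectionVars false
set_option linter.style.haveILetI false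

namespace Cfsg.Agent.H55.T2a

open Cfsg Cfsg.Agent.H670.Palfy Subgroup
open Cfsg.Agent.H672 Cfsg.Agent.H672.RM Cfsg.Agent.H675.Nd Cfsg.Agent.Characters.Core
open scoped commutatorElement

universe u

variable {G : Type u} [Group G] [Finite G] {M P H : Subgroup G} [hMn : M.Normal] [hPn : P.Normal] {p : ℕ}

section pre

variable (h : T2pre G M P H p)

include h

/-- an extension to `Z` -/
theorem exists_l0 (v : LC M) : ∃ l : ↥(ZL h v) →* ℂˣ, ∀ m : M, l ⟨m, M_le_ZL h v m.2⟩ = v.hom m := by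
  obtain ⟨μ, hμ, ho⟩ := exists_over_incl (M_le_ZL h v) (isIrr_lf v.hom)
  have hst : ZL h v ≤ stab (lf v.hom : M → ℂ) := by
    intro z hz
    have hn : z ∈ Subgroup.normalizer (M : Set G) := by
      rw [Subgroup.normalizer_eq_top]; exact Subgroup.mem_top z
    refine ⟨hn, ?_⟩
    funext m
    refine tw_apply' hn _ m m ?_
    rw [← h.cen m m.2 z hz.1, mul_inv_cancel_right]
  obtain ⟨c, hc0, hc⟩ := res_of_inv (M_le_ZL h v) (isIrr_lf v.hom) hst hμ ho
  have hc1 : μ 1 = c := by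
    have := hc 1
    rwa [map_one, lf_apply, map_one, Units.val_one, mul_one] at this
  have hlin : charDegree μ = 1 := by
    refine H597.RelThompson.charDegree_eq_one hμ fun k hk => ?_
    have hle : commutator ↥(ZL h v) ≤ (KL v).subgroupOf (ZL h v) := by
      rw [_root_.commutator_def, Subgroup.commutator_le]
      intro a _ b _
      rw [Subgroup.mem_subgroupOf]
      exact a.2.2 b b.2.1
    obtain ⟨h1, h2⟩ := mem_KL.1 (Subgroup.mem_subgroupOf.1 (hle hk))
    have h3 := hc ⟨k, h1⟩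
    have h4 : Subgroup.inclusion (M_le_ZL h v) ⟨(k : G), h1⟩ = k := rfl
    rw [h4, lf_apply, h2, Units.val_one, mul_one] at h3
    rw [h3, hc1]
  obtain ⟨l, rfl⟩ := exists_hom_of_degree_one hμ hlin
  refine ⟨l, fun m => Units.ext ?_⟩
  have h1 : c = 1 := by rw [← hc1, lf_apply, map_one, Units.val_one]
  have h2 := hc m
  rw [h1, one_mul, lf_apply, lf_apply] at h2
  exact h2

/-- an invariant extension to `Z` -/
theorem exists_mu (v : LC M) : ∃ μ : ↥(ZL h v) →* ℂˣ, (∀ m : M, μ ⟨m, M_le_ZL h v m.2⟩ = v.hom m) ∧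
    ∀ (k : H) (hk : (k : G) • v = v) (z : ↥(ZL h v)), μ (cj (stab_norm h v hk) z) = μ z := by
  classical
  obtain ⟨l, hl⟩ := exists_l0 h v
  let S := MulAction.stabilizer H v
  have hS : ∀ k : S, ((k : H) : G) • v = v := fun k => k.2
  letI := Fintype.ofFinite S
  let f : S → (↥(ZL h v) →* ℂˣ) := fun k => l.comp (cj (stab_norm h v (hS k))).toMonoidHom
  have hf : ∀ (k : S) (z : ↥(ZL h v)), f k z = l (cj (stab_norm h v (hS k)) z) := fun _ _ => rfl
  have hfM : ∀ (k : S) (m : M), f k ⟨m, M_le_ZL h v m.2⟩ = v.hom m := by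
    intro k m
    rw [hf]
    have h1 : (((k : H) : G) • v).hom ⟨(k : H) * m * ((k : H) : G)⁻¹, hMn.conj_mem m m.2 _⟩ =
        v.hom ⟨(k : H) * m * ((k : H) : G)⁻¹, hMn.conj_mem m m.2 _⟩ := by rw [hS k]
    rw [LC.smul_hom] at h1
    have h2 : cj (stab_norm h v (hS k)) ⟨m, M_le_ZL h v m.2⟩ =
        ⟨((⟨(k : H) * m * ((k : H) : G)⁻¹, hMn.conj_mem m m.2 _⟩ : M) : G),
          M_le_ZL h v (hMn.conj_mem m m.2 _)⟩ := rfl
    rw [h2, hl, ← h1]
    congr 1
    apply Subtype.ext
    show ((k : H) : G)⁻¹ * ((k : H) * m * ((k : H) : G)⁻¹) * (k : H) = m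
    group
  let a : ℤ := Nat.gcdA (Nat.card S) (Nat.card M)
  have hcop : Nat.gcd (Nat.card S) (Nat.card M) = 1 := by
    have h1 : Nat.card S ∣ Nat.card H := Subgroup.card_subgroup_dvd_card _
    have h2 : Nat.card M ∣ Nat.card P := Subgroup.card_dvd_of_le (M_le h)
    exact ((coprime h).symm.coprime_dvd_left h1).coprime_dvd_right h2
  refine ⟨(∏ k : S, f k) ^ a, fun m => ?_, fun k hk z => ?_⟩
  · have h1 : (∏ k : S, f k) ⟨m, M_le_ZL h v m.2⟩ = v.hom m ^ Nat.card S := by
      rw [MonoidHom.finsetProd_apply, Finset.prod_congr rfl (fun k _ => hfM k m), Finset.prod_const,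
        Finset.card_univ, Nat.card_eq_fintype_card]
    have h2 : v.hom m ^ Nat.card M = 1 := by rw [← map_pow, pow_card_eq_one', map_one]
    have h3 : ((∏ k : S, f k) ^ a) ⟨m, M_le_ZL h v m.2⟩ = ((∏ k : S, f k) ⟨m, M_le_ZL h v m.2⟩) ^ a := rfl
    rw [h3, h1, ← zpow_natCast, ← zpow_mul]
    have h4 := Nat.gcd_eq_gcd_ab (Nat.card S) (Nat.card M)
    rw [hcop, Nat.cast_one] at h4
    have h5 : (Nat.card S : ℤ) * a = 1 - Nat.card M * Nat.gcdB (Nat.card S) (Nat.card M) := by
      show (Nat.card S : ℤ) * Nat.gcdA (Nat.card S) (Nat.card M) = _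
      linarith [h4]
    rw [h5, zpow_sub, zpow_one, zpow_mul, zpow_natCast, h2, one_zpow, inv_one, mul_one]
  · have h3 : ∀ z : ↥(ZL h v), ((∏ k : S, f k) ^ a) z = ((∏ k : S, f k) z) ^ a := fun _ => rfl
    rw [h3, h3]
    congr 1
    rw [MonoidHom.finsetProd_apply, MonoidHom.finsetProd_apply]
    refine Fintype.prod_equiv (Equiv.mulRight (⟨k, hk⟩ : S)) _ _ fun x => ?_
    rw [hf, hf]
    congr 1
    apply Subtype.ext
    show ((x : H) : G) * (k * z * (k : G)⁻¹) * ((x : H) : G)⁻¹ = (x : H) * k * z * ((x : H) * k : G)⁻¹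
    group

/-- **The character `θ`.** -/
theorem exists_theta (v : LC M) (hv : v ≠ 0) : ∃ θ : P → ℂ, IsIrrCharacter P θ ∧
    (∀ k : H, k ∈ MulAction.stabilizer H v ↔ (k : G) ∈ stab θ) ∧ p ∣ charDegree θ := by
  classical
  have hf : Fact p.Prime := ⟨h.prime⟩
  obtain ⟨μ, hμ, hinv⟩ := exists_mu h v
  obtain ⟨θ, hθ, ho⟩ := exists_over_incl (ZL_le h v) (isIrr_lf μ)
  have hnP : ∀ g : G, g ∈ Subgroup.normalizer (P : Set G) := fun g => by
    rw [Subgroup.normalizer_eq_top]; exact Subgroup.mem_top g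
  have hnM : ∀ g : G, g ∈ Subgroup.normalizer (M : Set G) := fun g => by
    rw [Subgroup.normalizer_eq_top]; exact Subgroup.mem_top g
  have hθM : ∀ m : M, θ (Subgroup.inclusion (M_le h) m) = θ 1 * (v.hom m : ℂ) := by
    intro m
    have h1 := on_Z h hμ hθ ho ⟨m, M_le_ZL h v m.2⟩
    rw [hμ m] at h1
    exact h1
  have hθ1 := isIrr_apply_one_ne_zero hθ
  refine ⟨θ, hθ, fun k => ⟨fun hk => ?_, fun hk => ?_⟩, ?_⟩
  · have hk' : (k : G) • v = v := hk
    refine ⟨hnP _, ?_⟩
    refine uniq h hμ (isIrr_tw (hnP _) hθ) ?_ hθ ho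
    have h1 : tw (ZL h v) (k : G) (lf μ) = lf μ := by
      rw [tw_eq_comp (stab_norm h v hk')]
      funext z
      exact congrArg Units.val (hinv k hk' z)
    rw [← h1]
    exact (over_tw_tw (ZL_le h v) (stab_norm h v hk') (hnP _) θ (lf μ)).2 ho
  · show (k : G) • v = v
    rw [smul_eq_iff]
    refine ⟨hnM _, ?_⟩
    funext m
    rw [tw_apply (hnM _)]
    have h1 := congrFun hk.2 (Subgroup.inclusion (M_le h) m)
    rw [tw_apply (hnP _), hθM] at h1
    have h2 := hθM ⟨(k : G) * m * (k : G)⁻¹, hMn.conj_mem m m.2 _⟩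
    have h3 := h2.symm.trans h1
    exact mul_left_cancel₀ hθ1 h3
  · rcases H670.PSing.charDegree_pgroup h.isP hθ with h1 | h1
    · exfalso
      refine nonlin_of_over (M_le h) (le_of_eq h.comm.symm) hθ (isIrr_lf v.hom) ?_ ?_ h1
      · intro h2
        apply hv
        apply LC.ext
        intro m
        exact Units.ext (congrFun h2 m)
      · letI := Fintype.ofFinite M
        rw [over_iff]
        have h2 : θ ∘ Subgroup.inclusion (M_le h) = θ 1 • (lf v.hom : M → ℂ) := by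
          funext m
          exact hθM m
        rw [h2, classInner_smul_left, classInner_irr_self (isIrr_lf v.hom), mul_one]
        exact hθ1
    · exact h1

/-- **`cfgV`** -/
theorem cfgV : Cfg (charDegrees G) H (LC M) p := by
  intro v hv d hd
  obtain ⟨θ, hθ, hS, hp⟩ := exists_theta h v hv
  exact ⟨_, core h.compl (coprime h) hθ (MulAction.stabilizer H v) hS hd, dvd_mul_right _ _,
    hp.mul_left _⟩

end pre

/-- **The fields of `T2` on degrees.** -/
theorem factT2a : Cfsg.Agent.H670.Palfy.FactT2a.{u} := by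
  intro G _ _ _ M P H hMn hPn p h
  refine ⟨irr h, card h, cardW h, cd h, cfgV h, cfgW h, fun k hk v => ker h (k := (k : G)) hk v, ?_⟩
  intro z hz hzp hr Z hZ hab ht
  exact nt h hz hzp hr Z hZ hab ht

end Cfsg.Agent.H55.T2a
end

private theorem dce_a9979c39f3b8 : _root_.True := by
  try have : _root_.True := by simp only [_root_.IsPGroup.toSylow.congr_simp]
  exact _root_.True.intro
end

-- part: H161/PalFb_mg
section
prune_inst 0x4280020000000000800000702200000000000000008000000488004200000800a000000000008004003c002811100000000000002000820041180080840044020200210c040009808000000c00000000000000000000000000000000000000000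
set_option linter.all false
open scoped Cfsg.Agent.FastGrp

-- part: H161/PalFb
section
/-!
# A normal Sylow subgroup `Z` of `H` trivial on `M` (helper161)

`factT2b` : the fields `ker_com`, `card_com`, `pow_com`, `ker_or` of `Cfsg.Agent.H670.Palfy.T2`.
-/

set_option autoImplicit false
set_option linter.unusedSectionVars false
set_option linter.style.haveILetI false

namespace Cfsg.Agent.H161.PalFb

open Cfsg Cfsg.Agent.H670.Palfy Cfsg.Agent.H675.Nd Cfsg.Agent.H672.RM Cfsg.Agent.H672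
open Cfsg.Agent.Characters.Core Cfsg.Agent.Characters.Clifford
open scoped commutatorElement

universe u

variable {G : Type u} [Group G] [Finite G] {M P H : Subgroup G} [hMn : M.Normal] [hPn : P.Normal] {p : ℕ}

section sep

theorem le_of (h : T2pre G M P H p) : M ≤ P := by
  rw [← h.comm]
  exact Subgroup.commutator_le_left P P

/-- linear characters separate the elements of `P / M` -/
theorem sepP (h : T2pre G M P H p) {x : G} (hx : x ∈ P) (hl : ∀ l : LC P, l.hom ⟨x, hx⟩ = 1) : x ∈ M := by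
  by_contra hcon
  obtain ⟨β, -, hβ⟩ := exists_lin_ne (K := M) (T := P) (le_of h) h.comm.le (x := ⟨x, hx⟩) hcon
  exact hβ (hl (LC.of β))

/-- linear characters separate the elements of `M` -/
theorem sepM (h : T2pre G M P H p) {x : G} (hx : x ∈ M) (hl : ∀ l : LC M, l.hom ⟨x, hx⟩ = 1) : x = 1 := by
  by_contra hcon
  have hab : ⁅M, M⁆ ≤ (⊥ : Subgroup G) := by
    rw [Subgroup.commutator_le]
    intro a ha b hb
    rw [Subgroup.mem_bot, commutatorElement_eq_one_iff_mul_comm]
    exact h.cen a ha b (le_of h hb)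
  obtain ⟨β, -, hβ⟩ := exists_lin_ne (K := (⊥ : Subgroup G)) (T := M) bot_le hab (x := ⟨x, hx⟩)
    (fun hb => hcon (Subgroup.mem_bot.1 hb))
  exact hβ (hl (LC.of β))

theorem smul_hom' {N : Subgroup G} [hN : N.Normal] (g : G) (l : LC N) (n : G) (hn : n ∈ N) :
    (g⁻¹ • l).hom ⟨n, hn⟩ = l.hom ⟨g * n * g⁻¹, hN.conj_mem n hn g⟩ := by
  rw [LC.smul_hom]
  congr 1
  apply Subtype.ext
  simp

/-- an element of `H` acts trivially on the characters of `M` if and only if it centralizes `M` -/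
theorem fix_iff (h : T2pre G M P H p) (t : H) :
    (∀ v : LC M, t • v = v) ↔ ∀ m ∈ M, (t : G) * m * (t : G)⁻¹ = m := by
  constructor
  · intro ht m hm
    have ht' : ∀ v : LC M, (t : G)⁻¹ • v = v := by
      intro v
      have h1 : (t : G) • v = v := ht v
      rw [inv_smul_eq_iff, h1]
    have h1 : (t : G) * m * (t : G)⁻¹ ∈ M := hMn.conj_mem m hm t
    have h2 := sepM h (M.mul_mem h1 (M.inv_mem hm)) (fun l => by
      have h3 := smul_hom' (t : G) l m hm
      rw [ht'] at h3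
      have h4 : l.hom ⟨(t : G) * m * (t : G)⁻¹ * m⁻¹, M.mul_mem h1 (M.inv_mem hm)⟩ =
          l.hom ⟨(t : G) * m * (t : G)⁻¹, h1⟩ * (l.hom ⟨m, hm⟩)⁻¹ := by
        rw [← map_inv, ← map_mul]
        rfl
      rw [h4, ← h3, mul_inv_cancel])
    exact mul_inv_eq_one.1 h2
  · intro ht v
    have h1 : (t : G)⁻¹ • v = v := by
      apply LC.ext
      intro n
      have h2 := smul_hom' (t : G) v n n.2
      change ((t : G)⁻¹ • v).hom ⟨n, n.2⟩ = _
      rw [h2]
      congr 1
      exact Subtype.ext (ht n n.2)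
    change (t : G) • v = v
    rw [← inv_smul_eq_iff.1 h1]

end sep

section coprime

variable {z : ℕ}

/-- `Z` as a subgroup of `G` -/
def zG (Z : Sylow z H) : Subgroup G := (Z : Subgroup H).map H.subtype

theorem mem_zG {Z : Sylow z H} {y : G} : y ∈ zG Z ↔ ∃ a ∈ (Z : Subgroup H), (a : G) = y := Iff.rfl

/-- `C_P(Z)` -/
def cG (P : Subgroup G) (Z : Sylow z H) : Subgroup G := P ⊓ Subgroup.centralizer (zG Z : Set G)

/-- `[P, Z]` -/
def eG (P : Subgroup G) (Z : Sylow z H) : Subgroup G := ⁅P, zG Z⁆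

theorem mem_cG {Z : Sylow z H} {x : G} : x ∈ cG P Z ↔ x ∈ P ∧ ∀ a ∈ (Z : Subgroup H), (a : G) * x = x * a := by
  constructor
  · rintro ⟨h1, h2⟩
    exact ⟨h1, fun a ha => Subgroup.mem_centralizer_iff.1 h2 a ⟨a, ha, rfl⟩⟩
  · rintro ⟨h1, h2⟩
    refine ⟨h1, Subgroup.mem_centralizer_iff.2 ?_⟩
    rintro _ ⟨a, ha, rfl⟩
    exact h2 a ha

theorem eG_le (Z : Sylow z H) : eG P Z ≤ P := Subgroup.commutator_le_left _ _

theorem exists_mul (h : T2pre G M P H p) (g : G) : ∃ t ∈ H, ∃ x ∈ P, t * x = g := by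
  have h1 : g ∈ H ⊔ P := by
    rw [sup_comm, h.compl.sup_eq_top]
    trivial
  exact Subgroup.mem_sup_of_normal_right.1 h1

theorem conj_zG {Z : Sylow z H} (hZn : (Z : Subgroup H).Normal) {t : G} (ht : t ∈ H) {y : G} (hy : y ∈ zG Z) :
    t * y * t⁻¹ ∈ zG Z := by
  obtain ⟨a, ha, rfl⟩ := mem_zG.1 hy
  exact mem_zG.2 ⟨(⟨t, ht⟩ * a * ⟨t, ht⟩⁻¹ :), hZn.conj_mem a ha _, rfl⟩

theorem normal_eG (h : T2pre G M P H p) {Z : Sylow z H} (hZn : (Z : Subgroup H).Normal) : (eG P Z).Normal := by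
  have key : ∀ g : G, (∀ y ∈ P, ∀ w ∈ zG Z, g * ⁅y, w⁆ * g⁻¹ ∈ eG P Z) → ∀ n ∈ eG P Z, g * n * g⁻¹ ∈ eG P Z := by
    intro g hg n hn
    have h1 : eG P Z ≤ (eG P Z).comap (MulAut.conj g).toMonoidHom := by
      change ⁅P, zG Z⁆ ≤ _
      rw [Subgroup.commutator_le]
      intro y hy w hw
      exact hg y hy w hw
    exact h1 hn
  have hP' : ∀ x ∈ P, ∀ n ∈ eG P Z, x * n * x⁻¹ ∈ eG P Z := by
    intro x hx
    apply key
    intro y hy w hw
    have h1 : x * ⁅y, w⁆ * x⁻¹ = ⁅x * y, w⁆ * ⁅x, w⁆⁻¹ := by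
      simp only [commutatorElement_def]
      group
    rw [h1]
    exact (eG P Z).mul_mem (Subgroup.commutator_mem_commutator (P.mul_mem hx hy) hw)
      ((eG P Z).inv_mem (Subgroup.commutator_mem_commutator hx hw))
  have hH' : ∀ t ∈ H, ∀ n ∈ eG P Z, t * n * t⁻¹ ∈ eG P Z := by
    intro t ht
    apply key
    intro y hy w hw
    have h1 : t * ⁅y, w⁆ * t⁻¹ = ⁅t * y * t⁻¹, t * w * t⁻¹⁆ := by
      simp only [commutatorElement_def]
      group
    rw [h1]
    exact Subgroup.commutator_mem_commutator (hPn.conj_mem y hy t) (conj_zG hZn ht hw)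
  constructor
  intro n hn g
  obtain ⟨t, ht, x, hx, rfl⟩ := exists_mul h g
  have h1 := hH' t ht _ (hP' x hx n hn)
  have e : t * (x * n * x⁻¹) * t⁻¹ = t * x * n * (t * x)⁻¹ := by group
  rwa [e] at h1

theorem cop (h : T2pre G M P H p) (hz : z.Prime) (hzp : z ≠ p) (Z : Sylow z H) :
    (Nat.card (zG Z)).Coprime (Nat.card P) := by
  have hp := h.prime
  haveI : Fact z.Prime := ⟨hz⟩
  haveI : Fact p.Prime := ⟨hp⟩
  have h1 : IsPGroup z (zG Z) := Z.isPGroup'.map _
  obtain ⟨a, ha⟩ := IsPGroup.iff_card.1 h1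
  obtain ⟨b, hb⟩ := IsPGroup.iff_card.1 h.isP
  rw [ha, hb]
  exact Nat.Coprime.pow _ _ ((Nat.coprime_primes hz hp).2 hzp)

theorem zG_le (Z : Sylow z H) : zG Z ≤ Subgroup.normalizer (P : Set G) := by
  rw [Subgroup.normalizer_eq_top]
  exact le_top

theorem solv_zG (hG : Group.IsSolvable G) (Z : Sylow z H) : Group.IsSolvable (zG Z) := by
  infer_instance

variable (h : T2pre G M P H p) (hz : z.Prime) (hzp : z ≠ p) {Z : Sylow z H} (hZn : (Z : Subgroup H).Normal)
  (hVM : Triv (LC M) (Z : Subgroup H))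

include h hVM in
theorem le_cG : M ≤ cG P Z := by
  intro m hm
  refine mem_cG.2 ⟨le_of h hm, fun a ha => ?_⟩
  have h1 := (fix_iff h a).1 (fun v => hVM a ha v) m hm
  exact mul_inv_eq_iff_eq_mul.1 h1

include h hz hzp hVM in
theorem mem_cG_of {x : G} (hx : x ∈ P) (hfix : ∀ a ∈ (Z : Subgroup H), (a : G) * x * (a : G)⁻¹ * x⁻¹ ∈ M)
    (hG : Group.IsSolvable G) : x ∈ cG P Z := by
  obtain ⟨c, hc, hc'⟩ := Cfsg.Agent.S0022.result (zG Z) P (zG_le Z) (cop h hz hzp Z) (Or.inl (solv_zG hG Z)) M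
    (le_of h) (by rw [Subgroup.normalizer_eq_top]; exact le_top) (by rw [Subgroup.normalizer_eq_top]; exact le_top)
    x hx (by
      rintro _ ⟨a, ha, rfl⟩
      exact hfix a ha)
  have h1 : x⁻¹ * c ∈ cG P Z := le_cG h hVM hc'
  have h2 : x = c * (x⁻¹ * c)⁻¹ := by group
  rw [h2]
  exact (cG P Z).mul_mem hc ((cG P Z).inv_mem h1)

include h hz hzp hVM in
theorem mem_cG_of_com {x : G} (hx : x ∈ P) (hG : Group.IsSolvable G)
    (hw : ∀ w ∈ com (LC P) (Z : Subgroup H), w.hom ⟨x, hx⟩ = 1) : x ∈ cG P Z := by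
  apply mem_cG_of h hz hzp hVM hx _ hG
  intro a ha
  have h1 : (a : G) * x * (a : G)⁻¹ ∈ P := hPn.conj_mem x hx a
  apply sepP h (P.mul_mem h1 (P.inv_mem hx))
  intro l
  have h2 := hw _ (AddSubgroup.subset_closure ⟨a⁻¹, (Z : Subgroup H).inv_mem ha, l, rfl⟩)
  have h3 : ((a⁻¹ : H) • l - l).hom ⟨x, hx⟩ = ((a : G)⁻¹ • l).hom ⟨x, hx⟩ * (l.hom ⟨x, hx⟩)⁻¹ := by
    rw [sub_eq_add_neg, LC.hom_add, LC.hom_neg]
    rfl
  rw [h3, smul_hom'] at h2
  rw [← h2, ← map_inv, ← map_mul]
  rfl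

include h hz hzp in
theorem sup_eq (hG : Group.IsSolvable G) (Z : Sylow z H) : eG P Z ⊔ cG P Z = P :=
  Cfsg.Agent.S0026.result (zG Z) P (zG_le Z) (cop h hz hzp Z) (Or.inl (solv_zG hG Z))

include h hVM in
theorem comm_ec : ⁅eG P Z, cG P Z⁆ = ⊥ := by
  apply Subgroup.commutator_commutator_eq_bot_of_rotate
  · -- `⁅⁅Z, C⁆, P⁆ = 1`
    have h1 : ⁅zG Z, cG P Z⁆ = ⊥ := by
      rw [Subgroup.commutator_eq_bot_iff_le_centralizer]
      intro y hy
      rw [Subgroup.mem_centralizer_iff]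
      rintro c ⟨-, hc⟩
      exact (Subgroup.mem_centralizer_iff.1 hc y hy).symm
    rw [h1, Subgroup.commutator_bot_left]
  · -- `⁅⁅C, P⁆, Z⁆ = 1`
    have h1 : ⁅cG P Z, P⁆ ≤ M := by
      rw [← h.comm]
      exact Subgroup.commutator_mono inf_le_left le_rfl
    rw [Subgroup.commutator_eq_bot_iff_le_centralizer]
    intro y hy
    exact (le_cG h hVM (h1 hy)).2

include h hVM in
theorem comm_of {e c : G} (he : e ∈ eG P Z) (hc : c ∈ cG P Z) : e * c = c * e := by
  have h1 : ⁅e, c⁆ ∈ ⁅eG P Z, cG P Z⁆ := Subgroup.commutator_mem_commutator he hc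
  rw [comm_ec h hVM, Subgroup.mem_bot] at h1
  exact commutatorElement_eq_one_iff_mul_comm.1 h1

include h hz hzp hZn in
theorem exists_ec (hG : Group.IsSolvable G) {x : G} (hx : x ∈ P) : ∃ e ∈ eG P Z, ∃ c ∈ cG P Z, e * c = x := by
  haveI := normal_eG h hZn
  rw [← sup_eq h hz hzp hG Z] at hx
  exact Subgroup.mem_sup_of_normal_left.1 hx

/-- `com` is invariant -/
theorem smul_mem_com (hZn : (Z : Subgroup H).Normal) (t : H) {w : LC P} (hw : w ∈ com (LC P) (Z : Subgroup H)) :
    t • w ∈ com (LC P) (Z : Subgroup H) := by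
  have h1 : com (LC P) (Z : Subgroup H) ≤
      (com (LC P) (Z : Subgroup H)).comap (DistribSMul.toAddMonoidHom (LC P) t) := by
    unfold com
    rw [AddSubgroup.closure_le]
    rintro _ ⟨a, ha, v, rfl⟩
    apply AddSubgroup.subset_closure
    refine ⟨t * a * t⁻¹, hZn.conj_mem a ha t, t • v, ?_⟩
    change t • (a • v - v) = _
    rw [smul_sub, ← mul_smul, ← mul_smul, inv_mul_cancel_right]
  exact h1 hw

theorem hom_com_eq_one {w : LC P} (hw : w ∈ com (LC P) (Z : Subgroup H)) {c : G} (hc : c ∈ cG P Z) :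
    w.hom ⟨c, hc.1⟩ = 1 := by
  refine AddSubgroup.closure_induction (p := fun w _ => w.hom ⟨c, hc.1⟩ = 1) ?_ ?_ ?_ ?_ hw
  · rintro _ ⟨a, ha, v, rfl⟩
    rw [sub_eq_add_neg, LC.hom_add, LC.hom_neg]
    have h1 : (a • v).hom ⟨c, hc.1⟩ = v.hom ⟨c, hc.1⟩ := by
      change ((a : G) • v).hom _ = _
      rw [LC.smul_hom]
      congr 1
      apply Subtype.ext
      have h3 := (mem_cG.1 hc).2 a ha
      change (a : G)⁻¹ * c * (a : G) = c
      rw [mul_assoc, ← h3, inv_mul_cancel_left]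
    rw [h1, mul_inv_cancel]
  · rfl
  · intro x y _ _ hx hy
    rw [LC.hom_add, hx, hy, one_mul]
  · intro x _ hx
    rw [LC.hom_neg, hx, inv_one]

include h in
theorem card_smul (w : LC P) : Nat.card P • w = 0 := by
  apply LC.ext
  intro x
  have h1 : ∀ k : ℕ, (k • w).hom x = (w.hom x) ^ k := by
    intro k
    induction k with
    | zero => rw [zero_smul, pow_zero]; rfl
    | succ k ih => rw [succ_nsmul, LC.hom_add, ih, pow_succ]
  rw [h1, ← map_pow, pow_card_eq_one', map_one]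
  rfl

/-- a character trivial on `E` and `C` -/
theorem eq_zero_of {w : LC P} (hS : eG P Z ⊔ cG P Z = P)
    (h1 : ∀ (x : G) (hx : x ∈ P), x ∈ eG P Z → w.hom ⟨x, hx⟩ = 1)
    (h2 : ∀ (x : G) (hx : x ∈ P), x ∈ cG P Z → w.hom ⟨x, hx⟩ = 1) : w = 0 := by
  have h3 : P ≤ w.hom.ker.map P.subtype := by
    nth_rewrite 1 [← hS]
    apply sup_le
    · intro x hx
      exact ⟨⟨x, eG_le Z hx⟩, h1 x _ hx, rfl⟩
    · intro x hx
      exact ⟨⟨x, hx.1⟩, h2 x _ hx, rfl⟩
  apply LC.ext
  intro x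
  obtain ⟨y, hy, hyx⟩ := h3 x.2
  have : y = x := Subtype.ext hyx
  rw [← this]
  exact hy

include h hz hzp in
theorem mem_com_of (hG : Group.IsSolvable G) {w : LC P}
    (hw : ∀ (c : G) (hc : c ∈ cG P Z), w.hom ⟨c, hc.1⟩ = 1) : w ∈ com (LC P) (Z : Subgroup H) := by
  classical
  letI := Fintype.ofFinite (Z : Subgroup H)
  let s : LC P := ∑ a : (Z : Subgroup H), (a : H) • w
  have hs : ∀ b ∈ (Z : Subgroup H), b • s = s := by
    intro b hb
    change b • (∑ a : (Z : Subgroup H), (a : H) • w) = ∑ a : (Z : Subgroup H), (a : H) • w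
    rw [Finset.smul_sum]
    refine Fintype.sum_equiv (Equiv.mulLeft (⟨b, hb⟩ : (Z : Subgroup H))) _ _ (fun a => ?_)
    rw [← mul_smul]
    rfl
  have hu : Nat.card (Z : Subgroup H) • w - s ∈ com (LC P) (Z : Subgroup H) := by
    have h1 : Nat.card (Z : Subgroup H) • w - s = ∑ a : (Z : Subgroup H), -((a : H) • w - w) := by
      rw [Finset.sum_neg_distrib, Finset.sum_sub_distrib, Finset.sum_const, Finset.card_univ,
        Nat.card_eq_fintype_card, neg_sub]
    rw [h1]
    refine AddSubgroup.sum_mem _ (fun a _ => AddSubgroup.neg_mem _ ?_)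
    exact AddSubgroup.subset_closure ⟨a, a.2, w, rfl⟩
  have hcop : (Nat.card (Z : Subgroup H)).Coprime (Nat.card P) := by
    have h1 := cop h hz hzp Z
    have h2 : Nat.card (zG Z) = Nat.card (Z : Subgroup H) :=
      (Subgroup.card_map_of_injective H.subtype_injective)
    rwa [h2] at h1
  obtain ⟨a, b, hab⟩ : ∃ a b : ℤ, a * Nat.card (Z : Subgroup H) + b * Nat.card P = 1 := by
    have := Nat.isCoprime_iff_coprime.2 hcop
    exact this
  have hw1 : w = a • (Nat.card (Z : Subgroup H) • w - s) + a • s := by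
    have h1 : (a * Nat.card (Z : Subgroup H) + b * Nat.card P) • w = w := by rw [hab, one_smul]
    rw [add_smul, mul_smul, mul_smul, natCast_zsmul, natCast_zsmul, card_smul h, smul_zero, add_zero] at h1
    rw [smul_sub, sub_add_cancel, h1]
  have hcom : a • (Nat.card (Z : Subgroup H) • w - s) ∈ com (LC P) (Z : Subgroup H) :=
    AddSubgroup.zsmul_mem _ hu a
  have h0 : a • s = 0 := by
    apply eq_zero_of (sup_eq h hz hzp hG Z)
    · intro x hx hxe
      have hfix : ∀ b ∈ (Z : Subgroup H), b • (a • s) = a • s := by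
        intro b hb
        rw [smul_comm, hs b hb]
      have h1 : eG P Z ≤ (a • s).hom.ker.map P.subtype := by
        change ⁅P, zG Z⁆ ≤ _
        rw [Subgroup.commutator_le]
        rintro y hy _ ⟨c, hc, rfl⟩
        have h2 : (c : G) * y⁻¹ * (c : G)⁻¹ ∈ P := hPn.conj_mem _ (P.inv_mem hy) _
        refine ⟨⟨y, hy⟩ * ⟨(c : G) * y⁻¹ * (c : G)⁻¹, h2⟩, ?_, ?_⟩
        · rw [SetLike.mem_coe, MonoidHom.mem_ker, map_mul]
          have h3 := smul_hom' (c : G) (a • s) y⁻¹ (P.inv_mem hy)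
          have h4 : (c : G)⁻¹ • (a • s) = a • s := by
            have := hfix c⁻¹ ((Z : Subgroup H).inv_mem hc)
            exact this
          rw [h4] at h3
          rw [← h3, ← map_mul]
          have h5 : (⟨y, hy⟩ : P) * ⟨y⁻¹, P.inv_mem hy⟩ = 1 := Subtype.ext (mul_inv_cancel y)
          rw [h5, map_one]
        · change y * ((c : G) * y⁻¹ * (c : G)⁻¹) = ⁅y, (c : G)⁆
          rw [commutatorElement_def]
          group
      obtain ⟨y, hy, hyx⟩ := h1 hxe
      have : y = ⟨x, hx⟩ := Subtype.ext hyx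
      rw [← this]
      exact hy
    · intro x hx hxc
      have h1 : a • s = w - a • (Nat.card (Z : Subgroup H) • w - s) := eq_sub_of_add_eq' hw1.symm
      rw [h1, sub_eq_add_neg, LC.hom_add, LC.hom_neg, hw x hxc, hom_com_eq_one hcom hxc, inv_one, one_mul]
  rw [hw1, h0, add_zero]
  exact hcom

end coprime

section kernel

variable {z : ℕ} (h : T2pre G M P H p) (hz : z.Prime) (hzp : z ≠ p) {Z : Sylow z H}
  (hZn : (Z : Subgroup H).Normal) (hVM : Triv (LC M) (Z : Subgroup H))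

include h hz hzp hZn hVM in
/-- if `[E, E] = M` then the kernel on `[W, Z]` centralizes `M` -/
theorem ker_of (hG : Group.IsSolvable G) (hE : ⁅eG P Z, eG P Z⁆ = M) (t : H)
    (ht : ∀ w ∈ com (LC P) (Z : Subgroup H), t • w = w) (v : LC M) : t • v = v := by
  haveI := normal_eG h hZn
  have h1 : ∀ x ∈ P, x⁻¹ * ((t : G) * x * (t : G)⁻¹) ∈ cG P Z := by
    intro x hx
    have hx' : (t : G) * x * (t : G)⁻¹ ∈ P := hPn.conj_mem x hx t
    apply mem_cG_of_com h hz hzp hVM (P.mul_mem (P.inv_mem hx) hx') hG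
    intro w hw
    have h2 : (t : G)⁻¹ • w = w := by
      rw [inv_smul_eq_iff]
      exact (ht w hw).symm
    have h3 := smul_hom' (t : G) w x hx
    rw [h2] at h3
    have h4 : w.hom ⟨x⁻¹ * ((t : G) * x * (t : G)⁻¹), P.mul_mem (P.inv_mem hx) hx'⟩ =
        (w.hom ⟨x, hx⟩)⁻¹ * w.hom ⟨(t : G) * x * (t : G)⁻¹, hx'⟩ := by
      rw [← map_inv, ← map_mul]
      rfl
    rw [h4, ← h3, inv_mul_cancel]
  refine (fix_iff h t).2 ?_ v
  have h2 : ⁅eG P Z, eG P Z⁆ ≤ Subgroup.centralizer ({(t : G)} : Set G) := by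
    rw [Subgroup.commutator_le]
    intro e he f hf
    rw [Subgroup.mem_centralizer_singleton_iff]
    obtain ⟨c, hc⟩ : ∃ c, c = e⁻¹ * ((t : G) * e * (t : G)⁻¹) := ⟨_, rfl⟩
    obtain ⟨d, hd⟩ : ∃ d, d = f⁻¹ * ((t : G) * f * (t : G)⁻¹) := ⟨_, rfl⟩
    have hcC : c ∈ cG P Z := hc ▸ h1 e (eG_le Z he)
    have hdC : d ∈ cG P Z := hd ▸ h1 f (eG_le Z hf)
    have hdE : d ∈ eG P Z := by
      rw [hd]
      exact (eG P Z).mul_mem ((eG P Z).inv_mem hf) (this.conj_mem f hf t)
    have h3 : (t : G) * ⁅e, f⁆ * (t : G)⁻¹ = ⁅e * c, f * d⁆ := by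
      rw [hc, hd]
      simp only [commutatorElement_def]
      group
    have k1 : f * c = c * f := comm_of h hVM hf hcC
    have k2 : d * c = c * d := comm_of h hVM hdE hcC
    have k3 : e * d = d * e := comm_of h hVM he hdC
    have h4 : ⁅e * c, f * d⁆ = ⁅e, f⁆ := by
      have e1 : e * c * (f * d) = e * f * d * c := by
        calc e * c * (f * d) = e * (c * f) * d := by group
          _ = e * f * (c * d) := by rw [← k1]; group
          _ = e * f * d * c := by rw [← k2]; group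
      have e2 : f * d * (e * c) = f * e * d * c := by
        calc f * d * (e * c) = f * (d * e) * c := by group
          _ = f * e * d * c := by rw [← k3]; group
      calc ⁅e * c, f * d⁆ = e * c * (f * d) * (f * d * (e * c))⁻¹ := by
            rw [commutatorElement_def]; group
        _ = e * f * d * c * (f * e * d * c)⁻¹ := by rw [e1, e2]
        _ = ⁅e, f⁆ := by rw [commutatorElement_def]; group
    rw [h4] at h3
    exact (mul_inv_eq_iff_eq_mul.1 h3).symm
  intro m hm
  rw [← hE] at hm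
  have h3 := Subgroup.mem_centralizer_singleton_iff.1 (h2 hm)
  rw [← h3, mul_inv_cancel_right]

include h hz hzp hZn hVM in
/-- the case `[E, E] = 1` -/
theorem exists_min (hG : Group.IsSolvable G) (hE : ⁅eG P Z, eG P Z⁆ = ⊥) (hne : eG P Z ≠ ⊥) :
    ∃ M' : Subgroup G, MinN M' ∧ M' ≤ P ∧ M' ⊓ M = ⊥ := by
  haveI hEn := normal_eG h hZn
  have hab : ∀ a ∈ eG P Z, ∀ b ∈ eG P Z, a * b = b * a := by
    intro a ha b hb
    have h1 : ⁅a, b⁆ ∈ ⁅eG P Z, eG P Z⁆ := Subgroup.commutator_mem_commutator ha hb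
    rw [hE, Subgroup.mem_bot] at h1
    exact commutatorElement_eq_one_iff_mul_comm.1 h1
  have hEM : eG P Z ⊓ cG P Z = ⊥ := by
    classical
    letI : CommGroup (eG P Z) := { (inferInstance : Group (eG P Z)) with
      mul_comm := fun a b => Subtype.ext (hab a a.2 b b.2) }
    letI := Fintype.ofFinite (Z : Subgroup H)
    let cj : ↥(Z : Subgroup H) → (eG P Z →* eG P Z) := fun a =>
      (MulAut.conjNormal ((a : H) : G) : MulAut (eG P Z)).toMonoidHom
    have hcj : ∀ (a : (Z : Subgroup H)) (x : eG P Z), ((cj a x : eG P Z) : G) = (a : H) * x * ((a : H) : G)⁻¹ :=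
      fun a x => rfl
    let φ : eG P Z →* eG P Z :=
      { toFun := fun x => ∏ a : (Z : Subgroup H), cj a x
        map_one' := by simp only [_root_.map_one, _root_.Finset.prod_const_one]
        map_mul' := fun x y => by
          simp only [map_mul]
          exact Finset.prod_mul_distrib }
    have hφ : ∀ x : eG P Z, φ x = ∏ a : (Z : Subgroup H), cj a x := fun x => rfl
    have hinv : ∀ (b : (Z : Subgroup H)) (x : eG P Z), φ (cj b x) = φ x := by
      intro b x
      rw [hφ, hφ]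
      refine Fintype.prod_equiv (Equiv.mulRight b) _ _ (fun a => ?_)
      apply Subtype.ext
      rw [hcj, hcj, hcj]
      change ((a : H) : G) * (((b : H) : G) * x * ((b : H) : G)⁻¹) * ((a : H) : G)⁻¹ =
        (((a : H) : G) * ((b : H) : G)) * x * (((a : H) : G) * ((b : H) : G))⁻¹
      group
    have hst : ⁅eG P Z, zG Z⁆ = eG P Z :=
      Cfsg.Agent.S0027.result (zG Z) P (zG_le Z) (cop h hz hzp Z) (Or.inl (solv_zG hG Z))
    have htriv : ∀ x : eG P Z, φ x = 1 := by
      have h1 : eG P Z ≤ φ.ker.map (eG P Z).subtype := by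
        nth_rewrite 1 [← hst]
        rw [Subgroup.commutator_le]
        rintro y hy _ ⟨b, hb, rfl⟩
        refine ⟨⟨y, hy⟩ * cj ⟨b, hb⟩ ⟨y, hy⟩⁻¹, ?_, ?_⟩
        · rw [SetLike.mem_coe, MonoidHom.mem_ker, map_mul, hinv, map_inv, mul_inv_cancel]
        · change y * ((b : G) * y⁻¹ * (b : G)⁻¹) = ⁅y, (b : G)⁆
          rw [commutatorElement_def]
          group
      intro x
      obtain ⟨y, hy, hyx⟩ := h1 x.2
      have : y = x := Subtype.ext hyx
      rw [← this]
      exact hy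
    rw [eq_bot_iff]
    rintro x ⟨hxE, hxC⟩
    have h1 := htriv ⟨x, hxE⟩
    have h2 : φ ⟨x, hxE⟩ = (⟨x, hxE⟩ : eG P Z) ^ Nat.card (Z : Subgroup H) := by
      rw [hφ, Finset.prod_congr rfl (g := fun _ => (⟨x, hxE⟩ : eG P Z)), Finset.prod_const, Finset.card_univ,
        Nat.card_eq_fintype_card]
      intro a _
      apply Subtype.ext
      rw [hcj]
      have h3 := (mem_cG.1 hxC).2 a a.2
      change ((a : H) : G) * x * ((a : H) : G)⁻¹ = x
      rw [h3, mul_inv_cancel_right]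
    rw [h2] at h1
    have h3 : x ^ Nat.card (Z : Subgroup H) = 1 := by
      have := congrArg Subtype.val h1
      simpa only [_root_.Nat.card_eq_fintype_card, _root_.SubmonoidClass.mk_pow, _root_.OneMemClass.coe_one] using this
    have h4 : x ^ Nat.card P = 1 := by
      have h5 : (⟨x, hxC.1⟩ : P) ^ Nat.card P = 1 := pow_card_eq_one'
      exact congrArg Subtype.val h5
    have hcop : (Nat.card (Z : Subgroup H)).Coprime (Nat.card P) := by
      have h1 := cop h hz hzp Z
      have h2 : Nat.card (zG Z) = Nat.card (Z : Subgroup H) :=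
        (Subgroup.card_map_of_injective H.subtype_injective)
      rwa [h2] at h1
    have h5 : orderOf x = 1 :=
      Nat.eq_one_of_dvd_coprimes hcop (orderOf_dvd_of_pow_eq_one h3) (orderOf_dvd_of_pow_eq_one h4)
    rw [Subgroup.mem_bot]
    exact orderOf_eq_one_iff.1 h5
  obtain ⟨N, ⟨hN1, hN2, hN3⟩, hmin⟩ := wellFounded_lt.has_min
    {N : Subgroup G | N.Normal ∧ N ≤ eG P Z ∧ N ≠ ⊥} ⟨eG P Z, hEn, le_rfl, hne⟩
  refine ⟨N, ⟨hN3, hN1, fun K hK hKN => ?_⟩, hN2.trans (eG_le Z), ?_⟩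
  · by_cases hK0 : K = ⊥
    · exact Or.inl hK0
    · right
      by_contra hcon
      exact hmin K ⟨hK, hKN.trans hN2, hK0⟩ (lt_of_le_of_ne hKN hcon)
  · rw [eq_bot_iff, ← hEM]
    exact inf_le_inf hN2 (le_cG h hVM)

include h hz hzp hVM in
/-- `Z` does not centralize `P` -/
theorem exists_not_mem (hG : Group.IsSolvable G) (hWP : ¬ Triv (LC P) (Z : Subgroup H)) :
    ∃ g ∈ eG P Z, g ∉ cG P Z := by
  by_contra hcon
  push Not at hcon
  apply hWP
  have hP : P ≤ cG P Z := (sup_eq h hz hzp hG Z).symm.le.trans (sup_le hcon le_rfl)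
  intro a ha v
  change (a : G) • v = v
  apply LC.ext
  intro n
  rw [LC.smul_hom]
  congr 1
  apply Subtype.ext
  have h3 := (mem_cG.1 (hP n.2)).2 a ha
  change (a : G)⁻¹ * n * (a : G) = n
  rw [mul_assoc, ← h3, inv_mul_cancel_left]

end kernel

section star

variable {z : ℕ} (h : T2pre G M P H p) (hz : z.Prime) {Z : Sylow z H} (hZn : (Z : Subgroup H).Normal)

include h hz hZn in
/-- a subgroup of index prime to `z` containing `P` contains `Z` -/
theorem mem_of_index {T : Subgroup G} (hPT : P ≤ T) (hi : ¬ z ∣ T.index) {a : H} (ha : a ∈ (Z : Subgroup H)) :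
    (a : G) ∈ T := by
  haveI : Fact z.Prime := ⟨hz⟩
  obtain ⟨q, hq⟩ := Z.isPGroup'.nonempty_fixed_point_of_prime_not_dvd_card (G ⧸ T) hi
  obtain ⟨g, rfl⟩ := QuotientGroup.mk_surjective q
  obtain ⟨t, ht, x, hx, rfl⟩ := exists_mul h g
  have h1 := hq ⟨(⟨t, ht⟩ * a * ⟨t, ht⟩⁻¹ :), hZn.conj_mem a ha _⟩
  have h2 : ((t * (a : G) * t⁻¹ * (t * x) : G) : G ⧸ T) = ((t * x : G) : G ⧸ T) := h1
  rw [eq_comm, QuotientGroup.eq] at h2
  have h3 : (t * x)⁻¹ * (t * (a : G) * t⁻¹ * (t * x)) = x⁻¹ * a * x := by group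
  rw [h3] at h2
  have h4 := T.mul_mem (T.mul_mem (hPT hx) h2) (T.inv_mem (hPT hx))
  have h5 : x * (x⁻¹ * a * x) * x⁻¹ = a := by group
  rwa [h5] at h4

include h hz hZn in
/-- `Z` fixes the irreducible characters of `P` of degree divisible by `p` -/
theorem fix_char (hna : NA p z G) {θ : P → ℂ} (hθ : IsIrrCharacter P θ) (hd : p ∣ charDegree θ) {a : H}
    (ha : a ∈ (Z : Subgroup H)) (n : P) : θ ⟨(a : G) * n * (a : G)⁻¹, hPn.conj_mem n n.2 a⟩ = θ n := by
  obtain ⟨χ, hχ, ho⟩ := exists_over_subtype P hθ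
  have h1 := index_mul_charDegree_dvd P hχ hθ ho
  have h2 : ¬ z ∣ (inertia P θ).index := by
    intro h2
    exact hna _ ⟨⟨χ, hχ⟩, rfl⟩ ((hd.mul_left _).trans h1) ((h2.mul_right _).trans h1)
  have h3 := mem_of_index h hz hZn (le_inertia (isIrr_isClassFunction hθ)) h2 ha
  exact mem_inertia_iff.1 h3 n

include h in
/-- the value at an element of `P` commuting with `P` modulo the kernel is not zero -/
theorem ne_zero_of {θ : P → ℂ} (hθ : IsIrrCharacter P θ) {l : LC M}
    (ho : Over (Subgroup.inclusion (le_of h)) θ (lf l.hom)) {g : P}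
    (hg : ∀ x : P, ∀ hx : ⁅(g : G), (x : G)⁆ ∈ M, l.hom ⟨⁅(g : G), (x : G)⁆, hx⟩ = 1) : θ g ≠ 0 := by
  classical
  have hcl : P ≤ stab (lf l.hom) := by
    intro x hx
    refine ⟨by rw [Subgroup.normalizer_eq_top]; trivial, ?_⟩
    funext m
    rw [tw_apply (by rw [Subgroup.normalizer_eq_top]; trivial), lf_apply, lf_apply]
    congr 2
    apply Subtype.ext
    change x * m * x⁻¹ = m
    rw [← h.cen m m.2 x hx, mul_inv_cancel_right]
  obtain ⟨c, hc, hc'⟩ := res_of_inv (le_of h) (isIrr_lf l.hom) hcl hθ ho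
  obtain ⟨n, ρ, hρ, rfl⟩ := hθ
  haveI := hρ
  have hn : 0 < n := by
    have := Cfsg.Agent.Characters.CentralCharacter.finrank_pos_of_irreducible ρ
    simpa only [_root_.gt_iff_lt, _root_.Module.finrank_fintype_fun_eq_card, _root_.Fintype.card_fin] using this
  have htr : ∀ (y : P) (k : ℂ), ρ y = k • (LinearMap.id : (Fin n → ℂ) →ₗ[ℂ] _) → ρ.character y = k * n := by
    intro y k hk
    change LinearMap.trace ℂ _ (ρ y) = _
    rw [hk, map_smul, LinearMap.trace_id]
    simp only [_root_.Module.finrank_fintype_fun_eq_card, _root_.Fintype.card_fin, _root_.smul_eq_mul]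
  have h1 : ρ.character 1 = n := by
    rw [htr 1 1 (by rw [map_one, one_smul]; rfl), one_mul]
  have hcn : c = n := by
    have := hc' 1
    rw [map_one, h1, lf_apply, map_one] at this
    simpa using this.symm
  have hn0 : (n : ℂ) ≠ 0 := by exact_mod_cast hn.ne'
  -- `M` acts by scalars
  have hM : ∀ m : M, ρ (Subgroup.inclusion (le_of h) m) = ((l.hom m : ℂˣ) : ℂ) • LinearMap.id := by
    intro m
    obtain ⟨k, hk⟩ := Cfsg.Agent.Characters.CentralCharacter.exists_scalar_of_commute ρ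
      (ρ (Subgroup.inclusion (le_of h) m)) (by
        intro x v
        rw [← Module.End.mul_apply, ← map_mul, ← Module.End.mul_apply, ← map_mul]
        congr 2
        apply Subtype.ext
        exact h.cen m m.2 x x.2)
    have h2 := htr _ _ hk
    rw [hc' m, hcn, lf_apply, mul_comm] at h2
    rw [hk, mul_right_cancel₀ hn0 h2]
  obtain ⟨k, hk⟩ := Cfsg.Agent.Characters.CentralCharacter.exists_scalar_of_commute ρ (ρ g) (by
    intro x v
    rw [← Module.End.mul_apply, ← map_mul, ← Module.End.mul_apply, ← map_mul]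
    have hx : ⁅(g : G), (x : G)⁆ ∈ M := by
      rw [← h.comm]
      exact Subgroup.commutator_mem_commutator g.2 x.2
    have h2 : g * x = Subgroup.inclusion (le_of h) ⟨_, hx⟩ * (x * g) := by
      apply Subtype.ext
      change (g : G) * x = ⁅(g : G), (x : G)⁆ * (x * g)
      rw [commutatorElement_def]
      group
    rw [h2, map_mul, hM, hg x hx]
    simp)
  have hk0 : k ≠ 0 := by
    rintro rfl
    rw [zero_smul] at hk
    have h2 : ρ (g * g⁻¹) = 0 := by rw [map_mul, hk, zero_mul]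
    rw [mul_inv_cancel] at h2
    have h3 : ρ.character 1 = 0 := by
      change LinearMap.trace ℂ _ (ρ 1) = 0
      rw [h2, map_zero]
    rw [h1] at h3
    exact hn0 h3
  rw [htr g k hk]
  exact mul_ne_zero hk0 hn0

include h hz hZn in
/-- **The key step.** -/
theorem star (hG : Group.IsSolvable G) (hzp : z ≠ p) (hVM : Triv (LC M) (Z : Subgroup H)) (hna : NA p z G) {g : G}
    (hg : g ∈ P) {l : LC M} (hl : l ≠ 0)
    (hgl : ∀ x ∈ P, ∀ hx : ⁅g, x⁆ ∈ M, l.hom ⟨⁅g, x⁆, hx⟩ = 1) : g ∈ cG P Z := by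
  classical
  have hp := h.prime
  obtain ⟨θ, hθ, ho⟩ := exists_over_incl (le_of h) (isIrr_lf l.hom)
  have hl1 : lf l.hom ≠ 1 := by
    intro h1
    apply hl
    apply LC.ext
    intro n
    apply Units.ext
    exact congrFun h1 n
  have hd1 := nonlin_of_over (le_of h) h.comm.ge hθ (isIrr_lf l.hom) hl1 ho
  have hd : p ∣ charDegree θ := by
    haveI : Fact p.Prime := ⟨hp⟩
    obtain ⟨b, hb⟩ := IsPGroup.iff_card.1 h.isP
    have h1 := degree_dvd_card hθ
    rw [hb] at h1
    obtain ⟨j, -, hj⟩ := (Nat.dvd_prime_pow hp).1 h1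
    rcases Nat.eq_zero_or_pos j with rfl | hj0
    · exact absurd hj hd1
    · rw [hj]
      exact dvd_pow_self p hj0.ne'
  have hne : θ ⟨g, hg⟩ ≠ 0 := ne_zero_of h hθ ho (g := ⟨g, hg⟩) (fun x hx => hgl x x.2 hx)
  apply mem_cG_of h hz hzp hVM hg _ hG
  intro a ha
  have h1 : (a : G) * g * (a : G)⁻¹ ∈ P := hPn.conj_mem g hg a
  apply sepP h (P.mul_mem h1 (P.inv_mem hg))
  intro β
  have h2 := fix_char h hz hZn hna hθ hd ha ⟨g, hg⟩
  have h3 := fix_char h hz hZn hna (isIrr_mul_lf β.hom hθ) (by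
    have : charDegree (fun x => (β.hom x : ℂ) * θ x) = charDegree θ := by
      apply charDegree_of_eq
      rw [map_one, coe_charDegree hθ]
      simp
    rwa [this]) ha ⟨g, hg⟩
  have h3' : (β.hom ⟨(a : G) * g * (a : G)⁻¹, h1⟩ : ℂ) * θ ⟨(a : G) * g * (a : G)⁻¹, h1⟩ =
    (β.hom ⟨g, hg⟩ : ℂ) * θ ⟨g, hg⟩ := h3
  have h2' : θ ⟨(a : G) * g * (a : G)⁻¹, h1⟩ = θ ⟨g, hg⟩ := h2
  rw [h2'] at h3'
  have h5 : β.hom ⟨(a : G) * g * (a : G)⁻¹, h1⟩ = β.hom ⟨g, hg⟩ := Units.ext (mul_right_cancel₀ hne h3')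
  have h6 : β.hom ⟨(a : G) * g * (a : G)⁻¹ * g⁻¹, P.mul_mem h1 (P.inv_mem hg)⟩ =
      β.hom ⟨(a : G) * g * (a : G)⁻¹, h1⟩ * (β.hom ⟨g, hg⟩)⁻¹ := by
    rw [← map_inv, ← map_mul]
    rfl
  rw [h6, h5, mul_inv_cancel]

end star

section cw

theorem comm_mem (h : T2pre G M P H p) {g x : G} (hg : g ∈ P) (hx : x ∈ P) : ⁅g, x⁆ ∈ M := by
  rw [← h.comm]
  exact Subgroup.commutator_mem_commutator hg hx

theorem comm_mul_right (h : T2pre G M P H p) {g x y : G} (hg : g ∈ P) (hx : x ∈ P) (hy : y ∈ P) :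
    ⁅g, x * y⁆ = ⁅g, x⁆ * ⁅g, y⁆ := by
  have h1 := h.cen _ (comm_mem h hg hy) x hx
  calc ⁅g, x * y⁆ = ⁅g, x⁆ * (x * ⁅g, y⁆) * x⁻¹ := by simp only [commutatorElement_def]; group
    _ = ⁅g, x⁆ * (⁅g, y⁆ * x) * x⁻¹ := by rw [h1]
    _ = _ := by group

theorem comm_mul_left (h : T2pre G M P H p) {g g' x : G} (hg : g ∈ P) (hg' : g' ∈ P) (hx : x ∈ P) :
    ⁅g * g', x⁆ = ⁅g, x⁆ * ⁅g', x⁆ := by
  have h1 := h.cen _ (comm_mem h hg' hx) g hg
  have h2 := h.cen _ (comm_mem h hg' hx) ⁅g, x⁆ (le_of h (comm_mem h hg hx))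
  calc ⁅g * g', x⁆ = g * ⁅g', x⁆ * g⁻¹ * ⁅g, x⁆ := by simp only [commutatorElement_def]; group
    _ = ⁅g', x⁆ * g * g⁻¹ * ⁅g, x⁆ := by rw [h1]
    _ = ⁅g', x⁆ * ⁅g, x⁆ := by group
    _ = _ := h2

/-- the linear character `x ↦ l [g, x]` of `P` -/
def cw (h : T2pre G M P H p) (g : P) (l : LC M) : LC P :=
  LC.of
    { toFun := fun x => l.hom ⟨⁅(g : G), (x : G)⁆, comm_mem h g.2 x.2⟩
      map_one' := by
        have : (⟨⁅(g : G), ((1 : P) : G)⁆, comm_mem h g.2 (1 : P).2⟩ : M) = 1 :=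
          Subtype.ext (commutatorElement_one_right (g : G))
        rw [this, map_one]
      map_mul' := fun x y => by
        rw [← map_mul]
        congr 1
        exact Subtype.ext (comm_mul_right h g.2 x.2 y.2) }

theorem cw_hom (h : T2pre G M P H p) (g : P) (l : LC M) (x : P) :
    (cw h g l).hom x = l.hom ⟨⁅(g : G), (x : G)⁆, comm_mem h g.2 x.2⟩ := rfl

theorem cw_sub (h : T2pre G M P H p) (g : P) (l l' : LC M) : cw h g (l - l') = cw h g l - cw h g l' := by
  apply LC.ext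
  intro x
  rw [sub_eq_add_neg, sub_eq_add_neg, LC.hom_add, LC.hom_neg, cw_hom, cw_hom, cw_hom, LC.hom_add, LC.hom_neg]

theorem cw_mul (h : T2pre G M P H p) (g g' : P) (l : LC M) : cw h (g * g') l = cw h g l + cw h g' l := by
  apply LC.ext
  intro x
  rw [LC.hom_add, cw_hom, cw_hom, cw_hom, ← map_mul]
  congr 1
  exact Subtype.ext (comm_mul_left h g.2 g'.2 x.2)

theorem smul_cw (h : T2pre G M P H p) (t : G) (g : P) {l : LC M} (hl : t • l = l) :
    t • cw h g l = cw h ⟨t * g * t⁻¹, hPn.conj_mem g g.2 t⟩ l := by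
  apply LC.ext
  intro x
  rw [LC.smul_hom, cw_hom, cw_hom]
  nth_rewrite 2 [← hl]
  rw [LC.smul_hom]
  congr 1
  apply Subtype.ext
  change ⁅(g : G), t⁻¹ * x * t⁆ = t⁻¹ * ⁅t * g * t⁻¹, (x : G)⁆ * t
  simp only [commutatorElement_def]
  group

variable {z : ℕ} (h : T2pre G M P H p) (hz : z.Prime) (hzp : z ≠ p) {Z : Sylow z H}
  (hZn : (Z : Subgroup H).Normal) (hVM : Triv (LC M) (Z : Subgroup H))

include hz hzp hVM in
theorem cw_mem (hG : Group.IsSolvable G) {g : P} (hg : (g : G) ∈ eG P Z) (l : LC M) :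
    cw h g l ∈ com (LC P) (Z : Subgroup H) := by
  apply mem_com_of h hz hzp hG
  intro c hc
  rw [cw_hom]
  have h1 : (⟨⁅(g : G), c⁆, comm_mem h g.2 hc.1⟩ : M) = 1 :=
    Subtype.ext (commutatorElement_eq_one_iff_mul_comm.2 (comm_of h hVM hg hc))
  exact (congrArg l.hom h1).trans (map_one _)

include hz hzp hVM in
theorem cw_eq_zero (hG : Group.IsSolvable G) (l : LC M) {g : P} (hg : (g : G) ∈ eG P Z) (hc : (g : G) ∈ cG P Z) :
    cw h g l = 0 := by
  apply eq_zero_of (sup_eq h hz hzp hG Z)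
  · intro x hx hxe
    rw [cw_hom]
    have h1 : (⟨⁅(g : G), x⁆, comm_mem h g.2 hx⟩ : M) = 1 :=
      Subtype.ext (commutatorElement_eq_one_iff_mul_comm.2 (comm_of h hVM hxe hc).symm)
    exact (congrArg l.hom h1).trans (map_one _)
  · intro x hx hxc
    rw [cw_hom]
    have h1 : (⟨⁅(g : G), x⁆, comm_mem h g.2 hx⟩ : M) = 1 :=
      Subtype.ext (commutatorElement_eq_one_iff_mul_comm.2 (comm_of h hVM hg hxc))
    exact (congrArg l.hom h1).trans (map_one _)

theorem finite_LC (N : Subgroup G) : Finite (LC N) := by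
  have : Finite (N →* ℂˣ) := inferInstance
  exact this

include h hz hzp hZn hVM in
/-- the order of `[W, Z]` -/
theorem card_lt (hG : Group.IsSolvable G) (hna : NA p z G) (hWP : ¬ Triv (LC P) (Z : Subgroup H)) :
    Nat.card (LC M) < Nat.card (com (LC P) (Z : Subgroup H)) := by
  classical
  haveI := finite_LC P
  haveI := finite_LC M
  obtain ⟨g, hg, hgc⟩ := exists_not_mem h hz hzp hVM hG hWP
  have hgP := eG_le Z hg
  let f : LC M → com (LC P) (Z : Subgroup H) := fun l => ⟨cw h ⟨g, hgP⟩ l, cw_mem h hz hzp hVM hG hg l⟩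
  have hf : Function.Injective f := by
    intro l l' hll
    have h1 : cw h ⟨g, hgP⟩ l = cw h ⟨g, hgP⟩ l' := congrArg Subtype.val hll
    have h2 : cw h ⟨g, hgP⟩ (l - l') = 0 := by rw [cw_sub, h1, sub_self]
    by_contra hne
    apply hgc
    apply star h hz hZn hG hzp hVM hna hgP (l := l - l') (sub_ne_zero.2 hne)
    intro x hx hm
    have h3 : (cw h ⟨g, hgP⟩ (l - l')).hom ⟨x, hx⟩ = 1 := by rw [h2]; rfl
    rw [cw_hom] at h3
    exact h3
  refine lt_of_le_of_ne (Nat.card_le_card_of_injective f hf) (fun hcard => ?_)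
  have hs : Function.Surjective f := ((Nat.bijective_iff_injective_and_card f).2 ⟨hf, hcard⟩).2
  apply hgc
  apply mem_cG_of_com h hz hzp hVM hgP hG
  intro w hw
  obtain ⟨l, hl⟩ := hs ⟨w, hw⟩
  have h1 : cw h ⟨g, hgP⟩ l = w := congrArg Subtype.val hl
  rw [← h1, cw_hom]
  have h2 : (⟨⁅g, g⁆, comm_mem h hgP hgP⟩ : M) = 1 := Subtype.ext (commutatorElement_self g)
  exact (congrArg l.hom h2).trans (map_one _)

include h hz hzp hZn hVM in
/-- `[E, E] = M` -/
theorem comm_eq (hG : Group.IsSolvable G) (hna : NA p z G) (hWP : ¬ Triv (LC P) (Z : Subgroup H)) :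
    ⁅eG P Z, eG P Z⁆ = M := by
  have hEn := normal_eG h hZn
  have h1 : ⁅eG P Z, eG P Z⁆ ≤ M := by
    rw [← h.comm]
    exact Subgroup.commutator_mono (eG_le Z) (eG_le Z)
  rcases h.minN.min _ inferInstance h1 with h2 | h2
  · exfalso
    obtain ⟨g, hg, hgc⟩ := exists_not_mem h hz hzp hVM hG hWP
    have hgP := eG_le Z hg
    obtain ⟨l, hl⟩ : ∃ l : LC M, l ≠ 0 := by
      by_contra hcon
      push Not at hcon
      apply h.minN.ne
      rw [eq_bot_iff]
      intro m hm
      rw [Subgroup.mem_bot]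
      apply sepM h hm
      intro l
      rw [hcon l]
      rfl
    apply hgc
    apply star h hz hZn hG hzp hVM hna hgP hl
    intro x hx hm
    have h3 : ⁅g, x⁆ = 1 := by
      obtain ⟨e, he, c, hc, rfl⟩ := exists_ec h hz hzp hZn hG hx
      rw [commutatorElement_eq_one_iff_mul_comm]
      have k1 : g * c = c * g := comm_of h hVM hg hc
      have k2 : g * e = e * g := by
        have h4 : ⁅g, e⁆ ∈ ⁅eG P Z, eG P Z⁆ := Subgroup.commutator_mem_commutator hg he
        rw [h2, Subgroup.mem_bot] at h4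
        exact commutatorElement_eq_one_iff_mul_comm.1 h4
      rw [← mul_assoc, k2, mul_assoc, k1, mul_assoc]
    have h4 : (⟨⁅g, x⁆, hm⟩ : M) = 1 := Subtype.ext h3
    exact (congrArg l.hom h4).trans (map_one _)
  · exact h2

end cw

section form

variable {z : ℕ} (h : T2pre G M P H p) (hz : z.Prime) (hzp : z ≠ p) {Z : Sylow z H}
  (hZn : (Z : Subgroup H).Normal) (hVM : Triv (LC M) (Z : Subgroup H))

include h hz hzp hZn hVM in
/-- elements of `H` centralizing `M` and irreducible on `[W, Z]` -/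
theorem pow_com (hG : Group.IsSolvable G) (hna : NA p z G) (hWP : ¬ Triv (LC P) (Z : Subgroup H)) {n : ℕ}
    (hn : Nat.card (com (LC P) (Z : Subgroup H)) = p ^ n) (g : H) (hg : ∀ v : LC M, g • v = v)
    (hirr : ∀ Y : AddSubgroup (LC P), Y ≤ com (LC P) (Z : Subgroup H) → (∀ y ∈ Y, g • y ∈ Y) →
      Y = ⊥ ∨ Y = com (LC P) (Z : Subgroup H)) :
    ∃ i < n, ∀ w ∈ com (LC P) (Z : Subgroup H), g ^ (p ^ i + 1) • w = w := by
  classical
  haveI := finite_LC P
  haveI := finite_LC M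
  have hEn := normal_eG h hZn
  have hS := sup_eq h hz hzp hG Z
  -- a nonzero character of `M`
  obtain ⟨l, hl⟩ : ∃ l : LC M, l ≠ 0 := by
    by_contra hcon
    push Not at hcon
    apply h.minN.ne
    rw [eq_bot_iff]
    intro m hm
    rw [Subgroup.mem_bot]
    apply sepM h hm
    intro l
    rw [hcon l]
    rfl
  set V : AddSubgroup (LC P) := com (LC P) (Z : Subgroup H) with hV
  have hsub : ∀ {x : G}, x ∈ eG P Z → x ∈ P := fun hx => eG_le Z hx
  let ψ : eG P Z → LC P := fun e => cw h ⟨e, eG_le Z e.2⟩ l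
  have hψV : ∀ e, ψ e ∈ V := fun e => cw_mem h hz hzp hVM hG e.2 l
  have hψm : ∀ e f, ψ (e * f) = ψ e + ψ f := fun e f => cw_mul h ⟨e, eG_le Z e.2⟩ ⟨f, eG_le Z f.2⟩ l
  have hψ1 : ψ 1 = 0 := by
    have := hψm 1 1
    rw [mul_one] at this
    exact left_eq_add.1 this
  have hψi : ∀ e, ψ e⁻¹ = - ψ e := by
    intro e
    rw [eq_neg_iff_add_eq_zero, ← hψm, inv_mul_cancel, hψ1]
  have hψC : ∀ e : eG P Z, ψ e = 0 ↔ (e : G) ∈ cG P Z := by
    intro e
    constructor
    · intro h0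
      apply star h hz hZn hG hzp hVM hna (eG_le Z e.2) hl
      intro x hx hm
      have h3 : (ψ e).hom ⟨x, hx⟩ = 1 := by rw [h0]; rfl
      exact h3
    · intro hc
      exact cw_eq_zero h hz hzp hVM hG l e.2 hc
  have hψs : ∀ (t : H), (∀ v : LC M, t • v = v) → ∀ e : eG P Z,
      t • ψ e = ψ ⟨(t : G) * e * (t : G)⁻¹, hEn.conj_mem e e.2 t⟩ := by
    intro t ht e
    exact smul_cw h (t : G) ⟨e, eG_le Z e.2⟩ (ht l)
  have hg' : ∀ v : LC M, g⁻¹ • v = v := by
    intro v
    rw [inv_smul_eq_iff, hg]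
  -- surjectivity
  let Y : AddSubgroup (LC P) :=
    { carrier := Set.range ψ
      zero_mem' := ⟨1, hψ1⟩
      add_mem' := by
        rintro _ _ ⟨e, rfl⟩ ⟨f, rfl⟩
        exact ⟨e * f, hψm e f⟩
      neg_mem' := by
        rintro _ ⟨e, rfl⟩
        exact ⟨e⁻¹, hψi e⟩ }
  have hYV : Y = V := by
    rcases hirr Y (by rintro _ ⟨e, rfl⟩; exact hψV e) (by
      rintro _ ⟨e, rfl⟩
      exact ⟨_, (hψs g hg e).symm⟩) with h1 | h1
    · exfalso
      obtain ⟨e, he, hec⟩ := exists_not_mem h hz hzp hVM hG hWP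
      apply hec
      have h2 : ψ ⟨e, he⟩ ∈ Y := ⟨_, rfl⟩
      rw [h1, AddSubgroup.mem_bot] at h2
      exact (hψC ⟨e, he⟩).1 h2
    · exact h1
  have hsurj : ∀ w : V, ∃ e : eG P Z, ψ e = w := by
    intro w
    have h1 : (w : LC P) ∈ Y := by rw [hYV]; exact w.2
    exact h1
  choose ε hε using hsurj
  -- well defined
  have hwd : ∀ e f : eG P Z, ψ e = ψ f → ∀ w ∈ V, w.hom ⟨e, hsub e.2⟩ = w.hom ⟨f, hsub f.2⟩ := by
    intro e f hef w hw
    have h1 : ψ (e * f⁻¹) = 0 := by rw [hψm, hψi, hef, add_neg_cancel]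
    have h2 := hom_com_eq_one hw ((hψC _).1 h1)
    have h3 : (⟨((e * f⁻¹ : eG P Z) : G), ((hψC _).1 h1).1⟩ : P) = ⟨e, hsub e.2⟩ * ⟨f, hsub f.2⟩⁻¹ := rfl
    rw [h3, map_mul, map_inv, mul_inv_eq_one] at h2
    exact h2
  let B : V →+ V →+ Additive ℂˣ := AddMonoidHom.mk' (fun w => AddMonoidHom.mk'
      (fun w' => Additive.ofMul ((w : LC P).hom ⟨ε w', hsub (ε w').2⟩)) (by
        intro a b
        rw [← ofMul_mul, ← map_mul]
        congr 1
        exact hwd (ε (a + b)) (ε a * ε b) (by rw [hψm, hε, hε, hε]; rfl) w w.2)) (by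
      intro a b
      ext w'
      rfl)
  have hB : ∀ w w' : V, B w w' = Additive.ofMul ((w : LC P).hom ⟨ε w', hsub (ε w').2⟩) := fun w w' => rfl
  let f : AddMonoid.End V := AddMonoidHom.mk' (fun w => ⟨g • (w : LC P), smul_mem_com hZn g w.2⟩) (by
    intro a b
    apply Subtype.ext
    exact smul_add g (a : LC P) b)
  have hf : ∀ w : V, ((f w : V) : LC P) = g • (w : LC P) := fun w => rfl
  have hfk : ∀ (k : ℕ) (w : V), (((f ^ k) w : V) : LC P) = g ^ k • (w : LC P) := by
    intro k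
    induction k with
    | zero =>
      intro w
      rw [pow_zero, pow_zero, one_smul]
      rfl
    | succ k ih =>
      intro w
      have h1 : (f ^ (k + 1)) w = f ((f ^ k) w) := by rw [pow_succ']; rfl
      rw [h1, hf, ih, pow_succ', mul_smul]
  have hn0 : 0 < n := by
    rcases Nat.eq_zero_or_pos n with rfl | h0
    · exfalso
      rw [pow_zero, Nat.card_eq_one_iff_unique] at hn
      obtain ⟨e, he, hec⟩ := exists_not_mem h hz hzp hVM hG hWP
      apply hec
      rw [← hψC ⟨e, he⟩]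
      have := hn.1
      have h2 : (⟨ψ ⟨e, he⟩, hψV _⟩ : V) = 0 := Subsingleton.elim _ _
      exact congrArg Subtype.val h2
    · exact h0
  obtain ⟨i, hi, hfi⟩ := PalForm.pow_of_form h.prime hn0 hn f (by
      intro X hX
      rcases hirr (X.map V.subtype) (by rintro _ ⟨x, -, rfl⟩; exact x.2) (by
        rintro _ ⟨x, hx, rfl⟩
        exact ⟨f x, hX x hx, rfl⟩) with h1 | h1
      · left
        exact (AddSubgroup.map_eq_bot_iff_of_injective _ V.subtype_injective).1 h1
      · right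
        rw [eq_top_iff]
        intro x _
        have h2 : (x : LC P) ∈ X.map V.subtype := by rw [h1]; exact x.2
        obtain ⟨y, hy, hyx⟩ := h2
        have : y = x := Subtype.ext hyx
        rwa [← this]) B (by
      intro v w
      rw [hB, hB]
      congr 1
      rw [hf]
      change ((g : G) • (v : LC P)).hom _ = _
      rw [LC.smul_hom]
      have h1 : ψ ⟨(g : G)⁻¹ * ε (f w) * (g : G), by
          have := hEn.conj_mem (ε (f w)) (ε (f w)).2 (g : G)⁻¹
          rwa [inv_inv] at this⟩ = ψ (ε w) := by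
        have h2 := hψs g⁻¹ hg' (ε (f w))
        rw [hε (f w), hf, ← mul_smul, inv_mul_cancel, one_smul] at h2
        rw [hε w, h2]
        congr 1
        apply Subtype.ext
        change (g : G)⁻¹ * ε (f w) * (g : G) = ((g⁻¹ : H) : G) * ε (f w) * ((g⁻¹ : H) : G)⁻¹
        rw [Subgroup.coe_inv, inv_inv]
      exact hwd _ _ h1 v v.2) (by
      intro w hw
      apply Subtype.ext
      apply eq_zero_of hS
      · intro x hx hxe
        have h1 := hwd ⟨x, hxe⟩ (ε ⟨ψ ⟨x, hxe⟩, hψV _⟩) (hε ⟨ψ ⟨x, hxe⟩, hψV _⟩).symm w w.2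
        have h2 := hw ⟨ψ ⟨x, hxe⟩, hψV _⟩
        rw [hB] at h2
        rw [h1]
        exact h2
      · intro x hx hxc
        exact hom_com_eq_one w.2 hxc) (by
      intro w hw
      apply Subtype.ext
      rw [← hε w]
      change ψ (ε w) = 0
      rw [hψC]
      apply mem_cG_of_com h hz hzp hVM (hsub (ε w).2) hG
      intro v hv
      exact hw ⟨v, hv⟩)
  refine ⟨i, hi, fun w hw => ?_⟩
  have h1 := hfk (p ^ i + 1) ⟨w, hw⟩
  rw [hfi] at h1
  exact h1.symm

end form

/-- **The fields of `T2` on a normal Sylow subgroup trivial on `M`.** -/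
theorem factT2b : FactT2b.{u} := by
  intro G _ _ hG M P H _ _ p h z hz hzp Z hZn hVM hWP
  refine ⟨fun hna => ⟨?_, ?_, ?_⟩, ?_⟩
  · exact ker_of h hz hzp hZn hVM hG (comm_eq h hz hzp hZn hVM hG hna hWP)
  · exact card_lt h hz hzp hZn hVM hG hna hWP
  · intro n hn g hg hirr
    exact pow_com h hz hzp hZn hVM hG hna hWP hn g hg hirr
  · have hEn := normal_eG h hZn
    have h1 : ⁅eG P Z, eG P Z⁆ ≤ M := by
      rw [← h.comm]
      exact Subgroup.commutator_mono (eG_le Z) (eG_le Z)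
    rcases h.minN.min _ inferInstance h1 with h2 | h2
    · right
      apply exists_min h hz hzp hZn hVM hG h2
      intro h3
      obtain ⟨g, hg, hgc⟩ := exists_not_mem h hz hzp hVM hG hWP
      rw [h3, Subgroup.mem_bot] at hg
      rw [hg] at hgc
      exact hgc (one_mem _)
    · exact Or.inl (ker_of h hz hzp hZn hVM hG h2)

end Cfsg.Agent.H161.PalFb
end

-- part: H184/TwoSix
section
/-!
# The structure theorem `FactSL`, the case `|V| = 2 ^ 6` (task 1466, helper184)
-/

set_option autoImplicit false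

namespace Cfsg.Agent.H184.TwoSix

open Subgroup Cfsg.Agent.H670.Palfy

universe u v

variable {H : Type u} [Group H] {V : Type v} [AddCommGroup V] [DistribMulAction H V]

/-- A prime `r > 6` dividing `|H|` has `O_r(H) ≠ 1`. -/
theorem pCore_ne_bot [Finite H] [Finite V] (hsol : Group.IsSolvable H) (hV : Nat.card V = 2 ^ 6)
    (hirr : Irr H V) (hf : ∀ h : H, (∀ v : V, h • v = v) → h = 1) {r : ℕ} (hr : r.Prime)
    (hr6 : 6 < r) (hrH : r ∣ Nat.card H) : Cfsg.pCore r H ≠ ⊥ := by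
  intro hR
  have : Fact r.Prime := ⟨hr⟩
  obtain ⟨x, hxo⟩ := exists_prime_orderOf_dvd_card' r hrH
  have hx : x ^ r = 1 := orderOf_dvd_iff_pow_eq_one.1 hxo.dvd
  have hx1 : x ≠ 1 := by
    intro h
    rw [h, orderOf_one] at hxo
    exact hr.one_lt.ne hxo
  obtain ⟨s, hs, g, hg, hgne⟩ := H273.PalfyKP.exists_not_central hsol hR x hx hx1
  have hbot : ∀ q, Cfsg.pCore q H = ⊥ → s ≠ q := by
    rintro q hq rfl
    rw [hq, Subgroup.mem_bot] at hg
    apply hgne
    rw [hg]
    group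
  have hs2 := hbot 2 (pCore_char_eq_bot Nat.prime_two (by norm_num) hV hirr hf)
  obtain ⟨h, -⟩ := cent_pgroup Nat.prime_two hV
    (exp_of_irr Nat.prime_two (by norm_num) hV hirr) hf x hr hx hr6 hs (hbot r hR) hs2
    (Cfsg.pCore s H) (Cfsg.Agent.Lib.Cores.pCore_isPGroup s)
    (fun g hg => (Cfsg.Agent.Lib.Cores.pCore_normal s).conj_mem g hg x) ⟨g, hg, hgne⟩
  exact hs2 h

/-- A Sylow 5-subgroup normalizes and centralizes a normal 7-subgroup when there are at most 21 Sylow
5-subgroups. -/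
theorem commute_of_card [Finite H] [hp5 : Fact (Nat.Prime 5)] (L : Subgroup H) (hLn : L.Normal)
    (hL : IsPGroup 7 L) (Z : Sylow 5 H) (hcard : Nat.card (Sylow 5 H) ≤ 21) :
    ∀ l ∈ L, ∀ z ∈ (Z : Subgroup H), l * z = z * l := by
  have hp7 : Fact (Nat.Prime 7) := ⟨by norm_num⟩
  set J : Subgroup H := L ⊔ (Z : Subgroup H) with hJ
  have hZJ : (Z : Subgroup H) ≤ J := le_sup_right
  have hLJ : L ≤ J := le_sup_left
  have hJi : ¬ 5 ∣ J.index := fun h =>
    Z.not_dvd_index (h.trans (Subgroup.index_dvd_of_le hZJ))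
  -- the number of Sylow subgroups of `J`
  have h1 : Nat.card (Sylow 5 J) ≤ 21 := by
    refine le_trans ?_ hcard
    choose f hf using fun Q : Sylow 5 J => map_sylow J hJi Q
    refine Nat.card_le_card_of_injective f ?_
    intro Q R hQR
    have h2 : (Q : Subgroup J).map J.subtype = (R : Subgroup J).map J.subtype := by
      rw [hf, hf, hQR]
    exact Sylow.ext (Subgroup.map_injective J.subtype_injective h2)
  have h2 : Nat.card (Sylow 5 J) ≡ 1 [MOD 5] := card_sylow_modEq_one 5 J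
  have h3 : Nat.card (Sylow 5 J) ∣ (Z : Subgroup H).relIndex J := by
    have h4 := Sylow.card_dvd_index (Z.subtype hZJ)
    rw [Sylow.coe_subtype] at h4
    exact h4
  have h4 : (Z : Subgroup H).relIndex J ∣ Nat.card L := by
    have e1 : Nat.card (Z : Subgroup H) * (Z : Subgroup H).relIndex J = Nat.card J := by
      rw [← Subgroup.card_mul_index ((Z : Subgroup H).subgroupOf J)]
      congr 1
      exact (Nat.card_congr (Subgroup.subgroupOfEquivOfLe hZJ).toEquiv).symm
    have e2 : Nat.card L * L.relIndex J = Nat.card J := by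
      rw [← Subgroup.card_mul_index (L.subgroupOf J)]
      congr 1
      exact (Nat.card_congr (Subgroup.subgroupOfEquivOfLe hLJ).toEquiv).symm
    have e3 : L.relIndex J = L.relIndex (Z : Subgroup H) := Subgroup.relIndex_sup_left _ _
    have e4 : L.relIndex (Z : Subgroup H) ∣ Nat.card (Z : Subgroup H) :=
      Subgroup.index_dvd_card _
    have e5 : Nat.card (Z : Subgroup H) * (Z : Subgroup H).relIndex J ∣
        Nat.card (Z : Subgroup H) * Nat.card L := by
      rw [e1, ← e2, e3, mul_comm]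
      exact mul_dvd_mul_right e4 _
    exact Nat.dvd_of_mul_dvd_mul_left Nat.card_pos e5
  obtain ⟨k, hk⟩ := IsPGroup.iff_card.1 hL
  have h5 : Nat.card (Sylow 5 J) ∣ 7 ^ k := by
    rw [← hk]
    exact h3.trans h4
  obtain ⟨j, -, hj⟩ := (Nat.dvd_prime_pow (by norm_num : Nat.Prime 7)).1 h5
  have h6 : Nat.card (Sylow 5 J) = 1 := by
    rcases j with _ | _ | j
    · rw [hj, pow_zero]
    · rw [hj] at h2
      exact absurd h2 (by decide)
    · exfalso
      rw [hj, pow_succ, pow_succ] at h1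
      have : 1 ≤ 7 ^ j := Nat.one_le_pow _ _ (by norm_num)
      omega
  have hsub : Subsingleton (Sylow 5 J) := (Nat.card_eq_one_iff_unique.1 h6).1
  have hnorm : ((Z.subtype hZJ : Sylow 5 J) : Subgroup J).Normal := Sylow.normal_of_subsingleton _
  rw [Sylow.coe_subtype] at hnorm
  -- trivial intersection
  have hdisj : ∀ y ∈ L, y ∈ (Z : Subgroup H) → y = 1 := by
    intro y hy hyZ
    obtain ⟨a, ha⟩ := hL ⟨y, hy⟩
    obtain ⟨b, hb⟩ := Z.isPGroup' ⟨y, hyZ⟩
    have ha' : y ^ 7 ^ a = 1 := congrArg Subtype.val ha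
    have hb' : y ^ 5 ^ b = 1 := congrArg Subtype.val hb
    have h7 := Nat.dvd_gcd (orderOf_dvd_of_pow_eq_one ha') (orderOf_dvd_of_pow_eq_one hb')
    have h8 : Nat.gcd (7 ^ a) (5 ^ b) = 1 := Nat.Coprime.pow a b (by norm_num)
    rw [h8, Nat.dvd_one, orderOf_eq_one_iff] at h7
    exact h7
  intro l hl z hz
  have h7 : l * z * l⁻¹ ∈ (Z : Subgroup H) := by
    have := hnorm.conj_mem ⟨z, hZJ hz⟩ hz ⟨l, hLJ hl⟩
    exact this
  have h8 : l * z * l⁻¹ * z⁻¹ = 1 := by
    apply hdisj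
    · have h9 : l * z * l⁻¹ * z⁻¹ = l * (z * l⁻¹ * z⁻¹) := by group
      rw [h9]
      exact L.mul_mem hl (hLn.conj_mem _ (L.inv_mem hl) z)
    · exact (Z : Subgroup H).mul_mem h7 ((Z : Subgroup H).inv_mem hz)
  have h9 : l * z = (l * z * l⁻¹ * z⁻¹) * (z * l) := by group
  rw [h9, h8, one_mul]

/-- A 7-group acts trivially on an invariant set of at most 6 elements. -/
theorem fixed_of_card [Finite H] [Finite V] (L : Subgroup H) (hL : IsPGroup 7 L) (W : AddSubgroup V)
    (hW : ∀ l ∈ L, ∀ w ∈ W, l • w ∈ W) (hcard : Nat.card W ≤ 6) :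
    ∀ l ∈ L, ∀ w ∈ W, l • w = w := by
  intro l hl w hw
  have hp7 : Fact (Nat.Prime 7) := ⟨by norm_num⟩
  obtain ⟨k, hk⟩ := IsPGroup.iff_card.1 hL
  have h1 : Nat.card (MulAction.orbit L w) ∣ 7 ^ k := by
    rw [← hk, Nat.card_coe_set_eq, ← MulAction.index_stabilizer]
    exact Subgroup.index_dvd_card _
  have h2 : Nat.card (MulAction.orbit L w) ≤ 6 := by
    refine le_trans ?_ hcard
    refine Nat.card_le_card_of_injective (fun x : MulAction.orbit L w => (⟨(x : V), ?_⟩ : W)) ?_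
    · obtain ⟨y, hy⟩ := x.2
      rw [← hy]
      exact hW y y.2 w hw
    · intro a b hab
      exact Subtype.ext (congrArg (fun z : W => (z : V)) hab)
  obtain ⟨j, -, hj⟩ := (Nat.dvd_prime_pow (by norm_num : Nat.Prime 7)).1 h1
  rcases j with _ | j
  · rw [pow_zero] at hj
    have h3 : Subsingleton (MulAction.orbit L w) := (Nat.card_eq_one_iff_unique.1 hj).1
    have h4 : (⟨l • w, ⟨⟨l, hl⟩, rfl⟩⟩ : MulAction.orbit L w) = ⟨w, MulAction.mem_orbit_self w⟩ :=
      Subsingleton.elim _ _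
    exact congrArg Subtype.val h4
  · exfalso
    rw [hj, pow_succ] at h2
    have : 1 ≤ 7 ^ j := Nat.one_le_pow _ _ (by norm_num)
    omega

theorem not_two_six [Finite H] [Finite V] (hsol : Group.IsSolvable H) {s : ℕ}
    (hV : Nat.card V = 2 ^ 6) (hirr : Irr H V) (hf : ∀ h : H, (∀ v : V, h • v = v) → h = 1)
    (hs : s.Prime) (hs2 : s ≠ 2) (hu : UF s H (⊥ : AddSubgroup V)) (Z : Sylow s H)
    (hZ : ¬ Triv V (Z : Subgroup H)) : False := by
  have hsf : Fact s.Prime := ⟨hs⟩
  have hnt : Nontrivial V := by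
    rw [← Finite.one_lt_card_iff_nontrivial, hV]
    norm_num
  have hN1 := hu.card_ne_one hZ
  obtain ⟨m, hm0, hm6, hfix, hN⟩ := hu.params Nat.prime_two hV (by norm_num) Z hN1
  have hmod : Nat.card (Sylow s H) ≡ 1 [MOD s] := card_sylow_modEq_one s H
  have hpos : 0 < Nat.card (Sylow s H) := Nat.card_pos
  have h3 : s ∣ Nat.card (Sylow s H) - 1 := (Nat.modEq_iff_dvd' hpos).1 hmod.symm
  have hNd : Nat.card (Sylow s H) ∣ Nat.card H :=
    (Sylow.card_dvd_index Z).trans (Subgroup.index_dvd_card _)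
  have hsH : s ∣ Nat.card H := by
    by_contra h
    have h1 : Nat.card (Z : Subgroup H) = 1 := by
      rw [Z.card_eq_multiplicity, Nat.factorization_eq_zero_of_not_dvd h, pow_zero]
    have h2 : (Z : Subgroup H) = ⊥ := Subgroup.card_eq_one.1 h1
    apply hZ
    intro z hz w
    rw [h2, Subgroup.mem_bot] at hz
    rw [hz, one_smul]
  have hcs : Cfsg.pCore s H = ⊥ := hu.pCore_eq_bot hf
  have key : ∀ q, q.Prime → s ∣ q → s = q := fun q hq h => (Nat.prime_dvd_prime_iff_eq hs hq).1 h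
  have hc : m = 1 ∨ m = 2 ∨ m = 3 ∨ m = 4 ∨ m = 5 := by omega
  rcases hc with rfl | rfl | rfl | rfl | rfl
  · have h4 : Nat.card (Sylow s H) = 63 := by omega
    rw [h4] at h3
    have h5 : s ∣ 2 * 31 := by norm_num at h3 ⊢; exact h3
    rcases hs.dvd_mul.1 h5 with h | h
    · exact hs2 (key 2 (by norm_num) h)
    · have h31 := key 31 (by norm_num) h
      subst h31
      exact pCore_ne_bot hsol hV hirr hf hs (by norm_num) hsH hcs
  · have h4 : Nat.card (Sylow s H) = 21 := by omega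
    have h5 : s ∣ 2 * (2 * 5) := by rw [h4] at h3; norm_num at h3 ⊢; exact h3
    have hs5 : s = 5 := by
      rcases hs.dvd_mul.1 h5 with h | h
      · exact absurd (key 2 (by norm_num) h) hs2
      rcases hs.dvd_mul.1 h with h | h
      · exact absurd (key 2 (by norm_num) h) hs2
      · exact key 5 (by norm_num) h
    subst hs5
    have h7 : 7 ∣ Nat.card H := by
      rw [h4] at hNd
      exact (by norm_num : 7 ∣ 21).trans hNd
    have h7p : Nat.Prime 7 := by norm_num
    have h7f : Fact (Nat.Prime 7) := ⟨h7p⟩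
    have hLne := pCore_ne_bot hsol hV hirr hf h7p (by norm_num) h7
    have hLn : (Cfsg.pCore 7 H).Normal := Cfsg.Agent.Lib.Cores.pCore_normal 7
    have hLp : IsPGroup 7 (Cfsg.pCore 7 H) := Cfsg.Agent.Lib.Cores.pCore_isPGroup 7
    have hcomm := commute_of_card (Cfsg.pCore 7 H) hLn hLp Z h4.le
    have hfx := fixed_of_card (Cfsg.pCore 7 H) hLp (fixed V (Z : Subgroup H))
      (fun l hl w hw z hz => by
        rw [← mul_smul, ← hcomm l hl z hz, mul_smul, hw z hz]) (by rw [hfix]; norm_num)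
    have hne : fixed V (Cfsg.pCore 7 H) ≠ ⊥ := by
      intro hbot
      have h8 : 1 < Nat.card (fixed V (Z : Subgroup H)) := by rw [hfix]; norm_num
      have : Nontrivial (fixed V (Z : Subgroup H)) := Finite.one_lt_card_iff_nontrivial.1 h8
      obtain ⟨w, hw⟩ := exists_ne (0 : fixed V (Z : Subgroup H))
      have h9 : (w : V) ∈ fixed V (Cfsg.pCore 7 H) := fun l hl => hfx l hl w w.2
      rw [hbot, AddSubgroup.mem_bot] at h9
      exact hw (Subtype.ext h9)
    have htop := (hirr (fixed V (Cfsg.pCore 7 H)) (inv_fixed _ hLn)).resolve_left hne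
    apply hLne
    rw [eq_bot_iff]
    intro l hl
    rw [Subgroup.mem_bot]
    apply hf
    intro w
    have h9 : w ∈ fixed V (Cfsg.pCore 7 H) := by rw [htop]; exact AddSubgroup.mem_top _
    exact h9 l hl
  · have h4 : Nat.card (Sylow s H) = 9 := by omega
    rw [h4] at h3
    have h5 : s ∣ 2 ^ 3 := by norm_num at h3 ⊢; exact h3
    exact hs2 (key 2 (by norm_num) (hs.dvd_of_dvd_pow h5))
  · omega
  · omega

end Cfsg.Agent.H184.TwoSix
end

-- part: H670/Palfy/SL
section
/-!
# The structure theorem (helper670, with helper993 and helper184)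
-/

set_option autoImplicit false

namespace Cfsg.Agent.H670.Palfy

universe u v

theorem factSLF : FactSLF.{u, v} := by
  intro H V _ _ _ _ _ p n s hsol hp hn hV hirr hf hs hsp hu hZ
  obtain ⟨Z, hZ⟩ := hZ
  by_cases h6 : p = 2 ∧ n = 6
  · obtain ⟨rfl, rfl⟩ := h6
    exact (H184.TwoSix.not_two_six hsol hV hirr hf hs hsp hu Z hZ).elim
  · exact generic hsol hp hn hV hirr hf hs hsp hu Z hZ h6

/-- **The structure theorem.** -/
theorem factSL : FactSL.{u, v} := H993.SLFaith.factSL_of_faithful factSLF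

end Cfsg.Agent.H670.Palfy
end
end

-- part: H377/DegSolv/Two
section
prune_inst 0x80000000000000c010000
set_option linter.all false
open scoped Cfsg.Agent.FastGrp

/-!
# Degree graphs of solvable groups: `2 K_n` does not occur (helper377, plan of helper670)

`noTwo` : the primes dividing the degrees of a finite solvable group are not the disjoint union of two sets `A`, `B` with
`|A| = |B| ≥ 2` and no degree divisible by an element of `A` and an element of `B`.
-/

set_option autoImplicit false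
set_option linter.unusedSectionVars false
set_option linter.style.haveILetI false

namespace Cfsg.Agent.H377.DegSolv

open Cfsg.Agent.H670.Palfy Subgroup

universe u v

/-! ### General facts -/

theorem exists_minN {G : Type u} [Group G] [Finite G] [Nontrivial G] : ∃ M : Subgroup G, MinN M := by
  obtain ⟨M, hM⟩ := (Set.toFinite {N : Subgroup G | N.Normal ∧ N ≠ ⊥}).exists_minimal
    ⟨⊤, inferInstance, top_ne_bot⟩
  refine ⟨M, hM.prop.2, hM.prop.1, fun N hN hle => ?_⟩
  by_cases h : N = ⊥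
  · exact Or.inl h
  · exact Or.inr (le_antisymm hle (hM.le_of_le ⟨hN, h⟩ hle))

theorem rho_of_quot {G : Type u} [Group G] {M : Subgroup G} [M.Normal] {p : ℕ} (h : Rho p (G ⧸ M)) : Rho p G := by
  obtain ⟨e, he, hd⟩ := h
  exact ⟨e, H681.DegBasic.charDegrees_comp (QuotientGroup.mk' M) (QuotientGroup.mk'_surjective M) he, hd⟩

theorem na_quot {G : Type u} [Group G] {M : Subgroup G} [M.Normal] {a b : ℕ} (h : NA a b G) : NA a b (G ⧸ M) :=
  fun e he => h e (H681.DegBasic.charDegrees_comp (QuotientGroup.mk' M) (QuotientGroup.mk'_surjective M) he)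

theorem na_symm {G : Type u} [Group G] {a b : ℕ} (h : NA a b G) : NA b a G := fun e he h1 h2 => h e he h2 h1

theorem nontrivial_of_card {V : Type v} [AddCommGroup V] {p n : ℕ} (hp : p.Prime) (hn : 0 < n)
    (hV : Nat.card V = p ^ n) : Nontrivial V := by
  have h1 : 1 < Nat.card V := by rw [hV]; exact Nat.one_lt_pow hn.ne' hp.one_lt
  haveI : Finite V := Nat.finite_of_card_ne_zero (by omega)
  exact Finite.one_lt_card_iff_nontrivial.1 h1

/-- a prime whose Sylow subgroups lie in the kernel does not divide its index -/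
theorem not_dvd_index {H : Type u} {V : Type v} [Group H] [AddCommGroup V] [DistribMulAction H V] [Finite H]
    {t : ℕ} [ht : Fact t.Prime] (Q : Sylow t H) (hQ : Triv V (Q : Subgroup H)) : ¬ t ∣ (Ker H V).index := by
  have h1 : (Q : Subgroup H) ≤ Ker H V := fun x hx v => hQ x hx v
  intro h
  exact Q.not_dvd_index (h.trans (Subgroup.index_dvd_of_le h1))

/-- The counting argument. -/
theorem core (hSL : FactSL.{u, v}) (hN : FactNum) {H : Type u} {V : Type v} [Group H] [AddCommGroup V]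
    [DistribMulAction H V] [Finite H] [Finite V] (hH : Group.IsSolvable H) {l n p : ℕ} (hl : l.Prime) (hn : 0 < n)
    (hV : Nat.card V = l ^ n) (hirr : Irr H V) {D : Set ℕ} (hc : Cfg D H V p) {A B : Finset ℕ} (hB : 2 ≤ B.card)
    (hAB : A.card ≤ B.card) (hpr : ∀ b ∈ B, b.Prime)
    (hD : ∀ e ∈ D, p ∣ e → ∀ t, t.Prime → t ∣ e → t ∈ A)
    (huf : ∀ b ∈ B, UF b H (⊥ : AddSubgroup V)) (hnt : ∀ b ∈ B, ∀ Z : Sylow b H, ¬ Triv V (Z : Subgroup H)) :
    False := by
  classical
  obtain ⟨b, hb, hbl⟩ := Finset.exists_mem_ne (show 1 < B.card by omega) l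
  haveI : Fact b.Prime := ⟨hpr b hb⟩
  obtain ⟨Z⟩ : Nonempty (Sylow b H) := inferInstance
  obtain ⟨C, hC⟩ := hSL H V l n b hH hl hn hV hirr (hpr b hb) hbl (huf b hb) ⟨Z, hnt b hb Z⟩
  have h1 : ∀ z ∈ B, ∃ k m : ℕ, z ∣ C.index ∧ 0 < k ∧ n = m * z ^ k ∧ (l ^ n - 1) / (l ^ m - 1) ≡ 1 [MOD z] ∧
      (l ^ n - 1) / (l ^ m - 1) ∣ (Ker H V).relIndex C := by
    intro z hz
    haveI : Fact z.Prime := ⟨hpr z hz⟩
    obtain ⟨Q⟩ : Nonempty (Sylow z H) := inferInstance
    obtain ⟨h2, -, k, m, h3, h4, -, h5, h6⟩ := hC.uf z (hpr z hz) (huf z hz) Q (hnt z hz Q)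
    exact ⟨k, m, h2, h3, h4, h5, h6⟩
  choose! k m hkm using h1
  have h2 := hN l n B B m k hl hn (Finset.Subset.refl _) hB
    (fun w hw => ⟨hpr w hw, (hkm w hw).1.trans hC.dvd⟩)
    (fun z hz => ⟨(hkm z hz).2.1, (hkm z hz).2.2.1, (hkm z hz).2.2.2.1⟩)
  haveI := nontrivial_of_card hl hn hV
  obtain ⟨v, hv⟩ := exists_ne (0 : V)
  obtain ⟨e, he, hde, hpe⟩ := hc v hv 1 H681.DegBasic.one_mem
  rw [mul_one] at hde
  have h3 : (∏ z ∈ B, (l ^ n - 1) / (l ^ m z - 1)).primeFactors ⊆ A := by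
    intro t ht
    have htp := Nat.prime_of_mem_primeFactors ht
    obtain ⟨z, hz, hd⟩ := (Prime.dvd_finsetProd_iff htp.prime _).1 (Nat.dvd_of_mem_primeFactors ht)
    exact hD e he hpe t htp ((hd.trans ((hkm z hz).2.2.2.2.trans (hC.stab v hv))).trans hde)
  have h4 := Finset.card_le_card h3
  omega

section T2

variable {G : Type u} [Group G] [Finite G] {M P : Subgroup G} [M.Normal] [P.Normal] {H : Subgroup G} {p : ℕ}

theorem finite_V (hp : p.Prime) (h : T2 G M P H p) : Finite (LC M) := by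
  obtain ⟨n, -, hn⟩ := h.card
  exact Nat.finite_of_card_ne_zero (by rw [hn]; exact (Nat.pow_pos hp.pos).ne')

theorem finite_W (hp : p.Prime) (h : T2 G M P H p) : Finite (LC P) := by
  obtain ⟨n, hn⟩ := h.cardW
  exact Nat.finite_of_card_ne_zero (by rw [hn]; exact (Nat.pow_pos hp.pos).ne')

theorem coprime_card (hp : p.Prime) (h : T2 G M P H p) {y : ℕ} [hy : Fact y.Prime] (hyp : y ≠ p) (Y : Sylow y H) :
    (Nat.card (Y : Subgroup H)).Coprime (Nat.card (LC P)) := by
  obtain ⟨m, hm⟩ := h.cardW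
  obtain ⟨k, hk⟩ := IsPGroup.iff_card.1 Y.isPGroup'
  rw [hm, hk]
  exact Nat.Coprime.pow _ _ ((Nat.coprime_primes hy.out hp).2 hyp)

/-- The module `[W, Y]`. -/
abbrev SW (P : Subgroup G) [P.Normal] {y : ℕ} (Y : Sylow y H) (hY : (Y : Subgroup H).Normal) : Type u :=
  Sub (H := H) (inv_com (V := LC P) (Y : Subgroup H) hY)

/-- Fact (B). -/
theorem factB (hSL : FactSL.{u, u}) (hG : Group.IsSolvable G) (hp : p.Prime) (h : T2 G M P H p) {y z : ℕ}
    [hy : Fact y.Prime] [hz : Fact z.Prime] (hyp : y ≠ p) (hzp : z ≠ p) (hna : NA y z G)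
    (hrz : Rho z G) (Y : Sylow y H) (hY : (Y : Subgroup H).Normal) (hYW : ¬ Triv (LC P) (Y : Subgroup H)) :
    ∃ (n : ℕ) (C : Subgroup H), 0 < n ∧ Nat.card (com (LC P) (Y : Subgroup H)) = p ^ n ∧
      SLD H (SW P Y hY) C p n ∧ UF z H (⊥ : AddSubgroup (SW P Y hY)) ∧
      (∀ Z : Sylow z H, ¬ Triv (SW P Y hY) (Z : Subgroup H)) ∧
      (∀ Z : Sylow z H, ∀ x ∈ (Z : Subgroup H), ∀ v ∈ fixed (LC P) (Y : Subgroup H), x • v = v) ∧
      (∀ Z : Sylow z H, ∀ a ∈ (Z : Subgroup H), ∀ b ∈ (Z : Subgroup H), a * b = b * a) ∧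
      C.index ∈ Cfsg.charDegrees G := by
  have hfW := finite_W hp h
  have hH : Group.IsSolvable H := inferInstance
  have hcop := coprime_card hp h hyp Y
  have hI := inv_com (V := LC P) (Y : Subgroup H) hY
  have hne : com (LC P) (Y : Subgroup H) ≠ ⊥ := fun h1 => hYW (com_eq_bot_iff.1 h1)
  have hinf := fixed_inf_com (V := LC P) (Y : Subgroup H) hcop
  obtain ⟨huf, hcomm⟩ := uf_of_cfg_fixed (z := z) hH h.cfgW (fun e he _ h1 h2 => hna e he h1 h2) Y hY
  have hntop : ∃ v : LC P, v ∉ fixed (LC P) (Y : Subgroup H) := by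
    by_contra hcon
    push Not at hcon
    exact hYW fun x hx v => hcon v x hx
  have hfix : ∀ Z : Sylow z H, ∀ x ∈ (Z : Subgroup H), ∀ v ∈ fixed (LC P) (Y : Subgroup H), x • v = v := fun Z =>
    huf.triv_of_compl (inv_fixed _ hY) hI hinf hne Z
  have hnt : ∀ Z : Sylow z H, ¬ Triv (SW P Y hY) (Z : Subgroup H) := by
    intro Z hZ
    rw [Sub.triv_iff] at hZ
    have hW : Triv (LC P) (Z : Subgroup H) := by
      intro x hx v
      obtain ⟨a, ha, b, hb, rfl⟩ := com_sup_fixed (V := LC P) (Y : Subgroup H) hcop v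
      rw [smul_add, hZ x hx a ha, hfix Z x hx b hb]
    have hN := huf.normal_of_triv (fun h1 => by
      obtain ⟨v, hv⟩ := hntop
      exact hv (h1 ▸ AddSubgroup.mem_top v)) hW
    exact h.nt z hz.out hzp hrz Z hN (hcomm hntop Z) hW
  have huf' : UF z H (⊥ : AddSubgroup (SW P Y hY)) := huf.sub hI hinf
  obtain ⟨N, hN⟩ := h.cardW
  obtain ⟨n, hn, hcard⟩ := exists_card_fixed hp hN (com (LC P) (Y : Subgroup H))
  have hn0 : 0 < n := by
    rcases Nat.eq_zero_or_pos n with h0 | h0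
    · rw [h0, pow_zero, AddSubgroup.card_eq_one] at hcard
      exact absurd hcard hne
    · exact h0
  obtain ⟨Z⟩ : Nonempty (Sylow z H) := inferInstance
  have hcard' : Nat.card (SW P Y hY) = p ^ n := hcard
  obtain ⟨C, hC⟩ := hSL H (SW P Y hY) p n z hH hp hn0 hcard' (huf'.irr hp hcard' (hnt Z)) hz.out hzp huf'
    ⟨Z, hnt Z⟩
  exact ⟨n, C, hn0, hcard, hC, huf', hnt, hfix, hcomm hntop, h.cd hC.deg⟩

/-- Fact (D): `y` and `|C : K|` divide a degree. -/
theorem factD (hp : p.Prime) (h : T2 G M P H p) {y : ℕ} [hy : Fact y.Prime] (Y : Sylow y H)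
    (hY : (Y : Subgroup H).Normal) {n : ℕ} {C : Subgroup H} (hyp : y ≠ p) (hn : 0 < n)
    (hC : SLD H (SW P Y hY) C p n) :
    ∃ e ∈ Cfsg.charDegrees G, y ∣ e ∧ (Ker H (SW P Y hY)).relIndex C ∣ e := by
  have hfW := finite_W hp h
  haveI := nontrivial_of_card hp hn hC.card
  obtain ⟨v, hv⟩ := exists_ne (0 : SW P Y hY)
  have hv0 : v.val ≠ 0 := fun h0 => hv (Sub.ext h0)
  obtain ⟨e, he, hde, -⟩ := h.cfgW v.val hv0 1 H681.DegBasic.one_mem
  rw [mul_one] at hde
  have hst : MulAction.stabilizer H v = MulAction.stabilizer H v.val := by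
    ext x
    rw [MulAction.mem_stabilizer_iff, MulAction.mem_stabilizer_iff]
    exact Sub.smul_eq_iff x v
  refine ⟨e, he, ?_, ?_⟩
  · refine Dvd.dvd.trans ?_ hde
    by_contra hcon
    have h1 : v.val ∈ com (LC P) (Y : Subgroup H) ⊓ fixed (LC P) (Y : Subgroup H) :=
      ⟨v.mem, le_of_not_dvd Y hY _ hcon⟩
    rw [fixed_inf_com (V := LC P) (Y : Subgroup H) (coprime_card hp h hyp Y)] at h1
    exact hv0 h1
  · have h1 := hC.stab v hv
    rw [hst] at h1
    exact h1.trans hde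

/-- The form argument: `|H : K(V)|` and `|C : K|` are not coprime. -/
theorem no_coprime (hp : p.Prime) (h : T2 G M P H p) {y s : ℕ} [hy : Fact y.Prime] [hs : Fact s.Prime] (hyp : y ≠ p)
    (hsp : s ≠ p) (hna : NA p y G) (Y : Sylow y H) (hY : (Y : Subgroup H).Normal)
    (hYV : Triv (LC M) (Y : Subgroup H)) (hYW : ¬ Triv (LC P) (Y : Subgroup H)) {n : ℕ} {C : Subgroup H} (hn : 0 < n)
    (hC : SLD H (SW P Y hY) C p n) (huf : UF s H (⊥ : AddSubgroup (SW P Y hY))) (S : Sylow s H)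
    (hS : ¬ Triv (SW P Y hY) (S : Subgroup H))
    (hcop : (Ker H (LC M)).index.Coprime ((Ker H (SW P Y hY)).relIndex C)) : False := by
  classical
  have hfW := finite_W hp h
  set K := Ker H (SW P Y hY) with hK
  set c := K.relIndex C with hc
  set d := (Ker H (LC M)).index with hd
  obtain ⟨g, hgC, hgen, hgirr⟩ := hC.gen
  have hd0 : 0 < d := Nat.pos_of_ne_zero Subgroup.index_ne_zero_of_finite
  have hc0 : 0 < c := Nat.pos_of_ne_zero Subgroup.index_ne_zero_of_finite
  -- `a = 0` modulo `d`, `a = 1` modulo `c`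
  obtain ⟨j, hj⟩ : ∃ j, d ∣ 1 + c * j := by
    obtain ⟨a, ha0, ha1⟩ := Nat.chineseRemainder hcop 0 1
    have hda : d ∣ a := (Nat.modEq_zero_iff_dvd).1 ha0
    have h1 : 1 ≤ a + c * d := le_trans (Nat.mul_pos hc0 hd0) (Nat.le_add_left _ _)
    have h2 : a + c * d ≡ 1 [MOD c] := by
      have := ha1.add (Nat.modEq_zero_iff_dvd.2 (Dvd.intro d rfl : c ∣ c * d))
      rwa [add_zero] at this
    obtain ⟨j, hj⟩ := (Nat.modEq_iff_dvd' h1).1 h2.symm
    refine ⟨j, ?_⟩
    have h3 : 1 + c * j = a + c * d := by omega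
    rw [h3]
    exact dvd_add hda (Dvd.intro_left c rfl)
  have hgc : g ^ c ∈ K := by
    haveI : K.Normal := instKerNormal
    haveI : (K.subgroupOf C).Normal := (inferInstance : K.Normal).subgroupOf C
    have h1 := Subgroup.pow_index_mem (K.subgroupOf C) (⟨g, hgC⟩ : C)
    exact h1
  set x : H := (g ^ c) ^ j with hx
  have hxK : x ∈ K := K.pow_mem hgc j
  set g' : H := g ^ (1 + c * j) with hg'
  have hgx : g' = g * x := by rw [hg', hx, pow_add, pow_one, pow_mul]
  have hcomm : Commute g x := ((Commute.refl g).pow_right c).pow_right j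
  have hg'C : g' ∈ C := C.pow_mem hgC _
  have hg'V : ∀ v : LC M, g' • v = v := by
    obtain ⟨k, hk⟩ := hj
    have h1 : g' ∈ Ker H (LC M) := by
      rw [hg', hk, pow_mul]
      exact (Ker H (LC M)).pow_mem (Subgroup.pow_index_mem _ g) k
    exact h1
  have hsm : ∀ w : SW P Y hY, g' • w = g • w := by
    intro w
    rw [hgx, mul_smul, (mem_Ker.1 hxK) w]
  have hgen' : ∀ c ∈ C, ∃ k : ℕ, c * (g' ^ k)⁻¹ ∈ K := by
    intro c0 hc0
    obtain ⟨k, hk⟩ := hgen c0 hc0
    refine ⟨k, ?_⟩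
    have h1 : c0 * (g' ^ k)⁻¹ = (c0 * (g ^ k)⁻¹) * (x ^ k)⁻¹ := by
      rw [hgx, hcomm.mul_pow, (hcomm.pow_pow k k).eq, mul_inv_rev, mul_assoc]
    rw [h1]
    exact K.mul_mem hk (K.inv_mem (K.pow_mem hxK k))
  have hirr' : ∀ Y0 : AddSubgroup (LC P), Y0 ≤ com (LC P) (Y : Subgroup H) → (∀ y ∈ Y0, g' • y ∈ Y0) →
      Y0 = ⊥ ∨ Y0 = com (LC P) (Y : Subgroup H) := by
    intro Y0 hle hinv
    let val : SW P Y hY →+ LC P := (com (LC P) (Y : Subgroup H)).subtype
    have hval : ∀ w : SW P Y hY, val w = w.val := fun _ => rfl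
    have h1 : ∀ w ∈ Y0.comap val, g • w ∈ Y0.comap val := by
      intro w hw
      rw [AddSubgroup.mem_comap, hval] at hw ⊢
      rw [← hsm w]
      exact hinv _ hw
    rcases hgirr (Y0.comap val) h1 with h2 | h2
    · left
      rw [eq_bot_iff]
      intro w hw
      have h3 : H670.Palfy.Sub.mk (inv_com (V := LC P) (Y : Subgroup H) hY) w (hle hw) ∈ Y0.comap val := hw
      rw [h2, AddSubgroup.mem_bot] at h3
      exact AddSubgroup.mem_bot.2 (congrArg Sub.val h3)
    · right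
      refine le_antisymm hle fun w hw => ?_
      have h3 : H670.Palfy.Sub.mk (inv_com (V := LC P) (Y : Subgroup H) hY) w hw ∈ Y0.comap val := by
        rw [h2]; trivial
      exact h3
  obtain ⟨i, hi, hpow⟩ := h.pow_com y hy.out hyp hna Y hY hYV hYW n hC.card g' hg'V hirr'
  have hpow' : g' ^ (p ^ i + 1) ∈ K := by
    rw [hK, mem_Ker]
    intro w
    exact Sub.ext (hpow w.val w.mem)
  exact hC.no_pow hp hn hsp huf S hS hg'C hgen' hi hpow'

end T2

/-- The primes of the degrees are `A ∪ B`, no degree is divisible by an element of `A` and one of `B`. -/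
structure Two (G : Type u) [Group G] (A B : Finset ℕ) : Prop where
  card : A.card = B.card
  two : 2 ≤ A.card
  disj : Disjoint A B
  mem : ∀ p : ℕ, p ∈ A ∪ B ↔ p.Prime ∧ Rho p G
  na : ∀ a ∈ A, ∀ b ∈ B, NA a b G

theorem Two.symm {G : Type u} [Group G] {A B : Finset ℕ} (h : Two G A B) : Two G B A :=
  ⟨h.card.symm, h.card ▸ h.two, h.disj.symm, fun p => by rw [Finset.union_comm]; exact h.mem p,
    fun b hb a ha => na_symm (h.na a ha b hb)⟩

theorem Two.quot {G : Type u} [Group G] {A B : Finset ℕ} (h : Two G A B) {M : Subgroup G} [M.Normal]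
    (hM : ∀ p ∈ A ∪ B, Rho p (G ⧸ M)) : Two (G ⧸ M) A B :=
  ⟨h.card, h.two, h.disj, fun p => ⟨fun hp => ⟨((h.mem p).1 hp).1, hM p hp⟩,
    fun hp => (h.mem p).2 ⟨hp.1, rho_of_quot hp.2⟩⟩, fun a ha b hb => na_quot (h.na a ha b hb)⟩

section main

variable {G : Type u} [Group G] [Finite G] {A B : Finset ℕ}

theorem Two.primeA (h : Two G A B) {a : ℕ} (ha : a ∈ A) : a.Prime := ((h.mem a).1 (Finset.mem_union_left _ ha)).1

theorem Two.primeB (h : Two G A B) {b : ℕ} (hb : b ∈ B) : b.Prime := ((h.mem b).1 (Finset.mem_union_right _ hb)).1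

theorem Two.rhoA (h : Two G A B) {a : ℕ} (ha : a ∈ A) : Rho a G := ((h.mem a).1 (Finset.mem_union_left _ ha)).2

theorem Two.rhoB (h : Two G A B) {b : ℕ} (hb : b ∈ B) : Rho b G := ((h.mem b).1 (Finset.mem_union_right _ hb)).2

theorem Two.ne (h : Two G A B) {a b : ℕ} (ha : a ∈ A) (hb : b ∈ B) : a ≠ b :=
  fun hab => Finset.disjoint_left.1 h.disj ha (hab ▸ hb)

/-- the primes of a degree divisible by an element of `A` lie in `A` -/
theorem Two.mem_A (h : Two G A B) {a e t : ℕ} (ha : a ∈ A) (he : e ∈ Cfsg.charDegrees G) (hae : a ∣ e)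
    (ht : t.Prime) (hte : t ∣ e) : t ∈ A := by
  rcases Finset.mem_union.1 ((h.mem t).2 ⟨ht, e, he, hte⟩) with h1 | h1
  · exact h1
  · exact (h.na a ha t h1 e he hae hte).elim

theorem Two.mem_B (h : Two G A B) {b e t : ℕ} (hb : b ∈ B) (he : e ∈ Cfsg.charDegrees G) (hbe : b ∣ e)
    (ht : t.Prime) (hte : t ∣ e) : t ∈ B := by
  rcases Finset.mem_union.1 ((h.mem t).2 ⟨ht, e, he, hte⟩) with h1 | h1
  · exact (h.na t h1 b hb e he hte hbe).elim
  · exact h1

/-- the first configuration -/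
theorem two_one (hSL : FactSL.{u, u}) (hN : FactNum) (hG : Group.IsSolvable G) (h2 : Two G A B) {M : Subgroup G}
    [M.Normal] {H : Subgroup G} {p : ℕ} (hpA : p ∈ A) (h : T1 G M H p) : False := by
  obtain ⟨l, n, hl, hlp, hn, hV⟩ := h.card
  haveI : Finite (LC M) := Nat.finite_of_card_ne_zero (by rw [hV]; exact (Nat.pow_pos hl.pos).ne')
  have hVn := nontrivial_of_card hl hn hV
  have hH : Group.IsSolvable H := inferInstance
  have huf : ∀ b ∈ B, UF b H (⊥ : AddSubgroup (LC M)) := by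
    intro b hb
    haveI : Fact b.Prime := ⟨h2.primeB hb⟩
    exact uf_of_cfg hH h.cfg fun e he h3 h4 => h2.na p hpA b hb e he h3 h4
  refine core hSL hN hH hl hn hV h.irr h.cfg (A := A) (B := B) (h2.card ▸ h2.two) h2.card.le
    (fun b hb => h2.primeB hb) (fun e he hpe t ht hte => h2.mem_A hpA he hpe ht hte) huf ?_
  intro b hb Z hZ
  haveI : Fact b.Prime := ⟨h2.primeB hb⟩
  have hN := (huf b hb).normal_of_triv (by
    obtain ⟨v, hv⟩ := exists_ne (0 : LC M)
    intro h1
    exact hv ((h1 ▸ AddSubgroup.mem_top v : v ∈ (⊥ : AddSubgroup (LC M))))) hZ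
  exact h.nt b (h2.primeB hb) (h2.rhoB hb) Z hN
    (comm_of_cfg hH h.cfg (fun e he h3 h4 => h2.na p hpA b hb e he h3 h4) hVn Z) hZ

/-- the second configuration -/
theorem two_two (hSL : FactSL.{u, u}) (hN : FactNum) (hG : Group.IsSolvable G) (h2 : Two G A B) {M P : Subgroup G}
    [M.Normal] [P.Normal] {H : Subgroup G} {p : ℕ} (hpA : p ∈ A) (h : T2 G M P H p) : False := by
  have hp := h2.primeA hpA
  obtain ⟨n, hn, hV⟩ := h.card
  haveI := finite_V hp h
  haveI := finite_W hp h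
  have hVn := nontrivial_of_card hp hn hV
  have hH : Group.IsSolvable H := inferInstance
  have huf : ∀ b ∈ B, UF b H (⊥ : AddSubgroup (LC M)) := by
    intro b hb
    haveI : Fact b.Prime := ⟨h2.primeB hb⟩
    exact uf_of_cfg hH h.cfgV fun e he h3 h4 => h2.na p hpA b hb e he h3 h4
  have hbot : (⊥ : AddSubgroup (LC M)) ≠ ⊤ := by
    obtain ⟨v, hv⟩ := exists_ne (0 : LC M)
    intro h1
    exact hv ((h1 ▸ AddSubgroup.mem_top v : v ∈ (⊥ : AddSubgroup (LC M))))
  by_cases hall : ∀ b ∈ B, ∀ Z : Sylow b H, ¬ Triv (LC M) (Z : Subgroup H)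
  · exact core hSL hN hH hp hn hV h.irr h.cfgV (A := A) (B := B) (h2.card ▸ h2.two) h2.card.le
      (fun b hb => h2.primeB hb) (fun e he hpe t ht hte => h2.mem_A hpA he hpe ht hte) huf hall
  push Not at hall
  obtain ⟨r, hr, R, hRV⟩ := hall
  haveI hrp : Fact r.Prime := ⟨h2.primeB hr⟩
  have hrne : r ≠ p := (h2.ne hpA hr).symm
  have hR : (R : Subgroup H).Normal := (huf r hr).normal_of_triv hbot hRV
  have hRW : ¬ Triv (LC P) (R : Subgroup H) := h.nt r hrp.out hrne (h2.rhoB hr) R hR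
    (comm_of_cfg hH h.cfgV (fun e he h3 h4 => h2.na p hpA r hr e he h3 h4) hVn R)
  obtain ⟨q, hq, hqp⟩ := Finset.exists_mem_ne (show 1 < A.card from h2.two) p
  haveI hqq : Fact q.Prime := ⟨h2.primeA hq⟩
  obtain ⟨m, C, hm, hcard, hC, hufq, hntq, -, -, hCd⟩ := factB hSL hG hp h hrne hqp (na_symm (h2.na q hq r hr))
    (h2.rhoA hq) R hR hRW
  obtain ⟨Q⟩ : Nonempty (Sylow q H) := inferInstance
  have hqC : q ∣ C.index := (hC.uf q hqq.out hufq Q (hntq Q)).1
  have hKV : Ker H (SW P R hR) ≤ Ker H (LC M) := by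
    intro x hx
    refine h.ker_com r hrp.out hrne (h2.na p hpA r hr) R hR hRV hRW x fun w hw => ?_
    exact congrArg Sub.val (hx (H670.Palfy.Sub.mk (inv_com (V := LC P) (R : Subgroup H) hR) w hw))
  -- all elements of `B` are trivial on `V`
  have hBV : ∀ s ∈ B, ∀ S : Sylow s H, Triv (LC M) (S : Subgroup H) := by
    intro s hs S
    haveI : Fact s.Prime := ⟨h2.primeB hs⟩
    exact hC.triv (fun h3 => h2.na q hq s hs _ hCd hqC h3) hKV (huf s hs) S
  obtain ⟨e, he, hre, hce⟩ := factD hp h R hR hrne hm hC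
  refine no_coprime hp h hrne hqp (h2.na p hpA r hr) R hR hRV hRW hm hC hufq Q (hntq Q) ?_
  rw [Nat.coprime_comm]
  refine Nat.Coprime.symm (Nat.coprime_of_dvd fun t ht h3 h4 => ?_)
  have htB : t ∈ B := h2.mem_B hr he hre ht (h4.trans hce)
  haveI : Fact t.Prime := ⟨ht⟩
  obtain ⟨T⟩ : Nonempty (Sylow t H) := inferInstance
  exact not_dvd_index T (hBV t htB T) h3

end main

theorem noTwo_aux (hSL : FactSL.{u, u}) (hN : FactNum) (h1 : FactT1.{u}) (hpre : FactT2pre.{u}) (ha : FactT2a.{u})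
    (hb : FactT2b.{u}) (N : ℕ) : ∀ (G : Type u) [Group G] [Finite G], Nat.card G = N → Group.IsSolvable G →
    ∀ A B : Finset ℕ, Two G A B → False := by
  induction N using Nat.strong_induction_on with
  | _ N ih =>
    intro G _ _ hc hG A B h
    have hnt : Nontrivial G := by
      obtain ⟨a, ha⟩ : A.Nonempty := Finset.card_pos.1 (by have := h.two; omega)
      obtain ⟨e, he, hae⟩ := h.rhoA ha
      have h3 : 1 < Nat.card G := by
        have h4 := Nat.le_of_dvd (Nat.card_pos) (hae.trans (H681.DegBasic.dvd_card he))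
        exact lt_of_lt_of_le (h.primeA ha).one_lt h4
      exact Finite.one_lt_card_iff_nontrivial.1 h3
    obtain ⟨M, hM⟩ := exists_minN (G := G)
    haveI := hM.nrm
    have hlt : Nat.card (G ⧸ M) < N := by
      rw [← hc]
      have h3 := M.card_eq_card_quotient_mul_card_subgroup
      have h4 : 1 < Nat.card M := (Subgroup.one_lt_card_iff_ne_bot M).2 hM.ne
      rw [h3]
      exact lt_mul_of_one_lt_right Nat.card_pos h4
    have hGM : Group.IsSolvable (G ⧸ M) := inferInstance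
    have key : ∀ A B : Finset ℕ, Two G A B → ∀ p ∈ A, ¬ Rho p (G ⧸ M) → False := by
      intro A B h p hpA hp
      by_cases hPM : IsPGroup p M
      · obtain ⟨P, H, h3⟩ := hpre G hG M p (h.primeA hpA) hM (h.rhoA hpA) hp hPM
        haveI := h3.nrm
        exact two_two hSL hN hG h hpA (T2.of hG h3 ha hb)
      · obtain ⟨H, h3⟩ := h1 G hG M p (h.primeA hpA) hM (h.rhoA hpA) hp hPM
        exact two_one hSL hN hG h hpA h3
    by_cases hall : ∀ p ∈ A ∪ B, Rho p (G ⧸ M)
    · exact ih _ hlt (G ⧸ M) rfl hGM A B (h.quot hall)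
    · push Not at hall
      obtain ⟨p, hpAB, hp⟩ := hall
      rcases Finset.mem_union.1 hpAB with hpA | hpB
      · exact key A B h p hpA hp
      · exact key B A h.symm p hpB hp

/-- The statement. -/
def NoTwo : Prop := ∀ (G : Type u) [Group G] [Finite G], Group.IsSolvable G → ∀ A B : Finset ℕ, A.card = B.card →
  2 ≤ A.card → Disjoint A B → (∀ p : ℕ, p ∈ A ∪ B ↔ p.Prime ∧ Rho p G) → (∀ a ∈ A, ∀ b ∈ B, NA a b G) → False

/-- **`2 K_n` is not the degree graph of a solvable group.** -/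
theorem noTwo (hSL : FactSL.{u, u}) (hN : FactNum) (h1 : FactT1.{u}) (hpre : FactT2pre.{u}) (ha : FactT2a.{u})
    (hb : FactT2b.{u}) : NoTwo.{u} := fun G _ _ hG A B h3 h4 h5 h6 h7 =>
  noTwo_aux hSL hN h1 hpre ha hb _ G rfl hG A B ⟨h3, h4, h5, h6, h7⟩

end Cfsg.Agent.H377.DegSolv
end

-- part: H306/Penta/Glue_mg
section
prune_inst 0x2040404143c0020000180510000022f42700019200000001c0e40244078d820320018001f440001000108244003c8028100000400018000020008a0041180080842a64c29208310c240009c0e806110c0000000000000000000080000000000000c010000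
set_option linter.all false
open scoped Cfsg.Agent.FastGrp

-- part: H306/Penta/Glue
section
/-!
# The pentagon is not the degree graph of a solvable group: the assembly (helper306, plan of helper670)
-/

set_option autoImplicit false
set_option linter.style.haveILetI false

namespace Cfsg.Agent.H306.Penta

open Cfsg.Agent.H670.Palfy Cfsg.Agent.H377.DegSolv Subgroup

universe u

section

variable {G : Type u} [Group G] [Finite G]

omit [Finite G] in
/-- The pentagon in a quotient. -/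
theorem five_quot {p q s u r : ℕ} (h : Five p q s u r G) {M : Subgroup G} [M.Normal]
    (hM : ∀ t ∈ [p, q, s, u, r], Rho t (G ⧸ M)) : Five p q s u r (G ⧸ M) where
  hp := h.hp
  hq := h.hq
  hs := h.hs
  hu := h.hu
  hr := h.hr
  rp := hM p (by simp)
  rq := hM q (by simp)
  rs := hM s (by simp)
  ru := hM u (by simp)
  rr := hM r (by simp)
  pq := na_quot h.pq
  qs := na_quot h.qs
  su := na_quot h.su
  ur := na_quot h.ur
  rrp := na_quot h.rrp
  nd := h.nd

omit [Finite G] in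
/-- Rotate the pentagon such that a given vertex comes first. -/
theorem five_rot {p q s u r t : ℕ} (h : Five p q s u r G) (ht : t ∈ [p, q, s, u, r]) :
    ∃ a b c d : ℕ, Five t a b c d G ∧ ∀ x, x ∈ [t, a, b, c, d] ↔ x ∈ [p, q, s, u, r] := by
  simp only [List.mem_cons, List.not_mem_nil, or_false] at ht
  rcases ht with rfl | rfl | rfl | rfl | rfl
  · exact ⟨q, s, u, r, h, fun x => Iff.rfl⟩
  · exact ⟨s, u, r, p, h.rot, fun x => by simp only [List.mem_cons, List.not_mem_nil, or_false]; itauto⟩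
  · exact ⟨u, r, p, q, h.rot.rot, fun x => by simp only [List.mem_cons, List.not_mem_nil, or_false]; itauto⟩
  · exact ⟨r, p, q, s, h.rot.rot.rot, fun x => by simp only [List.mem_cons, List.not_mem_nil, or_false]; itauto⟩
  · exact ⟨p, q, s, u, h.rot.rot.rot.rot, fun x => by
      simp only [List.mem_cons, List.not_mem_nil, or_false]; itauto⟩

omit [Finite G] in
/-- A `p`-subgroup lies in each normal subgroup of index prime to `p`. -/
theorem le_of_pgroup {p : ℕ} [hp : Fact p.Prime] {P P1 : Subgroup G} [hn : P1.Normal] (hP : IsPGroup p P)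
    (hd : ¬ p ∣ P1.index) : P ≤ P1 := by
  intro x hx
  obtain ⟨k, hk⟩ := hP ⟨x, hx⟩
  have h1 : x ^ p ^ k = 1 := congrArg Subtype.val hk
  have h2 : ((x : G) : G ⧸ P1) ^ p ^ k = 1 := by
    rw [← QuotientGroup.mk_pow, h1, QuotientGroup.mk_one]
  have h3 : ((x : G) : G ⧸ P1) ^ P1.index = 1 := by
    rw [Subgroup.index]
    exact pow_card_eq_one'
  have h4 : orderOf ((x : G) : G ⧸ P1) ∣ Nat.gcd (p ^ k) P1.index :=
    Nat.dvd_gcd (orderOf_dvd_of_pow_eq_one h2) (orderOf_dvd_of_pow_eq_one h3)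
  have h5 : Nat.gcd (p ^ k) P1.index = 1 :=
    Nat.Coprime.pow_left k ((Nat.Prime.coprime_iff_not_dvd hp.out).2 hd)
  rw [h5, Nat.dvd_one, orderOf_eq_one_iff, QuotientGroup.eq_one_iff] at h4
  exact h4

theorem nontrivial_of_rho {p : ℕ} (hp : p.Prime) (h : Rho p G) : Nontrivial G := by
  obtain ⟨e, he, hae⟩ := h
  have h4 := Nat.le_of_dvd (Nat.card_pos) (hae.trans (H681.DegBasic.dvd_card he))
  exact Finite.one_lt_card_iff_nontrivial.1 (lt_of_lt_of_le hp.one_lt h4)

theorem card_quot_lt {M : Subgroup G} (hM : M ≠ ⊥) : Nat.card (G ⧸ M) < Nat.card G := by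
  have h4 : 1 < Nat.card M := (Subgroup.one_lt_card_iff_ne_bot M).2 hM
  rw [M.card_eq_card_quotient_mul_card_subgroup]
  exact lt_mul_of_one_lt_right Nat.card_pos h4

end

theorem noPenta_aux (h1 : Penta1.{u}) (h2a : Penta2a.{u}) (h2b : Penta2b.{u}) (h2c : Penta2c.{u})
    (f1 : FactT1.{u}) (hpre : FactT2pre.{u}) (ha : FactT2a.{u}) (hb : FactT2b.{u}) (N : ℕ) :
    ∀ (G : Type u) [Group G] [Finite G], Nat.card G = N → Group.IsSolvable G →
    ∀ p q s u r : ℕ, Five p q s u r G → (∀ t : ℕ, t.Prime → Rho t G → t ∈ [p, q, s, u, r]) → False := by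
  induction N using Nat.strong_induction_on with
  | _ N ih =>
    intro G _ _ hc hG p0 q0 s0 u0 r0 h0 hl0
    -- no proper quotient has the same vertices
    have hq : ∀ (M : Subgroup G) [M.Normal], M ≠ ⊥ → ∃ t ∈ [p0, q0, s0, u0, r0], ¬ Rho t (G ⧸ M) := by
      intro M _ hM
      by_contra hcon
      push Not at hcon
      have hlt : Nat.card (G ⧸ M) < N := hc ▸ card_quot_lt hM
      have hGM : Group.IsSolvable (G ⧸ M) := inferInstance
      exact ih _ hlt (G ⧸ M) rfl hGM p0 q0 s0 u0 r0 (five_quot h0 hcon)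
        fun t ht hr => hl0 t ht (rho_of_quot hr)
    have hnt : Nontrivial G := nontrivial_of_rho h0.hp h0.rp
    -- a minimal normal subgroup which is not a `p`-group
    have key1 : ∀ (M : Subgroup G), MinN M → ∀ p q s u r : ℕ, Five p q s u r G →
        ∀ [M.Normal], ¬ Rho p (G ⧸ M) → ¬ IsPGroup p M → False := by
      intro M hM p q s u r h _ hp hPM
      obtain ⟨H, h3⟩ := f1 G hG M p h.hp hM h.rp hp hPM
      exact h1 G hG M H p q s u r h h3
    have key : ∀ (M : Subgroup G), MinN M → ∀ p q s u r : ℕ, Five p q s u r G →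
        (∀ x, x ∈ [p, q, s, u, r] ↔ x ∈ [p0, q0, s0, u0, r0]) →
        ∀ [M.Normal], ¬ Rho p (G ⧸ M) → False := by
      intro M hM p q s u r h hl _ hp
      by_cases hPM : IsPGroup p M
      swap
      · exact key1 M hM p q s u r h hp hPM
      haveI hpf : Fact p.Prime := ⟨h.hp⟩
      haveI hqf : Fact q.Prime := ⟨h.hq⟩
      haveI hrf : Fact r.Prime := ⟨h.hr⟩
      obtain ⟨P, H, h3⟩ := hpre G hG M p h.hp hM h.rp hp hPM
      haveI := h3.nrm
      have hT := T2.of hG h3 ha hb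
      -- the additional hypothesis of case (a)
      have hex : ∀ M' : Subgroup G, MinN M' → M' ≤ P → M' ⊓ M = ⊥ → False := by
        intro M' hM' hle hinf
        haveI := hM'.nrm
        obtain ⟨t, ht, htr⟩ := hq M' hM'.ne
        have hpM' : IsPGroup p M' := h3.isP.to_le hle
        by_cases htp : t = p
        · subst htp
          obtain ⟨P1, H1, h4⟩ := hpre G hG M' t h.hp hM' h.rp htr hpM'
          haveI := h4.nrm
          have e1 : P = P1 := by
            refine le_antisymm (le_of_pgroup h3.isP ?_) (le_of_pgroup h4.isP ?_)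
            · rw [h4.compl.symm.index_eq_card]; exact h4.ndvd
            · rw [h3.compl.symm.index_eq_card]; exact h3.ndvd
          have e2 : M' = M := by rw [← h4.comm, ← h3.comm, e1]
          rw [e2, inf_idem] at hinf
          exact hM.ne hinf
        · obtain ⟨a, b, c, d, h5, -⟩ := five_rot h0 ht
          haveI htf : Fact t.Prime := ⟨h5.hp⟩
          refine key1 M' hM' t a b c d h5 htr fun h6 => ?_
          have h7 := IsPGroup.disjoint_of_ne t p htp M' M' h6 hpM'
          exact hM'.ne (disjoint_self.1 h7)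
      by_cases hQ : ∀ Q : Sylow q H, ¬ Triv (LC M) (Q : Subgroup H)
      · by_cases hR : ∀ R : Sylow r H, ¬ Triv (LC M) (R : Subgroup H)
        · exact h2a G hG M P H p q s u r h hT hex hQ hR
        · push Not at hR
          obtain ⟨R0, hR0⟩ := hR
          exact h2b G hG M P H p r u s q h.symm hT (fun R => triv_conj hR0 R) hQ
      · push Not at hQ
        obtain ⟨Q0, hQ0⟩ := hQ
        by_cases hR : ∀ R : Sylow r H, ¬ Triv (LC M) (R : Subgroup H)
        · exact h2b G hG M P H p q s u r h hT (fun Q => triv_conj hQ0 Q) hR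
        · push Not at hR
          obtain ⟨R0, hR0⟩ := hR
          exact h2c G hG M P H p q s u r h hT (fun Q => triv_conj hQ0 Q) (fun R => triv_conj hR0 R)
    obtain ⟨M, hM⟩ := exists_minN (G := G)
    haveI := hM.nrm
    obtain ⟨t, ht, htr⟩ := hq M hM.ne
    obtain ⟨a, b, c, d, h5, h6⟩ := five_rot h0 ht
    exact key M hM t a b c d h5 h6 htr

/-- **The pentagon is not the degree graph of a solvable group**, from the four cases. -/
theorem noPenta_of (h1 : Penta1.{u}) (h2a : Penta2a.{u}) (h2b : Penta2b.{u}) (h2c : Penta2c.{u})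
    (f1 : FactT1.{u}) (hpre : FactT2pre.{u}) (ha : FactT2a.{u}) (hb : FactT2b.{u}) : NoPenta.{u} :=
  fun G _ _ hG p q s u r h hl => noPenta_aux h1 h2a h2b h2c f1 hpre ha hb _ G rfl hG p q s u r h hl

end Cfsg.Agent.H306.Penta
end

-- part: H559/CoreA
section
/-!
# Core A (helper670's plan, DEGSOLV 7) (helper559)

`H` acts on `V` with `SLD H V C p n`, every nonzero vector is fixed by exactly one Sylow `r`-subgroup.  If `ν` is an
irreducible character of the kernel `K` such that `r` divides neither the degrees of the irreducible characters of `H` over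
`ν` nor `|H : H_v| ψ(1)` for `v ≠ 0`, `ψ ∈ Irr (H_v | ν)`, then the Sylow `r`-subgroups of `H` act trivially on `V`.
-/

set_option autoImplicit false
set_option linter.style.haveILetI false
set_option linter.unusedSectionVars false

namespace Cfsg.Agent.H559.CoreA

open Cfsg Cfsg.Agent.H670.Palfy Cfsg.Agent.H672 Cfsg.Agent.H672.RM Cfsg.Agent.H675.Nd
  Cfsg.Agent.Characters.Core Cfsg.Agent.Characters.Clifford

universe u v

section grp

variable {H : Type u} [Group H] [Finite H]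

/-- Two Sylow subgroups contained in `T` are conjugate by an element of `C ⊓ T` if `H / C` is abelian. -/
theorem exists_conj_mem {r : ℕ} [Fact r.Prime] {C T : Subgroup H} (hC : C.Normal)
    (hab : ∀ a b : H, a * b * a⁻¹ * b⁻¹ ∈ C) (Q Q' : Sylow r H) (hQ : (Q : Subgroup H) ≤ T)
    (hQ' : (Q' : Subgroup H) ≤ T) : ∃ k ∈ C ⊓ T, Q' = k • Q := by
  -- `Q C` contains `Q'`
  obtain ⟨g, hg⟩ := MulAction.exists_smul_eq H Q Q'
  have hle : (Q' : Subgroup H) ≤ C ⊔ (Q : Subgroup H) := by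
    intro x hx
    rw [← hg, mem_smul_sylow] at hx
    have h1 : x = (g * (g⁻¹ * x * g) * g⁻¹ * (g⁻¹ * x * g)⁻¹) * (g⁻¹ * x * g) := by group
    rw [h1]
    exact Subgroup.mul_mem_sup (hab _ _) hx
  let X : Subgroup H := (C ⊔ (Q : Subgroup H)) ⊓ T
  have h1 : (Q : Subgroup H) ≤ X := le_inf le_sup_right hQ
  have h2 : (Q' : Subgroup H) ≤ X := le_inf hle hQ'
  obtain ⟨x, hx⟩ := MulAction.exists_smul_eq X (Q.subtype h1) (Q'.subtype h2)
  obtain ⟨hx1, hx2⟩ := x.2
  obtain ⟨c, hc, q, hq, hcq⟩ := Subgroup.mem_sup_of_normal_left.1 hx1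
  refine ⟨c, ⟨hc, ?_⟩, ?_⟩
  · have : c = x * q⁻¹ := by rw [← hcq]; group
    rw [this]
    exact T.mul_mem hx2 (T.inv_mem (hQ hq))
  · apply Sylow.ext
    ext y
    rw [mem_smul_sylow]
    have key : ∀ y : X, (y : H) ∈ (Q' : Subgroup H) ↔ (x : H)⁻¹ * y * x ∈ (Q : Subgroup H) := by
      intro y
      have h3 : y ∈ ((Q'.subtype h2 : Sylow r X) : Subgroup X) ↔
          x⁻¹ * y * x ∈ ((Q.subtype h1 : Sylow r X) : Subgroup X) := by
        rw [← hx, mem_smul_sylow]
      rw [Sylow.coe_subtype, Sylow.coe_subtype, Subgroup.mem_subgroupOf, Subgroup.mem_subgroupOf] at h3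
      exact h3
    have hq' : ∀ y : H, q⁻¹ * y * q ∈ (Q : Subgroup H) ↔ y ∈ (Q : Subgroup H) := by
      intro y
      constructor
      · intro h
        have := (Q : Subgroup H).mul_mem ((Q : Subgroup H).mul_mem hq h) ((Q : Subgroup H).inv_mem hq)
        have e : q * (q⁻¹ * y * q) * q⁻¹ = y := by group
        rwa [e] at this
      · intro h
        exact (Q : Subgroup H).mul_mem ((Q : Subgroup H).mul_mem ((Q : Subgroup H).inv_mem hq) h) hq
    have e : ∀ y : H, (x : H)⁻¹ * y * x = q⁻¹ * (c⁻¹ * y * c) * q := by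
      intro y
      rw [← hcq]
      group
    constructor
    · intro hy
      have := (key ⟨y, h2 hy⟩).1 hy
      rwa [e, hq'] at this
    · intro hy
      have h3 : y ∈ X := by
        have h4 : c⁻¹ * y * c ∈ X := h1 hy
        have hcX : c ∈ X := ⟨Subgroup.mem_sup_left hc, by
          have : c = x * q⁻¹ := by rw [← hcq]; group
          rw [this]
          exact T.mul_mem hx2 (T.inv_mem (hQ hq))⟩
        have := X.mul_mem (X.mul_mem hcX h4) (X.inv_mem hcX)
        have e : c * (c⁻¹ * y * c) * c⁻¹ = y := by group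
        rwa [e] at this
      refine (key ⟨y, h3⟩).2 ?_
      change (x : H)⁻¹ * y * x ∈ _
      rw [e, hq']
      exact hy

/-- Extension of an invariant character to a cyclic extension. -/
theorem exists_ext_cyclic {K T : Subgroup H} {θ : K → ℂ} (hKT : K ≤ T) (hθ : IsIrrCharacter K θ) (hT : T ≤ stab θ)
    [hn : (K.subgroupOf T).Normal] (hcyc : IsCyclic (T ⧸ K.subgroupOf T)) :
    ∃ χ : T → ℂ, IsIrrCharacter T χ ∧ ∀ k : K, χ (Subgroup.inclusion hKT k) = θ k := by
  let e := Subgroup.subgroupOfEquivOfLe hKT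
  obtain ⟨χ, hχ, h1⟩ := S0886.result (K.subgroupOf T) hcyc (θ ∘ e) (isIrr_sub hKT hθ) (fun g n => by
      have h1 := tw_apply' (hT g.2).1 θ (e n)
        (e ⟨g * n * g⁻¹, hn.conj_mem (n : T) n.2 g⟩) (by simp only [e, _root_.Subgroup.subgroupOfEquivOfLe_apply_coe, _root_.Subgroup.coe_mul, _root_.InvMemClass.coe_inv])
      rw [(hT g.2).2] at h1
      exact h1.symm)
  refine ⟨χ, hχ, fun k => ?_⟩
  have h2 : ((e.symm k : K.subgroupOf T) : T) = Subgroup.inclusion hKT k := rfl
  rw [← h2, h1]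
  simp

/-- A quotient of a subgroup of a cyclic extension of `K` is cyclic. -/
theorem isCyclic_quot {K T : Subgroup H} [K.Normal] [hn : (K.subgroupOf T).Normal] {g : H}
    (hg : ∀ c ∈ T, ∃ k : ℕ, c * (g ^ k)⁻¹ ∈ K) : IsCyclic (T ⧸ K.subgroupOf T) := by
  let f : T →* H ⧸ K := (QuotientGroup.mk' K).comp T.subtype
  have hf : ∀ x, f x ∈ Subgroup.zpowers (g : H ⧸ K) := by
    intro x
    obtain ⟨k, hk⟩ := hg x x.2
    refine ⟨k, ?_⟩
    change (g : H ⧸ K) ^ (k : ℤ) = ((x : H) : H ⧸ K)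
    rw [zpow_natCast, ← QuotientGroup.mk_pow, eq_comm, ← mul_inv_eq_one, ← QuotientGroup.mk_inv,
      ← QuotientGroup.mk_mul, QuotientGroup.eq_one_iff]
    exact hk
  let f' : T →* Subgroup.zpowers (g : H ⧸ K) := f.codRestrict _ hf
  have hker : K.subgroupOf T = f'.ker := by
    ext x
    rw [MonoidHom.mem_ker, Subgroup.mem_subgroupOf, ← QuotientGroup.eq_one_iff (N := K)]
    exact ⟨fun h => Subtype.ext h, fun h => congrArg Subtype.val h⟩
  have h1 : IsCyclic (T ⧸ f'.ker) :=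
    isCyclic_of_injective (QuotientGroup.kerLift f') (QuotientGroup.kerLift_injective f')
  let q : (T ⧸ K.subgroupOf T) ≃* (T ⧸ f'.ker) := QuotientGroup.quotientMulEquivOfEq hker
  exact isCyclic_of_injective q.toMonoidHom q.injective

theorem not_dvd_relIndex {r : ℕ} [hr : Fact r.Prime] {A B : Subgroup H} (h1 : ¬ r ∣ B.index)
    (h2 : ¬ r ∣ A.relIndex B) : ¬ r ∣ (A ⊓ B).index := by
  rw [← Subgroup.relIndex_mul_index (inf_le_right : A ⊓ B ≤ B), Subgroup.inf_relIndex_right]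
  intro h
  rcases (Nat.Prime.dvd_mul hr.out).1 h with h | h
  · exact h2 h
  · exact h1 h

end grp

theorem hKle {H : Type u} {V : Type v} [Group H] [AddCommGroup V] [DistribMulAction H V] (v : V) :
    Ker H V ≤ MulAction.stabilizer H v := fun _ hk => hk v

variable {H : Type u} {V : Type v} [Group H] [Finite H] [AddCommGroup V] [Finite V] [DistribMulAction H V]
  {C : Subgroup H} {p n r : ℕ}

theorem coreA_aux [hr : Fact r.Prime] (h : SLD H V C p n) (hu : UF r H (⊥ : AddSubgroup V))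
    (R : Sylow r H) (hR : ¬ Triv V (R : Subgroup H)) {K : Subgroup H} (hKer : K = Ker H V) (hKC : K ≤ C)
    (hKl : ∀ v : V, K ≤ MulAction.stabilizer H v) (hKn : ∀ g : H, g ∈ Subgroup.normalizer (K : Set H))
    (hKnn : K.Normal)
    {ν : K → ℂ} (hν : IsIrrCharacter K ν)
    (h1 : ∀ ψ : H → ℂ, IsIrrCharacter H ψ → Over K.subtype ψ ν → ¬ r ∣ charDegree ψ)
    (h2 : ∀ v : V, v ≠ 0 → ∀ ψ : MulAction.stabilizer H v → ℂ, IsIrrCharacter (MulAction.stabilizer H v) ψ →
      Over (Subgroup.inclusion (hKl v)) ψ ν → ¬ r ∣ (MulAction.stabilizer H v).index * charDegree ψ) : False := by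
  classical
  have hC := h.nrm
  -- every Sylow subgroup fixes a nonzero vector
  have hfix : ∀ Q : Sylow r H, ∃ v : V, v ≠ 0 ∧ ∀ x ∈ (Q : Subgroup H), x • v = v := by
    intro Q
    obtain ⟨v, hv⟩ : ∃ v : V, v ≠ 0 := by
      by_contra hcon
      push Not at hcon
      apply hR
      intro z _ v
      rw [hcon v, smul_zero]
    obtain ⟨Q0, hQ0, -⟩ := hu v hv
    obtain ⟨g, rfl⟩ := MulAction.exists_smul_eq H Q0 Q
    exact ⟨g • v, by rwa [Ne, smul_eq_zero_iff_eq], fix_conj hQ0 g⟩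
  -- the stabilizer of `ν` contains all the Sylow subgroups
  have hT : ∀ Q : Sylow r H, (Q : Subgroup H) ≤ stab ν := by
    intro Q
    obtain ⟨v, hv, hQv⟩ := hfix Q
    obtain ⟨ψ, hψ, ho⟩ := exists_over_incl (hKl v) hν
    have h3 := dvd_of_over (hKl v) (fun x _ => hKn x) hψ hν ho
    have h4 := h2 v hv ψ hψ ho
    have h5 : ¬ r ∣ (MulAction.stabilizer H v).index := fun h5 => h4 (h5.mul_right _)
    have h6 : ¬ r ∣ (stab ν).relIndex (MulAction.stabilizer H v) := fun h6 =>
      h4 (((h6.mul_right _).trans h3).mul_left _)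
    obtain ⟨Q', hQ'⟩ := H670.Palfy.exists_sylow_le _ (not_dvd_relIndex h5 h6)
    obtain ⟨Q0, -, huniq⟩ := hu v hv
    have e1 := huniq Q hQv
    have e2 := huniq Q' (fun x hx => (hQ' hx).2)
    rw [e1, ← e2]
    exact hQ'.trans inf_le_left
  have hTi : ¬ r ∣ (stab ν).index := by
    intro h3
    exact R.not_dvd_index (h3.trans (Subgroup.index_dvd_of_le (hT R)))
  -- the subgroup `K₁`
  obtain ⟨K₁, hK₁⟩ : ∃ K₁ : Subgroup H, K₁ = C ⊓ stab ν := ⟨_, rfl⟩
  have hKK₁ : K ≤ K₁ := hK₁ ▸ le_inf hKC (le_stab (isIrr_isClassFunction hν))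
  have hKT : K ≤ stab ν := hKK₁.trans (hK₁ ▸ inf_le_right)
  have hK₁T : K₁ ≤ stab ν := hK₁ ▸ inf_le_right
  have hK₁C : K₁ ≤ C := hK₁ ▸ inf_le_left
  have hTK₁ : stab ν ≤ Subgroup.normalizer (K₁ : Set H) := by
    intro t ht
    rw [Subgroup.mem_normalizer_iff, hK₁]
    intro x
    constructor
    · rintro ⟨hx1, hx2⟩
      exact ⟨hC.conj_mem x hx1 t, (stab ν).mul_mem ((stab ν).mul_mem ht hx2) ((stab ν).inv_mem ht)⟩
    · rintro ⟨hx1, hx2⟩
      have h3 := hC.conj_mem _ hx1 t⁻¹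
      have h4 := (stab ν).mul_mem ((stab ν).mul_mem ((stab ν).inv_mem ht) hx2) ht
      have e : t⁻¹ * (t * x * t⁻¹) * t = x := by group
      rw [e] at h4
      have e' : t⁻¹ * (t * x * t⁻¹) * t⁻¹⁻¹ = x := by group
      rw [e'] at h3
      exact ⟨h3, h4⟩
  have hI : Inert K (stab ν) ⊤ ν := ⟨le_top, fun x _ => hKn x, hν, by rw [top_inf_eq]⟩
  -- the characters of `K₁` over `ν` are fixed by all the Sylow subgroups
  have hη : ∀ η : K₁ → ℂ, IsIrrCharacter K₁ η → Over (Subgroup.inclusion hKK₁) η ν →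
      ∀ Q : Sylow r H, (Q : Subgroup H) ≤ stab η := by
    intro η hη ho Q
    obtain ⟨ψ, hψ, ho1⟩ := exists_over_incl hK₁T hη
    have ho2 : Over (Subgroup.inclusion hKT) ψ ν := by
      have e : Subgroup.inclusion hKT = (Subgroup.inclusion hK₁T).comp (Subgroup.inclusion hKK₁) := rfl
      rw [e]
      exact (over_comp_iff _ _ (isIrr_isCharacter hψ) hν).2 ⟨η, hη, ho1, ho⟩
    obtain ⟨χ, hχ, -, ho3, hdeg⟩ := hI.lift hψ ho2
    have h3 : ¬ r ∣ charDegree ψ := by
      intro h3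
      let e : H ≃* (⊤ : Subgroup H) := Subgroup.topEquiv.symm
      refine h1 (χ ∘ e) (isIrr_comp e.toMonoidHom e.surjective hχ) ?_ ?_
      · exact (over_congr e (MulEquiv.refl K) K.subtype (Subgroup.inclusion hI.le) (fun _ => rfl) χ ν).2 ho3
      · have : charDegree (χ ∘ e) = charDegree χ := charDegree_comp_one e.toMonoidHom χ
        rw [this, hdeg]
        exact h3.mul_left _
    have h4 := dvd_of_over hK₁T hTK₁ hψ hη ho1
    have h5 : ¬ r ∣ (stab η).relIndex (stab ν) := fun h5 => h3 ((h5.mul_right _).trans h4)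
    obtain ⟨Q', hQ'⟩ := H670.Palfy.exists_sylow_le _ (not_dvd_relIndex hTi h5)
    obtain ⟨k, hk, rfl⟩ := exists_conj_mem hC h.quot Q' Q (hT Q') (hT Q)
    have hk' : k ∈ stab η := le_stab (isIrr_isClassFunction hη) (hK₁ ▸ hk)
    intro x hx
    have h6 := hQ' (mem_smul_sylow.1 hx)
    have h7 := (stab η).mul_mem ((stab η).mul_mem hk' h6.1) ((stab η).inv_mem hk')
    have e : k * (k⁻¹ * x * k) * k⁻¹ = x := by group
    rwa [e] at h7
  -- the extension
  have hn : (K.subgroupOf K₁).Normal := normal_subgroupOf (fun x _ => hKn x)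
  obtain ⟨g, -, hg, -⟩ := h.gen
  have hcyc : IsCyclic (K₁ ⧸ K.subgroupOf K₁) := isCyclic_quot (fun c hc => hKer ▸ hg c (hK₁C hc))
  obtain ⟨ν₁, hν₁, hext⟩ := exists_ext_cyclic hKK₁ hν hK₁T hcyc
  have hK₁K : K₁ ≤ Subgroup.normalizer (K : Set H) := fun x _ => hKn x
  have hab : ⁅K₁, K₁⁆ ≤ K := by
    rw [Subgroup.commutator_le]
    intro a ha b hb
    rw [hKer]
    exact h.comm a (hK₁C ha) b (hK₁C hb)
  have htw : ∀ β : K₁ →* ℂˣ, (∀ k : K, β (Subgroup.inclusion hKK₁ k) = 1) →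
      IsIrrCharacter K₁ (lf β * ν₁) ∧ Over (Subgroup.inclusion hKK₁) (lf β * ν₁) ν := fun β hβ =>
    (gal hKK₁ hK₁K hν hν₁ hext).mapsTo ⟨isIrr_lf β, fun k => by
      rw [lf_apply, lf_apply, hβ, map_one]⟩
  have hone : lf (1 : K₁ →* ℂˣ) * ν₁ = ν₁ := by
    funext t
    simp [lf]
  have hcom : ∀ Q : Sylow r H, ∀ s ∈ (Q : Subgroup H), ∀ t ∈ K₁, s * t * s⁻¹ * t⁻¹ ∈ K := by
    intro Q s hs t ht
    have hsK₁ : s ∈ Subgroup.normalizer (K₁ : Set H) := hTK₁ (hT Q hs)
    have hχs : tw K₁ s ν₁ = ν₁ := by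
      obtain ⟨h3, h4⟩ := htw 1 (fun _ => rfl)
      rw [hone] at h3 h4
      exact (hη ν₁ h3 h4 Q hs).2
    by_contra hcon
    have hst : s * t * s⁻¹ ∈ K₁ := conj_mem_of_mem hsK₁ ⟨t, ht⟩
    obtain ⟨β, hβ, hβ'⟩ := exists_lin_ne (x := (⟨s * t * s⁻¹ * t⁻¹, K₁.mul_mem hst (K₁.inv_mem ht)⟩ : K₁))
      hKK₁ hab hcon
    apply hβ'
    let β' : K₁ →* ℂˣ := β.comp (cj hsK₁).toMonoidHom
    have hβ'J : ∀ k : K, β' (Subgroup.inclusion hKK₁ k) = 1 := by
      intro k
      exact hβ ⟨s * k * s⁻¹, hKnn.conj_mem k k.2 s⟩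
    have hfix' : tw K₁ s (lf β * ν₁) = lf β * ν₁ := by
      obtain ⟨h3, h4⟩ := htw β hβ
      exact (hη _ h3 h4 Q hs).2
    have e1 : lf β' * ν₁ = lf β * ν₁ := by
      rw [← hfix', tw_eq_comp hsK₁]
      have e2 := hχs
      rw [tw_eq_comp hsK₁] at e2
      funext t
      have e3 := congrFun e2 t
      simp only [Function.comp, Pi.mul_apply] at e3 ⊢
      rw [e3]
      rfl
    have e2 : lf β' = lf β := (gal hKK₁ hK₁K hν hν₁ hext).injOn
      ⟨isIrr_lf β', fun k => by rw [lf_apply, lf_apply, hβ'J, map_one]⟩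
      ⟨isIrr_lf β, fun k => by rw [lf_apply, lf_apply, hβ, map_one]⟩ e1
    have e3 : β' ⟨t, ht⟩ = β ⟨t, ht⟩ := by rw [lf_injective e2]
    have e4 : β ⟨s * t * s⁻¹, hst⟩ = β ⟨t, ht⟩ := e3
    have e5 : (⟨s * t * s⁻¹ * t⁻¹, K₁.mul_mem hst (K₁.inv_mem ht)⟩ : K₁) =
      ⟨s * t * s⁻¹, hst⟩ * ⟨t, ht⟩⁻¹ := rfl
    rw [e5, map_mul, map_inv, e4, mul_inv_cancel]
  -- `R` acts trivially
  apply hR
  intro x hx v
  by_cases hv : v = 0
  · rw [hv, smul_zero]
  · obtain ⟨Q, hQ, -⟩ := hu v hv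
    obtain ⟨k, hk, rfl⟩ := exists_conj_mem hC h.quot Q R (hT Q) (hT R)
    have hy := mem_smul_sylow.1 hx
    have hκ := hcom Q _ ((Q : Subgroup H).inv_mem hy) k (hK₁ ▸ hk)
    rw [hKer] at hκ
    have e : x = (k⁻¹ * x * k) * ((k⁻¹ * x * k)⁻¹ * k * ((k⁻¹ * x * k)⁻¹)⁻¹ * k⁻¹) := by group
    rw [e, mul_smul, hκ v]
    exact hQ _ hy

/-- **DEGSOLV 7.** -/
theorem coreA [hr : Fact r.Prime] (h : SLD H V C p n) (hu : UF r H (⊥ : AddSubgroup V))
    (R : Sylow r H) (hR : ¬ Triv V (R : Subgroup H)) (ν : Ker H V → ℂ) (hν : IsIrrCharacter (Ker H V) ν)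
    (h1 : ∀ ψ : H → ℂ, IsIrrCharacter H ψ → Over (Ker H V).subtype ψ ν → ¬ r ∣ charDegree ψ)
    (h2 : ∀ v : V, v ≠ 0 → ∀ ψ : MulAction.stabilizer H v → ℂ, IsIrrCharacter (MulAction.stabilizer H v) ψ →
      Over (Subgroup.inclusion (hKle v)) ψ ν → ¬ r ∣ (MulAction.stabilizer H v).index * charDegree ψ) : False :=
  coreA_aux h hu R hR rfl h.ker hKle (fun g => by rw [Subgroup.normalizer_eq_top]; exact Subgroup.mem_top g)
    inferInstance hν h1 h2

end Cfsg.Agent.H559.CoreA
end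

-- part: H352/Penta
section
/-!
# The pentagon is not the degree graph of a solvable group: `stepA`, `penta1`, `penta2a` (helper352)

Plan of helper670 (DEGSOLV 8, part 1 + 2a).
-/

set_option autoImplicit false
set_option linter.unusedSectionVars false
set_option linter.style.haveILetI false

namespace Cfsg.Agent.H352.Penta

open Cfsg Cfsg.Agent.H670.Palfy Cfsg.Agent.H377.DegSolv Cfsg.Agent.H672

universe u v

section abstract

variable {H : Type u} {V : Type v} [Group H] [AddCommGroup V] [DistribMulAction H V] [Finite H] [Finite V]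

/-- If `b` divides neither `|H : C|` nor `|C : K|` and no element of `D` is divisible by `a` and `b`, where `a` has the
unique fixing property and is nontrivial, then the Sylow `b`-subgroups are normal, commutative and act trivially. -/
theorem half (hH : Group.IsSolvable H) {C : Subgroup H} {l n : ℕ} (hC : SLD H V C l n) {D : Set ℕ}
    (hD : charDegrees H ⊆ D) {k : ℕ} (hc : Cfg D H V k) {a b : ℕ} [ha : Fact a.Prime] [hb : Fact b.Prime]
    (hbC : ¬ b ∣ C.index) (hbc : ¬ b ∣ (Ker H V).relIndex C) (hab : ∀ e ∈ D, a ∣ e → b ∣ e → False)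
    (huf : UF a H (⊥ : AddSubgroup V)) (hA : ∀ A : Sylow a H, ¬ Triv V (A : Subgroup H)) (Y : Sylow b H) :
    (Y : Subgroup H).Normal ∧ (∀ x ∈ (Y : Subgroup H), ∀ y ∈ (Y : Subgroup H), x * y = y * x) ∧
      (Y : Subgroup H) ≤ Ker H V := by
  have hi : ¬ b ∣ (Ker H V).index := by
    rw [← Subgroup.relIndex_mul_index hC.ker]
    intro h
    rcases (Nat.Prime.dvd_mul hb.out).1 h with h | h
    · exact hbc h
    · exact hbC h
  refine sylow_of_normal hH (Ker H V) hi ?_ Y
  rintro e ⟨⟨ν, hν⟩, rfl⟩ hbe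
  obtain ⟨A⟩ : Nonempty (Sylow a H) := inferInstance
  refine H559.CoreA.coreA hC huf A (hA A) ν hν ?_ ?_
  · intro ψ hψ ho hd
    exact hab _ (hD ⟨⟨ψ, hψ⟩, rfl⟩) hd (hbe.trans (charDegree_dvd_of_over (Ker H V) hψ hν ho).1)
  · intro v hv ψ hψ ho hd
    have hn : (Subgroup.inclusion (H559.CoreA.hKle v : Ker H V ≤ MulAction.stabilizer H v)).range.Normal := by
      have h1 : (Subgroup.inclusion (H559.CoreA.hKle v : Ker H V ≤ MulAction.stabilizer H v)).range =
          (Ker H V).subgroupOf (MulAction.stabilizer H v) := Subgroup.inclusion_range _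
      rw [h1]
      exact (inferInstance : (Ker H V).Normal).subgroupOf _
    have h1 := (charDegree_dvd_of_over_hom _ (Subgroup.inclusion_injective _) hn hψ hν ho).1
    obtain ⟨e, he, hde, -⟩ := hc v hv _ ⟨⟨ψ, hψ⟩, rfl⟩
    exact hab e he (hd.trans hde) ((hbe.trans (h1.trans (Dvd.intro_left _ rfl))).trans hde)

/-- **Step A.** -/
theorem stepA (hSL : FactSL.{u, v}) (hH : Group.IsSolvable H) {l n k q s u r : ℕ} (hl : l.Prime) (hn : 0 < n)
    (hV : Nat.card V = l ^ n) (hirr : Irr H V) {D : Set ℕ} (hD : charDegrees H ⊆ D) (hc : Cfg D H V k)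
    (hq : q.Prime) (hs : s.Prime) (hu : u.Prime) (hr : r.Prime) (hqr : q ≠ r)
    (hqs : ∀ e ∈ D, q ∣ e → s ∣ e → False) (hsu : ∀ e ∈ D, s ∣ e → u ∣ e → False)
    (hur : ∀ e ∈ D, u ∣ e → r ∣ e → False)
    (hufq : UF q H (⊥ : AddSubgroup V)) (hufr : UF r H (⊥ : AddSubgroup V))
    (hQ : ∀ Q : Sylow q H, ¬ Triv V (Q : Subgroup H)) (hR : ∀ R : Sylow r H, ¬ Triv V (R : Subgroup H)) :
    (∀ Y : Sylow s H, (Y : Subgroup H).Normal ∧
      (∀ a ∈ (Y : Subgroup H), ∀ b ∈ (Y : Subgroup H), a * b = b * a) ∧ Triv V (Y : Subgroup H)) ∨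
    (∀ Y : Sylow u H, (Y : Subgroup H).Normal ∧
      (∀ a ∈ (Y : Subgroup H), ∀ b ∈ (Y : Subgroup H), a * b = b * a) ∧ Triv V (Y : Subgroup H)) := by
  haveI : Fact q.Prime := ⟨hq⟩
  haveI : Fact s.Prime := ⟨hs⟩
  haveI : Fact u.Prime := ⟨hu⟩
  haveI : Fact r.Prime := ⟨hr⟩
  obtain ⟨Q⟩ : Nonempty (Sylow q H) := inferInstance
  obtain ⟨R⟩ : Nonempty (Sylow r H) := inferInstance
  obtain ⟨C, hC⟩ : ∃ C : Subgroup H, SLD H V C l n := by
    by_cases hql : q = l
    · exact hSL H V l n r hH hl hn hV hirr hr (fun h => hqr (hql.trans h.symm)) hufr ⟨R, hR R⟩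
    · exact hSL H V l n q hH hl hn hV hirr hq hql hufq ⟨Q, hQ Q⟩
  have hqC := (hC.uf q hq hufq Q (hQ Q)).1
  have hrC := (hC.uf r hr hufr R (hR R)).1
  have hCD := hD hC.deg
  have hsC : ¬ s ∣ C.index := fun h => hqs _ hCD hqC h
  have huC : ¬ u ∣ C.index := fun h => hur _ hCD h hrC
  haveI := nontrivial_of_card hl hn hV
  obtain ⟨v, hv⟩ := exists_ne (0 : V)
  obtain ⟨e, he, hde, -⟩ := hc v hv 1 H681.DegBasic.one_mem
  rw [mul_one] at hde
  have hce := (hC.stab v hv).trans hde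
  by_cases hsc : s ∣ (Ker H V).relIndex C
  · right
    intro Y
    have huc : ¬ u ∣ (Ker H V).relIndex C := fun h => hsu e he (hsc.trans hce) (h.trans hce)
    obtain ⟨h1, h2, h3⟩ := half hH hC hD hc huC huc (fun e he h1 h2 => hur e he h2 h1) hufr hR Y
    exact ⟨h1, h2, fun z hz => h3 hz⟩
  · left
    intro Y
    obtain ⟨h1, h2, h3⟩ := half hH hC hD hc hsC hsc hqs hufq hQ Y
    exact ⟨h1, h2, fun z hz => h3 hz⟩

end abstract

section

variable {p q s u r : ℕ} {G : Type u} [Group G]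

theorem ne_all (h : Five p q s u r G) :
    p ≠ q ∧ p ≠ s ∧ p ≠ u ∧ p ≠ r ∧ q ≠ s ∧ q ≠ u ∧ q ≠ r ∧ s ≠ u ∧ s ≠ r ∧ u ≠ r := by
  have := h.nd
  simp only [List.nodup_cons, List.mem_cons, List.not_mem_nil, or_false, not_or] at this
  itauto

end

/-- The kernel of `SW P Y` is contained in the kernel of `V`. -/
theorem ker_SW_le {G : Type u} [Group G] {M P : Subgroup G} [M.Normal] [P.Normal] {H : Subgroup G} {y : ℕ}
    (Y : Sylow y H) (hY : (Y : Subgroup H).Normal)
    (h : ∀ h : H, (∀ w ∈ com (LC P) (Y : Subgroup H), h • w = w) → ∀ v : LC M, h • v = v) :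
    Ker H (SW P Y hY) ≤ Ker H (LC M) := by
  intro x hx
  refine h x fun w hw => ?_
  exact congrArg Sub.val (hx (H670.Palfy.Sub.mk (inv_com (V := LC P) (Y : Subgroup H) hY) w hw))

/-- **Configuration 1.** -/
theorem penta1 (hSL : FactSL.{u, u}) : Penta1.{u} := by
  intro G _ _ hG M _ H p q s u r h5 h
  obtain ⟨l, n, hl, hlp, hn, hV⟩ := h.card
  haveI : Finite (LC M) := Nat.finite_of_card_ne_zero (by rw [hV]; exact (Nat.pow_pos hl.pos).ne')
  haveI hVn := nontrivial_of_card hl hn hV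
  have hH : Group.IsSolvable H := inferInstance
  obtain ⟨hpq, hps, hpu, hpr, hqs, hqu, hqr, hsu, hsr, hur⟩ := ne_all h5
  have key : ∀ x : ℕ, x.Prime → Rho x G → NA p x G →
      UF x H (⊥ : AddSubgroup (LC M)) ∧ ∀ X : Sylow x H, ¬ Triv (LC M) (X : Subgroup H) := by
    intro x hx hrho hna
    haveI : Fact x.Prime := ⟨hx⟩
    have huf : UF x H (⊥ : AddSubgroup (LC M)) := uf_of_cfg hH h.cfg hna
    refine ⟨huf, fun X hX => ?_⟩
    exact h.nt x hx hrho X (huf.normal_of_triv bot_ne_top hX) (comm_of_cfg hH h.cfg hna hVn X) hX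
  obtain ⟨hufq, hQ⟩ := key q h5.hq h5.rq h5.pq
  obtain ⟨hufr, hR⟩ := key r h5.hr h5.rr (na_symm h5.rrp)
  rcases stepA hSL hH hl hn hV h.irr h.cd h.cfg h5.hq h5.hs h5.hu h5.hr hqr h5.qs h5.su h5.ur hufq hufr hQ hR with
    h1 | h1
  · haveI : Fact s.Prime := ⟨h5.hs⟩
    obtain ⟨Y⟩ : Nonempty (Sylow s H) := inferInstance
    obtain ⟨h2, h3, h4⟩ := h1 Y
    exact h.nt s h5.hs h5.rs Y h2 h3 h4
  · haveI : Fact u.Prime := ⟨h5.hu⟩
    obtain ⟨Y⟩ : Nonempty (Sylow u H) := inferInstance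
    obtain ⟨h2, h3, h4⟩ := h1 Y
    exact h.nt u h5.hu h5.ru Y h2 h3 h4

/-- **Configuration 2, `q` and `r` nontrivial on `V`.** -/
theorem penta2a (hSL : FactSL.{u, u}) : Penta2a.{u} := by
  intro G _ _ hG M P _ _ H p q s u r h5 h hM' hQ hR
  have hp := h5.hp
  obtain ⟨n, hn, hV⟩ := h.card
  haveI := finite_V hp h
  haveI := finite_W hp h
  haveI hVn := nontrivial_of_card hp hn hV
  have hH : Group.IsSolvable H := inferInstance
  -- the case of `u`
  have key : ∀ q s u r : ℕ, Five p q s u r G → (∀ Q : Sylow q H, ¬ Triv (LC M) (Q : Subgroup H)) →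
      (∀ Y : Sylow u H, (Y : Subgroup H).Normal ∧
        (∀ a ∈ (Y : Subgroup H), ∀ b ∈ (Y : Subgroup H), a * b = b * a) ∧ Triv (LC M) (Y : Subgroup H)) →
      False := by
    intro q s u r h5 hQ hU
    obtain ⟨hpq, hps, hpu, hpr, hqs, hqu, hqr, hsu, hsr, hur⟩ := ne_all h5
    haveI : Fact q.Prime := ⟨h5.hq⟩
    haveI : Fact s.Prime := ⟨h5.hs⟩
    haveI : Fact u.Prime := ⟨h5.hu⟩
    obtain ⟨U⟩ : Nonempty (Sylow u H) := inferInstance
    obtain ⟨hUn, hUc, hUV⟩ := hU U
    have hUW : ¬ Triv (LC P) (U : Subgroup H) := h.nt u h5.hu hpu.symm h5.ru U hUn hUc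
    have hK : Ker H (SW P U hUn) ≤ Ker H (LC M) := by
      rcases h.ker_or u h5.hu hpu.symm U hUn hUV hUW with h1 | ⟨M', h1, h2, h3⟩
      · exact ker_SW_le U hUn h1
      · exact (hM' M' h1 h2 h3).elim
    obtain ⟨m, C, hm, hcard, hC, hufs, hnts, -, -, hCd⟩ :=
      factB hSL hG hp h hpu.symm hps.symm (na_symm h5.su) h5.rs U hUn hUW
    obtain ⟨S⟩ : Nonempty (Sylow s H) := inferInstance
    have hsC : s ∣ C.index := (hC.uf s h5.hs hufs S (hnts S)).1
    obtain ⟨Q⟩ : Nonempty (Sylow q H) := inferInstance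
    exact hQ Q (hC.triv (fun h3 => h5.qs _ hCd h3 hsC) hK (uf_of_cfg hH h.cfgV h5.pq) Q)
  haveI : Fact q.Prime := ⟨h5.hq⟩
  haveI : Fact r.Prime := ⟨h5.hr⟩
  obtain ⟨hpq, hps, hpu, hpr, hqs, hqu, hqr, hsu, hsr, hur⟩ := ne_all h5
  have hufq : UF q H (⊥ : AddSubgroup (LC M)) := uf_of_cfg hH h.cfgV h5.pq
  have hufr : UF r H (⊥ : AddSubgroup (LC M)) := uf_of_cfg hH h.cfgV (na_symm h5.rrp)
  rcases stepA hSL hH hp hn hV h.irr h.cd h.cfgV h5.hq h5.hs h5.hu h5.hr hqr h5.qs h5.su h5.ur hufq hufr hQ hR with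
    h1 | h1
  · exact key r u s q h5.symm hR h1
  · exact key q s u r h5 hQ h1

end Cfsg.Agent.H352.Penta
end

-- part: H173/Penta/B
section
/-!
# The pentagon, configuration 2b (helper173, plan of helper670)
-/

set_option autoImplicit false
set_option linter.unusedSectionVars false
set_option linter.style.haveILetI false

namespace Cfsg.Agent.H173.Penta

open Cfsg Cfsg.Agent.H670.Palfy Cfsg.Agent.H377.DegSolv Cfsg.Agent.H559.CoreA Subgroup
open Cfsg.Agent.H672 Cfsg.Agent.H672.RM Cfsg.Agent.H675.Nd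

universe u v

theorem bot_ne_top {V : Type*} [AddCommGroup V] [Nontrivial V] : (⊥ : AddSubgroup V) ≠ ⊤ := by
  obtain ⟨v, hv⟩ := exists_ne (0 : V)
  intro h1
  exact hv ((h1 ▸ AddSubgroup.mem_top v : v ∈ (⊥ : AddSubgroup V)))

theorem ne_of_nd {p q s u r : ℕ} (h : [p, q, s, u, r].Nodup) :
    q ≠ p ∧ s ≠ p ∧ u ≠ p ∧ r ≠ p := by
  simp only [List.nodup_cons, List.mem_cons, List.not_mem_nil, or_false, not_or] at h
  exact ⟨Ne.symm h.1.1, Ne.symm h.1.2.1, Ne.symm h.1.2.2.1, Ne.symm h.1.2.2.2⟩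

section

variable {G : Type u} [Group G] [Finite G] {M P : Subgroup G} [M.Normal] [P.Normal] {H : Subgroup G} {p : ℕ}

/-- degrees over the vectors of `[W, Y]` -/
theorem cfgX (h : T2 G M P H p) {y : ℕ} (Y : Sylow y H) (hY : (Y : Subgroup H).Normal) (v : SW P Y hY)
    (hv : v ≠ 0) : ∀ d ∈ Cfsg.charDegrees (MulAction.stabilizer H v),
      ∃ e ∈ Cfsg.charDegrees G, (MulAction.stabilizer H v).index * d ∣ e := by
  intro d hd
  have hst : MulAction.stabilizer H v = MulAction.stabilizer H v.val := by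
    ext x
    rw [MulAction.mem_stabilizer_iff, MulAction.mem_stabilizer_iff]
    exact Sub.smul_eq_iff x v
  have hv0 : v.val ≠ 0 := fun h0 => hv (Sub.ext h0)
  rw [hst] at hd ⊢
  obtain ⟨e, he, h1, -⟩ := h.cfgW v.val hv0 d hd
  exact ⟨e, he, h1⟩

/-- the degree of a character over `ν` is divisible by the degree of `ν` -/
theorem dvd_subtype {T : Type u} [Group T] [Finite T] (K : Subgroup T) [K.Normal] {ψ : T → ℂ}
    (hψ : IsIrrCharacter T ψ) {ν : K → ℂ} (hν : IsIrrCharacter K ν) (ho : Over K.subtype ψ ν) :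
    charDegree ν ∣ charDegree ψ :=
  (Dvd.intro_left _ rfl).trans (index_mul_charDegree_dvd K hψ hν ho)

/-- If `u` does not divide `|H : K([W, Y])|` and `s` (not adjacent to `u`) is nontrivial on `[W, Y]`, the Sylow
`u`-subgroup of `H` is normal, commutative and contained in the kernel of `[W, Y]`. -/
theorem sylow_of_core (hG : Group.IsSolvable G) (hp : p.Prime) (h : T2 G M P H p) {y s u : ℕ} [hs : Fact s.Prime]
    [hu : Fact u.Prime] (hsu : NA s u G) (Y : Sylow y H) (hY : (Y : Subgroup H).Normal) {n : ℕ} {C : Subgroup H}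
    (hC : SLD H (SW P Y hY) C p n) (huf : UF s H (⊥ : AddSubgroup (SW P Y hY))) (S : Sylow s H)
    (hS : ¬ Triv (SW P Y hY) (S : Subgroup H)) (hi : ¬ u ∣ (Ker H (SW P Y hY)).index) (U : Sylow u H) :
    (U : Subgroup H).Normal ∧ (∀ a ∈ (U : Subgroup H), ∀ b ∈ (U : Subgroup H), a * b = b * a) ∧
      (U : Subgroup H) ≤ Ker H (SW P Y hY) := by
  have hH : Group.IsSolvable H := inferInstance
  haveI := finite_W hp h
  refine sylow_of_normal hH (Ker H (SW P Y hY)) hi ?_ U
  rintro _ ⟨⟨ν, hν⟩, rfl⟩ hd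
  refine coreA hC huf S hS ν hν ?_ ?_
  · intro ψ hψ ho hsd
    exact hsu _ (h.cd ⟨⟨ψ, hψ⟩, rfl⟩) hsd (hd.trans (dvd_subtype _ hψ hν ho))
  · intro v hv ψ hψ ho hsd
    obtain ⟨e, he, hde⟩ := cfgX h Y hY v hv _ ⟨⟨ψ, hψ⟩, rfl⟩
    have h1 := dvd_of_over (hKle v) (fun x _ => by
      rw [Subgroup.normalizer_eq_top]; exact Subgroup.mem_top x) hψ hν ho
    have h2 : charDegree ν ∣ charDegree ψ := (Dvd.intro_left _ rfl).trans h1
    exact hsu e he (hsd.trans hde) ((hd.trans h2).trans ((Dvd.intro_left _ rfl).trans hde))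

end

/-- **PENTA-2b.** -/
theorem penta2b (hSL : FactSL.{u, u}) : Penta2b.{u} := by
  intro G _ _ hG M P _ _ H p q s u r h5 h hq hr
  have hp := h5.hp
  haveI := Fact.mk h5.hq
  haveI := Fact.mk h5.hs
  haveI := Fact.mk h5.hu
  haveI := Fact.mk h5.hr
  obtain ⟨hqp, hsp, hup, hrp⟩ := ne_of_nd h5.nd
  haveI := finite_V hp h
  haveI := finite_W hp h
  obtain ⟨a, ha, hV⟩ := h.card
  haveI := nontrivial_of_card hp ha hV
  have hH : Group.IsSolvable H := inferInstance
  have ufq : UF q H (⊥ : AddSubgroup (LC M)) := uf_of_cfg hH h.cfgV fun e he h1 h2 => h5.pq e he h1 h2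
  have ufr : UF r H (⊥ : AddSubgroup (LC M)) := uf_of_cfg hH h.cfgV fun e he h1 h2 => h5.rrp e he h2 h1
  obtain ⟨Q⟩ : Nonempty (Sylow q H) := inferInstance
  obtain ⟨R⟩ : Nonempty (Sylow r H) := inferInstance
  obtain ⟨S⟩ : Nonempty (Sylow s H) := inferInstance
  obtain ⟨U⟩ : Nonempty (Sylow u H) := inferInstance
  have hQn : (Q : Subgroup H).Normal := ufq.normal_of_triv bot_ne_top (hq Q)
  have hQc := comm_of_cfg hH h.cfgV (fun e he h1 h2 => h5.pq e he h1 h2) inferInstance Q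
  have hQW : ¬ Triv (LC P) (Q : Subgroup H) := h.nt q h5.hq hqp h5.rq Q hQn hQc
  have hKV : Ker H (SW P Q hQn) ≤ Ker H (LC M) := by
    intro x hx
    refine h.ker_com q h5.hq hqp h5.pq Q hQn (hq Q) hQW x fun w hw => ?_
    exact congrArg Sub.val (hx (H670.Palfy.Sub.mk (inv_com (V := LC P) (Q : Subgroup H) hQn) w hw))
  have hlt := h.card_com q h5.hq hqp h5.pq Q hQn (hq Q) hQW
  obtain ⟨n, C, hn, hcard, hC, hufs, hnts, -, -, hCd⟩ := factB hSL hG hp h hqp hsp h5.qs h5.rs Q hQn hQW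
  have hsC : s ∣ C.index := (hC.uf s h5.hs hufs S (hnts S)).1
  have huC : ¬ u ∣ C.index := fun h1 => h5.su _ hCd hsC h1
  -- `u` does not divide `c`
  have huc : ¬ u ∣ (Ker H (SW P Q hQn)).relIndex C := by
    intro h1
    have hcf : Cfg (Cfsg.charDegrees G) H (SW P Q hQn) u := by
      intro v hv d hd
      obtain ⟨e, he, hde⟩ := cfgX h Q hQn v hv d hd
      exact ⟨e, he, hde, (h1.trans (hC.stab v hv)).trans ((Dvd.intro _ rfl).trans hde)⟩
    have ufr' : UF r H (⊥ : AddSubgroup (SW P Q hQn)) := uf_of_cfg hH hcf fun e he h2 h3 => h5.ur e he h2 h3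
    have h2 := UF.card_eq hp ufr ufr' hV hC.card ha hn (ufr.card_ne_one (hr R))
    rw [hV, hcard, h2] at hlt
    exact lt_irrefl _ hlt
  have hui : ¬ u ∣ (Ker H (SW P Q hQn)).index := by
    rw [← relIndex_mul_index hC.ker]
    intro h1
    rcases h5.hu.dvd_mul.1 h1 with h1 | h1
    · exact huc h1
    · exact huC h1
  obtain ⟨hUn, hUc, hUK⟩ := sylow_of_core hG hp h h5.su Q hQn hC hufs S (hnts S) hui U
  have hUW : ¬ Triv (LC P) (U : Subgroup H) := h.nt u h5.hu hup h5.ru U hUn hUc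
  obtain ⟨-, -, -, -, -, -, -, hfix, -, -⟩ := factB hSL hG hp h hup hrp h5.ur h5.rr U hUn hUW
  apply hr R
  intro x hx v
  have h1 : x ∈ Ker H (SW P Q hQn) := by
    intro w
    refine Sub.ext (hfix R x hx w.val ?_)
    intro z hz
    exact congrArg Sub.val (hUK hz w)
  exact hKV h1 v

end Cfsg.Agent.H173.Penta
end

-- part: H173/Penta/C
section
/-!
# The pentagon, configuration 2c (helper173, plan of helper670)
-/

set_option autoImplicit false
set_option linter.unusedSectionVars false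
set_option linter.style.haveILetI false

namespace Cfsg.Agent.H173.Penta

open Cfsg Cfsg.Agent.H670.Palfy Cfsg.Agent.H377.DegSolv Subgroup
open Cfsg.Agent.H672 Cfsg.Agent.H672.RM Cfsg.Agent.H675.Nd Cfsg.Agent.Characters.Core

universe u v

section

variable {H : Type u} {V : Type v} [Group H] [AddCommGroup V] [DistribMulAction H V]

theorem uf_congr {z : ℕ} {Y Y' : AddSubgroup V} (e : Y = Y') {hY : Inv H Y} {hY' : Inv H Y'}
    (h : UF z H (⊥ : AddSubgroup (_root_.Cfsg.Agent.H670.Palfy.Sub hY))) : UF z H (⊥ : AddSubgroup (_root_.Cfsg.Agent.H670.Palfy.Sub hY')) := by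
  subst e
  exact h

theorem triv_congr {Z : Subgroup H} {Y Y' : AddSubgroup V} (e : Y = Y') {hY : Inv H Y} {hY' : Inv H Y'}
    (h : ¬ Triv (_root_.Cfsg.Agent.H670.Palfy.Sub hY) Z) : ¬ Triv (_root_.Cfsg.Agent.H670.Palfy.Sub hY') Z := by
  subst e
  exact h

/-- Two invariant subgroups: an irreducible one is contained in the other or meets it trivially. -/
theorem irr_cases {Y Y' : AddSubgroup V} {hY : Inv H Y} (hY' : Inv H Y') (h : Irr H (_root_.Cfsg.Agent.H670.Palfy.Sub hY)) :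
    Y ⊓ Y' = ⊥ ∨ Y ≤ Y' := by
  let val : _root_.Cfsg.Agent.H670.Palfy.Sub hY →+ V := Y.subtype
  have hval : ∀ w : _root_.Cfsg.Agent.H670.Palfy.Sub hY, val w = w.val := fun _ => rfl
  rcases h (Y'.comap val) (fun g w hw => by
    rw [AddSubgroup.mem_comap, hval] at hw ⊢
    exact hY' g _ hw) with h2 | h2
  · left
    rw [eq_bot_iff]
    rintro w ⟨hw1, hw2⟩
    have h3 : H670.Palfy.Sub.mk hY w hw1 ∈ Y'.comap val := hw2
    rw [h2, AddSubgroup.mem_bot] at h3
    exact AddSubgroup.mem_bot.2 (congrArg Sub.val h3)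
  · right
    intro w hw
    have h3 : H670.Palfy.Sub.mk hY w hw ∈ Y'.comap val := by
      rw [h2]; trivial
    exact h3

/-- `Y ∩ [V, Z] = 0`: `Z` acts trivially on `Y` -/
theorem le_fixed {Z : Subgroup H} {Y : AddSubgroup V} (hY : Inv H Y) (h : Y ⊓ com V Z = ⊥) : Y ≤ fixed V Z := by
  intro w hw z hz
  have h1 : z • w - w ∈ Y ⊓ com V Z :=
    AddSubgroup.mem_inf.2 ⟨AddSubgroup.sub_mem _ (hY z w hw) hw, AddSubgroup.subset_closure ⟨z, hz, w, rfl⟩⟩
  rw [h, AddSubgroup.mem_bot] at h1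
  exact sub_eq_zero.1 h1

/-- If each nonzero vector is fixed by exactly one Sylow `s`-subgroup, a nontrivial one, some degree of `N ⧸ Ker` is
divisible by `s` for the subgroups `N` containing all Sylow `s`-subgroups. -/
theorem exists_deg [Finite H] (hH : Group.IsSolvable H) {s : ℕ} [hs : Fact s.Prime]
    (huf : UF s H (⊥ : AddSubgroup V)) (S : Sylow s H) (hS : ¬ Triv V (S : Subgroup H)) (N : Subgroup H)
    (hle : ∀ S : Sylow s H, (S : Subgroup H) ≤ N) :
    ∃ b ∈ Cfsg.charDegrees (N ⧸ (Ker H V).subgroupOf N), s ∣ b := by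
  by_contra hcon
  push Not at hcon
  have hsolv : Group.IsSolvable (N ⧸ (Ker H V).subgroupOf N) := inferInstance
  have hsub : ∀ T : Sylow s H, ∀ x (hx : x ∈ (S : Subgroup H)), ∃ y ∈ (T : Subgroup H), y⁻¹ * x ∈ Ker H V := by
    intro T x hx
    have hf := QuotientGroup.mk'_surjective ((Ker H V).subgroupOf N)
    let S1 : Sylow s (N ⧸ (Ker H V).subgroupOf N) := (S.subtype (hle S)).mapSurjective hf
    let T1 : Sylow s (N ⧸ (Ker H V).subgroupOf N) := (T.subtype (hle T)).mapSurjective hf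
    obtain ⟨hn, -⟩ := im_solvable hsolv hcon S1
    have : Unique (Sylow s (N ⧸ (Ker H V).subgroupOf N)) := Sylow.unique_of_normal _ hn
    have h1 : S1 = T1 := Subsingleton.elim _ _
    have h2 : QuotientGroup.mk' ((Ker H V).subgroupOf N) ⟨x, hle S hx⟩ ∈ (S1 : Subgroup _) :=
      ⟨⟨x, hle S hx⟩, hx, rfl⟩
    rw [h1] at h2
    obtain ⟨y, hy, hyx⟩ := h2
    refine ⟨y, hy, ?_⟩
    have h3 := QuotientGroup.eq.1 hyx
    rw [mem_subgroupOf] at h3
    exact h3
  apply hS
  intro x hx v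
  by_cases hv : v = 0
  · rw [hv, smul_zero]
  obtain ⟨T, hT, -⟩ := huf v hv
  obtain ⟨y, hy, hyx⟩ := hsub T x hx
  have h1 : x = y * (y⁻¹ * x) := by group
  rw [h1, mul_smul, hyx v]
  exact hT y hy

end

/-- `N = A B`, `A`, `B` normal: products of degrees of `N / A` and `N / B` divide degrees of `H`. -/
theorem exists_deg_mul {H : Type u} [Group H] [Finite H] (A B : Subgroup H) [hA : A.Normal] [hB : B.Normal] {a b : ℕ}
    (ha : a ∈ Cfsg.charDegrees (↥(A ⊔ B) ⧸ A.subgroupOf (A ⊔ B)))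
    (hb : b ∈ Cfsg.charDegrees (↥(A ⊔ B) ⧸ B.subgroupOf (A ⊔ B))) :
    ∃ e ∈ Cfsg.charDegrees H, a * b ∣ e := by
  classical
  obtain ⟨β, hβ, hβ1⟩ := H681.DegBasic.mem_charDegrees.1 hb
  have hf := QuotientGroup.mk'_surjective (B.subgroupOf (A ⊔ B))
  have hχ : IsIrrCharacter ↥(A ⊔ B) (β ∘ QuotientGroup.mk' (B.subgroupOf (A ⊔ B))) := isIrr_comp _ hf hβ
  have hsurj : Function.Surjective ((QuotientGroup.mk' (B.subgroupOf (A ⊔ B))).comp
      (A.subgroupOf (A ⊔ B)).subtype) := by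
    intro x
    obtain ⟨⟨n, hn⟩, rfl⟩ := hf x
    obtain ⟨y, hy, z, hz, hyz⟩ := Subgroup.mem_sup_of_normal_left.1 hn
    have hyN : y ∈ A ⊔ B := (le_sup_left : A ≤ A ⊔ B) hy
    refine ⟨⟨⟨y, hyN⟩, mem_subgroupOf.2 hy⟩, ?_⟩
    change (QuotientGroup.mk ⟨y, hyN⟩ : ↥(A ⊔ B) ⧸ B.subgroupOf (A ⊔ B)) = QuotientGroup.mk ⟨n, hn⟩
    rw [QuotientGroup.eq, mem_subgroupOf]
    change y⁻¹ * n ∈ B
    rw [← hyz, inv_mul_cancel_left]
    exact hz
  have hmem := H681.DegBasic.gallagher (QuotientGroup.mk' (A.subgroupOf (A ⊔ B)))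
    (QuotientGroup.mk'_surjective _) (A.subgroupOf (A ⊔ B)) (fun k hk => (QuotientGroup.eq_one_iff _).2 hk) hχ
    (isIrr_comp _ hsurj hβ) (n := b) (by
      change β (QuotientGroup.mk' (B.subgroupOf (A ⊔ B)) 1) = b
      rw [map_one, hβ1]) ha
  obtain ⟨⟨θ, hθ⟩, hθd⟩ := hmem
  obtain ⟨ψ, hψ, ho⟩ := exists_over_subtype (A ⊔ B) hθ
  refine ⟨charDegree ψ, ⟨⟨ψ, hψ⟩, rfl⟩, ?_⟩
  rw [← hθd]
  exact dvd_subtype _ hψ hθ ho

/-- **PENTA-2c.** -/
theorem penta2c (hSL : FactSL.{u, u}) : Penta2c.{u} := by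
  intro G _ _ hG M P _ _ H p q s u r h5 h hq hr
  have hp := h5.hp
  haveI := Fact.mk h5.hq
  haveI := Fact.mk h5.hs
  haveI := Fact.mk h5.hu
  haveI := Fact.mk h5.hr
  obtain ⟨hqp, hsp, hup, hrp⟩ := ne_of_nd h5.nd
  haveI := finite_V hp h
  haveI := finite_W hp h
  obtain ⟨a, ha, hV⟩ := h.card
  haveI := nontrivial_of_card hp ha hV
  have hH : Group.IsSolvable H := inferInstance
  have ufq : UF q H (⊥ : AddSubgroup (LC M)) := uf_of_cfg hH h.cfgV fun e he h1 h2 => h5.pq e he h1 h2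
  have ufr : UF r H (⊥ : AddSubgroup (LC M)) := uf_of_cfg hH h.cfgV fun e he h1 h2 => h5.rrp e he h2 h1
  obtain ⟨Q⟩ : Nonempty (Sylow q H) := inferInstance
  obtain ⟨R⟩ : Nonempty (Sylow r H) := inferInstance
  obtain ⟨S⟩ : Nonempty (Sylow s H) := inferInstance
  obtain ⟨U⟩ : Nonempty (Sylow u H) := inferInstance
  have hQn : (Q : Subgroup H).Normal := ufq.normal_of_triv bot_ne_top (hq Q)
  have hRn : (R : Subgroup H).Normal := ufr.normal_of_triv bot_ne_top (hr R)
  have hQc := comm_of_cfg hH h.cfgV (fun e he h1 h2 => h5.pq e he h1 h2) inferInstance Q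
  have hRc := comm_of_cfg hH h.cfgV (fun e he h1 h2 => h5.rrp e he h2 h1) inferInstance R
  have hQW : ¬ Triv (LC P) (Q : Subgroup H) := h.nt q h5.hq hqp h5.rq Q hQn hQc
  have hRW : ¬ Triv (LC P) (R : Subgroup H) := h.nt r h5.hr hrp h5.rr R hRn hRc
  obtain ⟨n, C, hn, hcard, hC, hufs, hnts, hfixs, -, hCd⟩ := factB hSL hG hp h hqp hsp h5.qs h5.rs Q hQn hQW
  obtain ⟨n', C', hn', hcard', hC', hufu, hntu, hfixu, -, -⟩ :=
    factB hSL hG hp h hrp hup (na_symm h5.ur) h5.ru R hRn hRW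
  have hIq := inv_com (V := LC P) (Q : Subgroup H) hQn
  have hIr := inv_com (V := LC P) (R : Subgroup H) hRn
  have hirq : Irr H (SW P Q hQn) := hufs.irr hp hC.card (hnts S)
  have hirr : Irr H (SW P R hRn) := hufu.irr hp hC'.card (hntu U)
  by_cases heq : com (LC P) (Q : Subgroup H) = com (LC P) (R : Subgroup H)
  · -- equal
    have h1 : UF u H (⊥ : AddSubgroup (SW P Q hQn)) := uf_congr heq.symm hufu
    have h2 : ¬ Triv (SW P Q hQn) (U : Subgroup H) := triv_congr heq.symm (hntu U)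
    exact h5.su _ hCd (hC.uf s h5.hs hufs S (hnts S)).1 (hC.uf u h5.hu h1 U h2).1
  have hinf : com (LC P) (Q : Subgroup H) ⊓ com (LC P) (R : Subgroup H) = ⊥ := by
    rcases irr_cases hIr hirq with h1 | h1
    · exact h1
    rcases irr_cases hIq hirr with h2 | h2
    · rw [inf_comm]; exact h2
    · exact absurd (le_antisymm h1 h2) heq
  have hqf : com (LC P) (Q : Subgroup H) ≤ fixed (LC P) (R : Subgroup H) := le_fixed hIq hinf
  have hrf : com (LC P) (R : Subgroup H) ≤ fixed (LC P) (Q : Subgroup H) := le_fixed hIr (by rw [inf_comm]; exact hinf)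
  have hSB : ∀ S : Sylow s H, (S : Subgroup H) ≤ Ker H (SW P R hRn) := fun S x hx w =>
    Sub.ext (hfixs S x hx w.val (hrf w.mem))
  have hUA : ∀ U : Sylow u H, (U : Subgroup H) ≤ Ker H (SW P Q hQn) := fun U x hx w =>
    Sub.ext (hfixu U x hx w.val (hqf w.mem))
  obtain ⟨b, hb, hsb⟩ := exists_deg hH hufs S (hnts S) (Ker H (SW P Q hQn) ⊔ Ker H (SW P R hRn))
    fun S => (hSB S).trans le_sup_right
  obtain ⟨c, hc, huc⟩ := exists_deg hH hufu U (hntu U) (Ker H (SW P Q hQn) ⊔ Ker H (SW P R hRn))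
    fun U => (hUA U).trans le_sup_left
  obtain ⟨e, he, hde⟩ := exists_deg_mul (Ker H (SW P Q hQn)) (Ker H (SW P R hRn)) hb hc
  exact h5.su e (h.cd he) (hsb.trans ((Dvd.intro _ rfl).trans hde)) (huc.trans ((Dvd.intro_left _ rfl).trans hde))

end Cfsg.Agent.H173.Penta
end
end
end
end
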